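import Cfsg.Agent.Lib.D5.Defs
import Cfsg.Agent.Lib.LS.Weight

/-!
A: no negative reflection.  See `plans/D5.md`.
-/

set_option autoImplicit false

namespace CfsgLib.D5

open Matrix Cfsg Cfsg.Geo CfsgLib.Asch Subgroup
open scoped MatrixGroups

variable {G F : Type*} [Group G] [Field F] {ρ : G →* S5 F}

theorem A_sim_diag [IsAlgClosed F] {A : Type*} (f : A → M5 F) {n : ℕ} (hn : (n : F) ≠ 0)
    (hc : ∀ a b, f a * f b = f b * f a) (hp : ∀ a, f a ^ n = 1) :
    ∃ (B : GL (Fin 5) F) (d : A → V5 F), ∀ a, f a * B = B * diagonal (d a) := by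
  have h1 := LS.iSup_wsp_eq_top (fun a => toLin' (f a)) (fun a b => by
      change toLin' (f a) ∘ₗ toLin' (f b) = toLin' (f b) ∘ₗ toLin' (f a)
      rw [← toLin'_mul, hc, toLin'_mul]) hn fun a => by
    have := congrArg (toLinAlgEquiv' (R := F) (n := Fin 5)) (hp a)
    rwa [map_pow, map_one] at this
  have h2 : ⊤ ≤ Submodule.span F {w : V5 F | ∀ a, ∃ c : F, f a *ᵥ w = c • w} := by
    rw [← h1]
    exact iSup_le fun l w hw => Submodule.subset_span fun a => ⟨l a, LS.mem_wsp.1 hw a⟩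
  let b := Module.Basis.ofSpan h2
  have := Module.Finite.finite_basis b
  have := Fintype.ofFinite ((linearIndepOn_empty F id).extend
    (Set.empty_subset {w : V5 F | ∀ a, ∃ c : F, f a *ᵥ w = c • w}))
  let e := Fintype.equivOfCardEq ((Module.finrank_eq_card_basis b).symm.trans
    (Module.finrank_fintype_fun_eq_card F (η := Fin 5)))
  have key : ∀ a i, ∃ c : F, f a *ᵥ (b.reindex e i) = c • b.reindex e i := fun a i =>
    Module.Basis.ofSpan_subset h2 ⟨e.symm i, (b.reindex_apply e i).symm⟩ a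
  choose d hd using key
  have hu : IsUnit (Matrix.of fun i j => b.reindex e j i : M5 F) :=
    linearIndependent_cols_iff_isUnit.1 (b.reindex e).linearIndependent
  refine ⟨hu.unit, d, fun a => ?_⟩
  ext i j
  have := congrFun (hd a j) i
  rw [IsUnit.unit_spec, mul_diagonal, mul_apply, of_apply, mul_comm]
  exact this

/-- even sign vectors of weight at most two -/
def A_Q (w : Fin 5 → ℤˣ) : Prop := ∏ i, w i = 1 ∧ ∀ i, w ≠ fun j => if j = i then 1 else -1

instance : DecidablePred A_Q := fun _ => inferInstanceAs (Decidable (_ ∧ _))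

theorem A_code : ∀ a, A_Q a → ∀ b, A_Q b → A_Q (a * b) → ∀ x, A_Q x → A_Q (a * x) → A_Q (b * x) →
    A_Q (a * b * x) → a = 1 ∨ b = 1 ∨ b = a ∨ x = 1 ∨ x = a ∨ x = b ∨ x = a * b := by
  decide +kernel

theorem A_card {H : Type*} [Group H] (A : Subgroup H) (h : ∀ a ∈ A, ∀ b ∈ A, ∀ x ∈ A,
    a = 1 ∨ b = 1 ∨ b = a ∨ x = 1 ∨ x = a ∨ x = b ∨ x = a * b) : Nat.card A ≤ 4 := by
  classical
  have key : ∀ a b : H, (∀ x ∈ A, x = 1 ∨ x = a ∨ x = b ∨ x = a * b) → Nat.card A ≤ 4 :=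
    fun a b h => by
      have := Set.ncard_le_ncard (s := (A : Set H)) (t := ({1, a, b, a * b} : Finset H))
        fun x hx => by simpa using h x hx
      rw [Set.ncard_coe_finset] at this
      exact this.trans Finset.card_le_four
  by_cases h1 : ∀ x ∈ A, x = 1
  · exact key 1 1 fun x hx => .inl (h1 x hx)
  push Not at h1
  obtain ⟨a, ha, a1⟩ := h1
  by_cases h2 : ∀ x ∈ A, x = 1 ∨ x = a
  · exact key a 1 fun x hx => (h2 x hx).imp_right .inl
  push Not at h2
  obtain ⟨b, hb, b1, ba⟩ := h2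
  exact key a b fun x hx =>
    (((h a ha b hb x hx).resolve_left a1).resolve_left b1).resolve_left ba

theorem A_q (h2 : (2 : F) ≠ 0) (hn : ∀ d, ¬ IsNg ρ d) {g : G} {w : Fin 5 → ℤˣ}
    (h : mt ρ g = diagonal fun i => ((w i : ℤ) : F)) : A_Q w := by
  refine ⟨?_, fun i e => hn g ⟨Pi.single i 1, Pi.single i 2, ?_, by simp⟩⟩
  · have := det_mt (ρ := ρ) g
    rw [h, det_diagonal, ← Int.cast_prod, ← Units.coe_prod] at this
    refine (Int.units_eq_one_or _).resolve_right fun e => h2 ?_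
    rw [e] at this
    simp only [Units.val_neg, Units.val_one, Int.cast_neg, Int.cast_one] at this
    linear_combination -this
  · rw [h, e]
    ext j k
    by_cases h1 : j = k <;> by_cases h3 : j = i <;> by_cases h4 : k = i <;>
      simp_all [vecMulVec_apply] <;> norm_num

theorem A_three [IsAlgClosed F] (h2 : (2 : F) ≠ 0) (hi : Function.Injective ρ)
    (hn : ∀ d, ¬ IsNg ρ d) (u : Fin 3 → G) (h1 : ∀ i, u i ^ 2 = 1)
    (hc : ∀ i j, u i * u j = u j * u i) : u 0 = 1 ∨ u 1 = 1 ∨ u 1 = u 0 ∨ u 2 = 1 ∨ u 2 = u 0 ∨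
      u 2 = u 1 ∨ u 2 = u 0 * u 1 := by
  obtain ⟨B, d, hd⟩ := A_sim_diag (fun i => mt ρ (u i)) (n := 2) (by simpa using h2)
    (fun i j => by rw [← mt_mul, hc, mt_mul]) fun i => by rw [← mt_pow, h1, mt_one]
  have e1 : ∀ i, mt (cb ρ B) (u i) = diagonal (d i) := fun i => by
    rw [mt_cb, mul_assoc, hd, Units.inv_mul_cancel_left]
  have e2 : ∀ i j, ∃ w : ℤˣ, d i j = ((w : ℤ) : F) := fun i j => by
    have := congrFun (congrFun (mt_pow (ρ := cb ρ B) (u i) 2) j) j
    rw [h1, mt_one, e1, pow_two, diagonal_mul_diagonal, diagonal_apply_eq, one_apply_eq] at this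
    rcases mul_self_eq_one_iff.1 this.symm with e | e
    exacts [⟨1, by simpa using e⟩, ⟨-1, by simpa using e⟩]
  choose w hw using e2
  let P : G → (Fin 5 → ℤˣ) → Prop := fun g w => mt (cb ρ B) g = diagonal fun i => ((w i : ℤ) : F)
  have p : ∀ i, P (u i) (w i) := fun i => (e1 i).trans (congrArg diagonal (funext (hw i)))
  have m : ∀ {g k a b}, P g a → P k b → P (g * k) (a * b) := fun hg hk => by
    simp only [P] at hg hk ⊢
    rw [mt_mul, hg, hk, diagonal_mul_diagonal]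
    simp
  have o : P 1 1 := by simp [P, mt_one]
  have q : ∀ {g a}, P g a → A_Q a := A_q h2 fun d e => hn d ((isNg_cb B).1 e)
  have r : ∀ {g k a b}, P g a → P k b → a = b → g = k := fun hg hk e =>
    mt_inj (cb_injective hi B) (by rw [hg, hk, e])
  exact (A_code _ (q (p 0)) _ (q (p 1)) (q (m (p 0) (p 1))) _ (q (p 2)) (q (m (p 0) (p 2)))
    (q (m (p 1) (p 2))) (q (m (m (p 0) (p 1)) (p 2)))).imp (r (p 0) o) <| .imp (r (p 1) o) <|
    .imp (r (p 1) (p 0)) <| .imp (r (p 2) o) <| .imp (r (p 2) (p 0)) <| .imp (r (p 2) (p 1))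
    (r (p 2) (m (p 0) (p 1)))



theorem rank_two [Finite G] [IsAlgClosed F] (h2 : (2 : F) ≠ 0) (h : Hy ρ)
    (hn : ∀ d, ¬ IsNg ρ d) : PRankLE 2 2 (Bar G) := by
  intro A hA h1
  have lift : ∀ a ∈ A, ∃ u : G, u ^ 2 = 1 ∧ (u : Bar G) = a := fun a ha => by
    obtain ⟨g, rfl⟩ := QuotientGroup.mk_surjective a
    refine ⟨g ^ 5, ?_, ?_⟩
    · rw [← pow_mul, mul_comm, pow_mul]
      exact h.pow_five ((QuotientGroup.eq_one_iff _).1 (h1 _ ha))
    · rw [QuotientGroup.mk_pow, show 5 = 2 * 2 + 1 from rfl, pow_succ, pow_mul, h1 _ ha, one_pow,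
        one_mul]
  have comm : ∀ u v : G, v ^ 2 = 1 → (u : Bar G) ∈ A → (v : Bar G) ∈ A → u * v = v * u :=
    fun u v hv ha hb => by
      have hz : u * v * u⁻¹ * v⁻¹ ∈ center G := (QuotientGroup.eq_one_iff _).1 (by
        have : (u : Bar G) * v = v * u := congrArg Subtype.val (hA.is_comm.comm ⟨_, ha⟩ ⟨_, hb⟩)
        simp [this])
      have h5 := h.pow_five hz
      have h3 : (u * v * u⁻¹ * v⁻¹) ^ 2 = 1 := by
        have c : Commute (u * v * u⁻¹ * v⁻¹) v := (Subgroup.mem_center_iff.1 hz v).symm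
        have := c.mul_pow 2
        rwa [inv_mul_cancel_right, conj_pow, hv, mul_one, mul_inv_cancel, mul_one, eq_comm] at this
      rw [show 5 = 2 * 2 + 1 from rfl, pow_succ, pow_mul, h3, one_pow, one_mul, mul_inv_eq_one,
        mul_inv_eq_iff_eq_mul] at h5
      exact h5
  refine A_card A fun a ha b hb x hx => ?_
  obtain ⟨u, hu, rfl⟩ := lift a ha
  obtain ⟨v, hv, rfl⟩ := lift b hb
  obtain ⟨w, hw, rfl⟩ := lift x hx
  have e1 : ∀ i, ![u, v, w] i ^ 2 = 1 := fun i => by fin_cases i <;> assumption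
  have e2 : ∀ i, ((![u, v, w] i : G) : Bar G) ∈ A := fun i => by fin_cases i <;> assumption
  have := A_three h2 h.inj hn ![u, v, w] e1 fun i j => comm _ _ (e1 j) (e2 i) (e2 j)
  have k : ∀ {g k : G}, g = k → (g : Bar G) = k := congrArg _
  exact this.imp k <| .imp k <| .imp k <| .imp k <| .imp k <| .imp k k

end CfsgLib.D5
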