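import Cfsg.Agent.Lib.D5.BT

/-!
B3: three commuting negative reflections.  See `plans/D5.md`.
-/

set_option autoImplicit false
set_option linter.unusedSectionVars false

namespace CfsgLib.D5

open Matrix Cfsg Cfsg.Geo CfsgLib.Asch Subgroup
open scoped MatrixGroups

variable {G F : Type*} [Group G] [Field F] {ρ : G →* S5 F}

namespace B3

open BN

/-- `2 × 2` matrices -/
abbrev M2 (F : Type*) := Matrix (Fin 2) (Fin 2) F

/-- block diagonal matrices -/
def bl (A B : M2 F) (e : F) : M5 F :=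
  !![A 0 0, A 0 1, 0, 0, 0; A 1 0, A 1 1, 0, 0, 0; 0, 0, B 0 0, B 0 1, 0; 0, 0, B 1 0, B 1 1, 0;
    0, 0, 0, 0, e]

/-- diagonal -/
def dg (s t : F) : M2 F := !![s, 0; 0, t]

/-- antidiagonal -/
def an (s t : F) : M2 F := !![0, t; s, 0]

theorem bl_mul (A B A' B' : M2 F) (e e' : F) :
    bl A B e * bl A' B' e' = bl (A * A') (B * B') (e * e') := by
  ext i j
  fin_cases i <;> fin_cases j <;> simp [bl, Matrix.mul_apply, Fin.sum_univ_five]

theorem bl_inj {A B A' B' : M2 F} {e e' : F} (h : bl A B e = bl A' B' e') :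
    A = A' ∧ B = B' ∧ e = e' := by
  have k := fun i j => congrFun (congrFun h i) j
  refine ⟨?_, ?_, k 4 4⟩
  · ext i j
    fin_cases i <;> fin_cases j
    exacts [k 0 0, k 0 1, k 1 0, k 1 1]
  · ext i j
    fin_cases i <;> fin_cases j
    exacts [k 2 2, k 2 3, k 3 2, k 3 3]

theorem bl_one : bl (1 : M2 F) 1 1 = 1 := by
  ext i j
  fin_cases i <;> fin_cases j <;> simp [bl]

theorem trace_bl (A B : M2 F) (e : F) : (bl A B e).trace = A.trace + B.trace + e := by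
  simp [bl, Matrix.trace, Fin.sum_univ_five]
  ring

theorem dg_dg (a b s t : F) : dg a b * dg s t = dg (a * s) (b * t) := by simp [dg]

theorem dg_an (a b s t : F) : dg a b * an s t = an (b * s) (a * t) := by simp [dg, an]

theorem an_dg (a b s t : F) : an s t * dg a b = an (s * a) (t * b) := by simp [dg, an]

theorem an_an (a b s t : F) : an s t * an a b = dg (t * a) (s * b) := by simp [dg, an]

theorem dg_one : dg (1 : F) 1 = 1 := by
  ext i j
  fin_cases i <;> fin_cases j <;> simp [dg]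

theorem neg_dg (a b : F) : -dg a b = dg (-a) (-b) := by
  ext i j
  fin_cases i <;> fin_cases j <;> simp [dg]

theorem neg_an (a b : F) : -an a b = an (-a) (-b) := by
  ext i j
  fin_cases i <;> fin_cases j <;> simp [an]

theorem dg_neg_one : dg (-1 : F) (-1) = -1 := by rw [← neg_dg, dg_one]

theorem dg_inj {a b s t : F} (h : dg a b = dg s t) : a = s ∧ b = t :=
  ⟨congrFun (congrFun h 0) 0, congrFun (congrFun h 1) 1⟩

theorem diag_eq (a b s t e : F) : diagonal ![a, b, s, t, e] = bl (dg a b) (dg s t) e := by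
  ext i j
  fin_cases i <;> fin_cases j <;> simp [bl, dg]

theorem sg0_eq : sg F 0 = bl (dg 1 (-1)) (-1) (-1) := by
  ext i j
  fin_cases i <;> fin_cases j <;> simp [bl, dg, sg]

theorem sg1_eq : sg F 1 = bl (dg (-1) 1) (-1) (-1) := by
  ext i j
  fin_cases i <;> fin_cases j <;> simp [bl, dg, sg]

theorem sg4_eq : sg F 4 = bl (-1) (-1) 1 := by
  ext i j
  fin_cases i <;> fin_cases j <;> simp [bl, sg]

theorem be_eq (μ : F) : be μ = bl (an μ μ⁻¹) (-1) (-1) := by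
  ext i j
  fin_cases i <;> fin_cases j <;> simp [bl, an, be, mon, Equiv.swap_apply_def]

theorem z1_eq : (diagonal ![-1, -1, 1, 1, 1] : M5 F) = bl (-1) 1 1 := by
  rw [diag_eq, dg_neg_one, dg_one]

/-- monomial -/
def Mo (A : M2 F) : Prop := ∃ s t, s ≠ 0 ∧ t ≠ 0 ∧ (A = dg s t ∨ A = an s t)

/-- monomial reflections -/
def Rf2 (A : M2 F) : Prop := A = dg 1 (-1) ∨ A = dg (-1) 1 ∨ ∃ κ, κ ≠ 0 ∧ A = an κ κ⁻¹

theorem n1_iff {d : G} : N1 ρ d ↔ ∃ r, Rf2 r ∧ mt ρ d = bl r (-1) (-1) := by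
  rw [N1, sg0_eq, sg1_eq]
  constructor
  · rintro (h | h | ⟨μ, hμ, h⟩)
    · exact ⟨_, Or.inl rfl, h⟩
    · exact ⟨_, Or.inr (Or.inl rfl), h⟩
    · exact ⟨_, Or.inr (Or.inr ⟨μ, hμ, rfl⟩), h.trans (be_eq μ)⟩
  · rintro ⟨r, rfl | rfl | ⟨μ, hμ, rfl⟩, h⟩
    · exact Or.inl h
    · exact Or.inr (Or.inl h)
    · exact Or.inr (Or.inr ⟨μ, hμ, h.trans (be_eq μ).symm⟩)

theorem Rf2.trace {A : M2 F} (h : Rf2 A) : A.trace = 0 := by
  rcases h with rfl | rfl | ⟨μ, -, rfl⟩ <;> simp [dg, an]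

theorem Mo.invol {A : M2 F} (h : Mo A) (h2 : A * A = 1) : A = 1 ∨ A = -1 ∨ Rf2 A := by
  obtain ⟨s, t, hs, -, rfl | rfl⟩ := h
  · rw [dg_dg, ← dg_one] at h2
    obtain ⟨e1, e2⟩ := dg_inj h2
    rcases mul_self_eq_one_iff.1 e1 with rfl | rfl <;> rcases mul_self_eq_one_iff.1 e2 with rfl | rfl
    · exact Or.inl dg_one
    · exact Or.inr (Or.inr (Or.inl rfl))
    · exact Or.inr (Or.inr (Or.inr (Or.inl rfl)))
    · exact Or.inr (Or.inl dg_neg_one)
  · rw [an_an, ← dg_one] at h2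
    rw [eq_inv_of_mul_eq_one_left (dg_inj h2).1]
    exact Or.inr (Or.inr (Or.inr (Or.inr ⟨s, hs, rfl⟩)))

theorem Mo.conj_dg {A : M2 F} (h : Mo A) (a : F) :
    A * dg a (-a) = dg a (-a) * A ∨ A * dg a (-a) = -dg a (-a) * A := by
  obtain ⟨s, t, -, -, rfl | rfl⟩ := h
  · left
    rw [dg_dg, dg_dg, mul_comm s, mul_comm t]
  · right
    rw [neg_dg, an_dg, dg_an, neg_neg, mul_comm s, mul_comm t]

theorem dg_conj_an {s : F} (hs : s ≠ 0) (t κ : F) (ht : t ≠ 0) :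
    dg s t * an κ κ⁻¹ = an (κ * t * s⁻¹) (κ * t * s⁻¹)⁻¹ * dg s t := by
  rw [dg_an, an_dg]
  congr 1 <;> field_simp

theorem an_conj_an {s t κ : F} (hs : s ≠ 0) (ht : t ≠ 0) :
    an s t * an κ κ⁻¹ = an (s * t⁻¹ * κ⁻¹) (s * t⁻¹ * κ⁻¹)⁻¹ * an s t := by
  rw [an_an, an_an]
  congr 1 <;> field_simp

theorem Mo.conj_an {A : M2 F} (h : Mo A) {κ : F} (hκ : κ ≠ 0) :
    ∃ κ', κ' ≠ 0 ∧ A * an κ κ⁻¹ = an κ' κ'⁻¹ * A := by
  obtain ⟨s, t, hs, ht, rfl | rfl⟩ := h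
  · exact ⟨_, by simp [hs, ht, hκ], dg_conj_an hs t κ ht⟩
  · exact ⟨_, by simp [hs, ht, hκ], an_conj_an hs ht⟩

theorem p8_blk : ∀ π : Equiv.Perm (Fin 5), P8 π →
    π = 1 ∨ π = Equiv.swap 0 1 ∨ π = Equiv.swap 2 3 ∨ π = Equiv.swap 0 1 * Equiv.swap 2 3 ∨
      (π 0 = 2 ∨ π 0 = 3) ∧ (π 1 = 2 ∨ π 1 = 3) := by decide +kernel

theorem mon_01 (a : V5 F) :
    mon (Equiv.swap 0 1) a = bl (an (a 0) (a 1)) (dg (a 2) (a 3)) (a 4) := by
  ext i j
  fin_cases i <;> fin_cases j <;> simp [bl, dg, an, mon, Equiv.swap_apply_def]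

theorem mon_23 (a : V5 F) :
    mon (Equiv.swap 2 3) a = bl (dg (a 0) (a 1)) (an (a 2) (a 3)) (a 4) := by
  ext i j
  fin_cases i <;> fin_cases j <;> simp [bl, dg, an, mon, Equiv.swap_apply_def]

theorem mon_0123 (a : V5 F) :
    mon (Equiv.swap 0 1 * Equiv.swap 2 3) a = bl (an (a 0) (a 1)) (an (a 2) (a 3)) (a 4) := by
  ext i j
  fin_cases i <;> fin_cases j <;> simp [bl, an, mon, Equiv.swap_apply_def]

theorem mon_id (a : V5 F) : mon 1 a = bl (dg (a 0) (a 1)) (dg (a 2) (a 3)) (a 4) := by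
  ext i j
  fin_cases i <;> fin_cases j <;> simp [bl, dg, mon]

theorem conj_entry {g d : G} {π : Equiv.Perm (Fin 5)} {a : V5 F} (hg : mt ρ g = mon π a)
    (i : Fin 5) : mt ρ (g * d * g⁻¹) (π i) (π i) = mt ρ d i i := by
  have h1 : mt ρ (g * d * g⁻¹) * mt ρ g = mt ρ g * mt ρ d := by
    rw [← mt_mul, ← mt_mul, inv_mul_cancel_right]
  have h2 := congrFun (congrFun h1 (π i)) i
  rw [hg] at h2
  simp only [mon, Matrix.mul_apply, of_apply, mul_ite, mul_zero, Finset.sum_ite_eq',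
    Finset.mem_univ, if_true, EmbeddingLike.apply_eq_iff_eq, ite_mul, zero_mul,
    Finset.sum_ite_eq] at h2
  exact mul_right_cancel₀ (ne_zero_of_mon hg i) (h2.trans (mul_comm _ _))

theorem conj_poly {g x d e : G} {a b : F} (hx : mt ρ x = bl (dg a b) 1 1) (hd : mt ρ d = sg F 0)
    (he : mt ρ e = sg F 1) : (2 : F) • mt ρ (g * x * g⁻¹) =
      (2 : F) • 1 + (a - 1) • (mt ρ (g * d * g⁻¹) + 1) + (b - 1) • (mt ρ (g * e * g⁻¹) + 1) := by
  have h1 : (2 : F) • mt ρ x = (2 : F) • 1 + (a - 1) • (mt ρ d + 1) + (b - 1) • (mt ρ e + 1) := by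
    rw [hx, hd, he]
    ext i j
    fin_cases i <;> fin_cases j <;> simp [bl, dg, sg] <;> ring
  simp only [mt_mul]
  rw [← Matrix.smul_mul, ← Matrix.mul_smul, h1]
  simp only [Matrix.mul_add, Matrix.add_mul, Matrix.mul_smul, Matrix.smul_mul, Matrix.mul_one,
    mt_mul_inv]

variable [Finite G] {S : Sylow 2 G} {c : G}

theorem ext_central {y z : G} (hz : ∀ s ∈ S, s * z = z * s) (hy : IsConj y z) :
    ∃ g, g * y * g⁻¹ = z ∧ ∀ s ∈ S, s * y = y * s → g * s * g⁻¹ ∈ S := by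
  haveI : Fact (Nat.Prime 2) := ⟨Nat.prime_two⟩
  obtain ⟨k, hk⟩ := isConj_iff.1 hy
  have hS : Tech.IsSylowIn 2 (S : Subgroup G) (centralizer {z}) :=
    Tech.IsSylowIn.of_sylow S fun s hs => mem_centralizer_singleton_iff.2 (hz s hs)
  obtain ⟨g, hg, hle⟩ := hS.exists_cj_le
    (Q := Tech.cj k ((S : Subgroup G) ⊓ centralizer {y}))
    (Tech.isPGroup_cj k S.isPGroup'.to_inf_left)
    (by rw [Tech.cj_inf, Tech.cj_centralizer_singleton, hk]; exact inf_le_right)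
  refine ⟨g * k, ?_, fun s hs hc => ?_⟩
  · calc g * k * y * (g * k)⁻¹ = g * (k * y * k⁻¹) * g⁻¹ := by group
      _ = z := by rw [hk, mem_centralizer_singleton_iff.1 hg, mul_inv_cancel_right]
  · rw [← Tech.cj_mul] at hle
    exact Tech.cj_le_iff.1 hle s ⟨hs, mem_centralizer_singleton_iff.2 hc⟩

/-- the situation of B3; `w = diag(-1,-1,1,1,1)` -/
structure Cx (ρ : G →* S5 F) (S : Sylow 2 G) (c w : G) : Prop extends BS ρ S c where
  tw : Two S (N1 ρ)
  no : ∀ d ∈ S, ¬ N2 ρ d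
  wS : w ∈ S
  weq : mt ρ w = diagonal ![-1, -1, 1, 1, 1]

namespace Cx

variable {w : G} (h : Cx ρ S c w)
include h

theorem ng {d : G} (hs : d ∈ S) (hd : IsNg ρ d) : N1 ρ d ∨ d = c := by
  rcases h.toBS.cases hs hd with e | e | e
  · exact Or.inl e
  · exact absurd e (h.no d hs)
  · exact Or.inr e

theorem ne_c {d : G} (hd : N1 ρ d) : d ≠ c := fun e => hd.ne_sg h.two (e ▸ h.eq)

theorem blk {s : G} (hs : s ∈ S) : ∃ A B e, Mo A ∧ Mo B ∧ mt ρ s = bl A B e := by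
  obtain ⟨π, a, hπ, e⟩ := h.mono s hs
  have ha := ne_zero_of_mon e
  rcases p8_blk π hπ with rfl | rfl | rfl | rfl | ⟨h0, h1⟩
  · exact ⟨_, _, _, ⟨_, _, ha 0, ha 1, Or.inl rfl⟩, ⟨_, _, ha 2, ha 3, Or.inl rfl⟩,
      e.trans (mon_id a)⟩
  · exact ⟨_, _, _, ⟨_, _, ha 0, ha 1, Or.inr rfl⟩, ⟨_, _, ha 2, ha 3, Or.inl rfl⟩,
      e.trans (mon_01 a)⟩
  · exact ⟨_, _, _, ⟨_, _, ha 0, ha 1, Or.inl rfl⟩, ⟨_, _, ha 2, ha 3, Or.inr rfl⟩,
      e.trans (mon_23 a)⟩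
  · exact ⟨_, _, _, ⟨_, _, ha 0, ha 1, Or.inr rfl⟩, ⟨_, _, ha 2, ha 3, Or.inr rfl⟩,
      e.trans (mon_0123 a)⟩
  · exfalso
    obtain ⟨d, hd, -, -, nd, -, -⟩ := h.tw
    rcases h.ng (mul_mem (mul_mem hs hd) (inv_mem hs)) (nd.isNg.conj s) with n1 | n1
    · obtain ⟨e2, e3, -⟩ := n1_entries n1
      obtain ⟨f2, f3, f4⟩ := n1_entries nd
      have f0 : mt ρ d 0 0 = -1 := by
        rw [← conj_entry e 0]
        rcases h0 with h0 | h0 <;> rwa [h0]
      have f1 : mt ρ d 1 1 = -1 := by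
        rw [← conj_entry e 1]
        rcases h1 with h1 | h1 <;> rwa [h1]
      have ht := nd.isNg.tr
      simp only [tr, Matrix.trace, diag_apply, Fin.sum_univ_five, f0, f1, f2, f3, f4] at ht
      exact h.two (by linear_combination -ht)
    · refine h.ne_c nd ?_
      rw [mul_inv_eq_iff_eq_mul, ← h.toBS.comm hs] at n1
      exact mul_left_cancel n1

theorem mt_w : mt ρ w = bl (-1) 1 1 := h.weq.trans z1_eq

theorem mt_c : mt ρ c = bl (-1) (-1) 1 := h.eq.trans sg4_eq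

theorem mt_z : mt ρ (w * c) = bl 1 (-1) 1 := by
  rw [mt_mul, h.mt_w, h.mt_c, bl_mul]; simp

theorem comm_w {s : G} (hs : s ∈ S) : s * w = w * s := by
  obtain ⟨A, B, e, -, -, h1⟩ := h.blk hs
  refine mt_inj h.hy.inj ?_
  rw [mt_mul, mt_mul, h1, h.mt_w, bl_mul, bl_mul]; simp

theorem comm_z {s : G} (hs : s ∈ S) : s * (w * c) = w * c * s := by
  rw [← mul_assoc, h.comm_w hs, mul_assoc, h.toBS.comm hs, mul_assoc]

theorem mul_eq_w {a b : G} (ha : N1 ρ a) (hb : N1 ρ b) (hc : a * b = b * a) (hne : a ≠ b) :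
    a * b = w := by
  rcases ha.eq_of_comm h.two hb hc with e | e
  · exact absurd (mul_left_cancel (a := a)
      ((n1_sq h.hy.inj ha).trans (mt_inj h.hy.inj (e.trans mt_one.symm)).symm)) hne
  · exact mt_inj h.hy.inj (e.trans h.weq.symm)

theorem triple {a b e : G} (ha : a ∈ S) (hb : b ∈ S) (he : e ∈ S) (na : IsNg ρ a) (nb : IsNg ρ b)
    (ne : IsNg ρ e) (hab : a * b = b * a) (hae : a * e = e * a) (hbe : b * e = e * b)
    (h1 : a ≠ b) (h2 : a ≠ e) (h3 : b ≠ e) : a * b * e = w * c := by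
  rcases h.ng ha na with ka | rfl <;> rcases h.ng hb nb with kb | rfl <;>
    rcases h.ng he ne with ke | rfl
  · rcases n1_no_three h.two h.hy.inj ka kb ke hab hae with e | e | e <;> contradiction
  · rw [h.mul_eq_w ka kb hab h1]
  · rw [mul_assoc, hbe, ← mul_assoc, h.mul_eq_w ka ke hae h2]
  · exact absurd rfl h3
  · rw [mul_assoc, h.mul_eq_w kb ke hbe h3, h.toBS.comm h.wS]
  · exact absurd rfl h2
  · exact absurd rfl h1
  · exact absurd rfl h1

theorem w_ne : w ≠ 1 := fun e => by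
  have := h.mt_w
  rw [e, mt_one, ← bl_one] at this
  have h1 := congrFun (congrFun (bl_inj this).1 0) 0
  exact neg_one_ne_one h.two (by simpa using h1.symm)

theorem f1 {y d : G} (hy : y ∈ S) (hz : IsConj y (w * c)) (hd : d ∈ S) (nd : N1 ρ d)
    (hc : d * y = y * d) : y = w * c := by
  obtain ⟨g, hg, hS⟩ := ext_central (S := S) (fun s hs => h.comm_z hs) hz
  have n2 : N1 ρ (d * w) := (nd.mul_z h.weq).1
  have nc : IsNg ρ c := isNg_sg h.eq
  have cc : ∀ {a b : G}, a * b = b * a →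
      g * a * g⁻¹ * (g * b * g⁻¹) = g * b * g⁻¹ * (g * a * g⁻¹) := fun {a b} e => by
    rw [conj_mul, conj_mul, e]
  have nn : ∀ {a b : G}, a ≠ b → g * a * g⁻¹ ≠ g * b * g⁻¹ := fun {a b} e e' =>
    e (conj_injective e')
  have key := h.triple (hS d hd hc)
    (hS (d * w) (mul_mem hd h.wS) (by rw [mul_assoc, ← h.comm_w hy, ← mul_assoc, hc, mul_assoc]))
    (hS c h.mem (h.toBS.comm hy).symm) (nd.isNg.conj g) (n2.isNg.conj g) (nc.conj g)
    (cc (by rw [mul_assoc, ← h.comm_w hd])) (cc (h.toBS.comm hd))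
    (cc (h.toBS.comm (mul_mem hd h.wS))) (nn fun e => h.w_ne (left_eq_mul.1 e))
    (nn (h.ne_c nd)) (nn (h.ne_c n2))
  rw [conj_mul, conj_mul, ← mul_assoc d, n1_sq h.hy.inj nd, one_mul] at key
  exact conj_injective (hg.trans key.symm)

theorem f4 {y : G} (hy : y ∈ S) (hz : IsConj y (w * c)) : ¬ IsConj (y * c) (w * c) := by
  intro hc
  obtain ⟨g, hg, hS⟩ := ext_central (S := S) (fun s hs => h.comm_z hs) hz
  have hcS := hS c h.mem (h.toBS.comm hy).symm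
  have hzS : w * c ∈ S := mul_mem h.wS h.mem
  have h1 : IsConj (w * c * (g * c * g⁻¹)) (w * c) := by
    refine IsConj.trans ?_ hc
    rw [← hg, conj_mul]
    exact (isConj_iff.2 ⟨g, rfl⟩).symm
  have h3 : g * c * g⁻¹ ≠ 1 := by
    intro e
    have := ((isNg_sg h.eq).conj g).tr
    rw [e, tr_one] at this
    have h8 : (2 : F) ^ 3 = 0 := by linear_combination this
    exact h.two (pow_eq_zero_iff (by norm_num) |>.1 h8)
  apply h3
  rcases h.ng hcS ((isNg_sg h.eq).conj g) with n1 | e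
  · exact mul_eq_left.1 (h.f1 (mul_mem hzS hcS) h1 hcS n1 (by
      rw [← mul_assoc, h.comm_z hcS]))
  · obtain ⟨d, hd, -, -, nd, -, -⟩ := h.tw
    exact mul_eq_left.1 (h.f1 (mul_mem hzS hcS) h1 hd nd (by
      rw [e, ← mul_assoc, h.comm_z hd, mul_assoc, h.toBS.comm hd, ← mul_assoc]))

theorem neg_of_ne {n : ℕ} {b : G} (hb : b ∈ S) (hn : b ^ 2 ^ n = 1) {A : M2 F} {s t e : F}
    (h1 : mt ρ b = bl A (dg s t) e) (hne : s ≠ t) :
    ∃ b ∈ S, ∃ A s e, mt ρ b = bl A (dg s (-s)) e := by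
  induction n generalizing b A s t e with
  | zero =>
    rw [pow_zero, pow_one] at hn
    rw [hn, mt_one, ← bl_one, ← dg_one] at h1
    obtain ⟨e1, e2⟩ := dg_inj (bl_inj h1).2.1
    exact absurd (e1.symm.trans e2) hne
  | succ n ih =>
    by_cases e1 : s * s = t * t
    · rcases mul_self_eq_mul_self_iff.1 e1 with e2 | e2
      · exact absurd e2 hne
      · exact ⟨b, hb, A, s, e, by rw [h1, e2, neg_neg]⟩
    · refine ih (mul_mem hb hb) ?_ (by rw [mt_mul, h1, bl_mul, dg_dg]) e1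
      rw [← pow_two, ← pow_mul, ← pow_succ']; exact hn

variable [IsAlgClosed F]

theorem no_line (x : F) : ∃ s ∈ S, ∃ A B e, Mo B ∧ mt ρ s = bl A B e ∧
    B 1 0 + B 1 1 * x ≠ (B 0 0 + B 0 1 * x) * x := by
  by_contra hn
  push Not at hn
  obtain ⟨g, hg, e⟩ := line_fixed h.two h.hy S (v := ![0, 0, 1, x, 0])
    (fun e => one_ne_zero (congrFun e 2)) (fun s hs => by
      obtain ⟨A, B, e, -, hB, h1⟩ := h.blk hs
      refine ⟨B 0 0 + B 0 1 * x, ?_⟩
      have h2 := hn s hs A B e hB h1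
      rw [h1]
      funext i
      fin_cases i <;> simp [bl, mulVec, dotProduct, Fin.sum_univ_five, h2]) (isNg_sg h.eq)
  have key : ∀ (A : M2 F) (t : F), mt ρ (g * c * g⁻¹) ≠ bl A (-1) t := by
    intro A t h1
    rw [h1] at e
    have := congrFun e 2
    simp [bl, mulVec, dotProduct, Fin.sum_univ_five] at this
    exact neg_one_ne_one h.two this
  rcases h.ng hg ((isNg_sg h.eq).conj g) with n1 | e1
  · obtain ⟨r, -, h1⟩ := n1_iff.1 n1
    exact key _ _ h1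
  · exact key _ _ (by rw [e1, h.mt_c])

theorem exists_neg {y : G} (hy : y ∈ S) {r y₀ : M2 F} {ε : F} (e : mt ρ y = bl r y₀ ε)
    (h0 : Rf2 y₀) : ∃ b ∈ S, ∃ A B e, Mo A ∧ mt ρ b = bl A B e ∧ B * y₀ = -y₀ * B := by
  have fin : (∃ b ∈ S, ∃ A B e, mt ρ b = bl A B e ∧ B * y₀ = -y₀ * B) →
      ∃ b ∈ S, ∃ A B e, Mo A ∧ mt ρ b = bl A B e ∧ B * y₀ = -y₀ * B := by
    rintro ⟨b, hb, A, B, t, h1, h2⟩
    obtain ⟨A', B', t', hA, -, h3⟩ := h.blk hb
    exact ⟨b, hb, A, B, t, (bl_inj (h1.symm.trans h3)).1 ▸ hA, h1, h2⟩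
  have dia : ∀ a : F, ∃ b ∈ S, ∃ A B e, mt ρ b = bl A B e ∧ B * dg a (-a) = -dg a (-a) * B := by
    intro a
    obtain ⟨b, hb, A, B, t, ⟨p, q, -, -, rfl | rfl⟩, h1, h2⟩ := h.no_line 0
    · simp [dg] at h2
    · exact ⟨b, hb, A, _, t, h1, by rw [neg_dg, an_dg, dg_an, neg_neg, mul_comm p, mul_comm q]⟩
  apply fin
  rcases h0 with rfl | rfl | ⟨μ, hμ, rfl⟩
  · exact dia 1
  · simpa only [neg_neg] using dia (-1)
  · have key : ∃ b ∈ S, ∃ A s t e, mt ρ b = bl A (dg s t) e ∧ s ≠ t := by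
      obtain ⟨b, hb, A, B, t, ⟨p, q, -, -, rfl | rfl⟩, h1, h2⟩ := h.no_line μ
      · refine ⟨b, hb, A, p, q, t, h1, fun e => h2 ?_⟩
        simp [dg, e]
      · refine ⟨b * y, mul_mem hb hy, _, _, _, _, by rw [mt_mul, h1, e, bl_mul, an_an],
          fun e => h2 ?_⟩
        simp only [an, of_apply, cons_val', cons_val_zero, cons_val_one, cons_val_fin_one,
          zero_mul, add_zero, zero_add]
        rw [e, inv_mul_cancel_right₀ hμ]
    obtain ⟨b, hb, A, s, t, e', h1, hne⟩ := key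
    obtain ⟨n, hn⟩ := Tech.isPGroup_iff_mem.1 S.isPGroup' b hb
    obtain ⟨b, hb, A, s, e', h1⟩ := h.neg_of_ne hb hn h1 hne
    refine ⟨b, hb, A, _, e', h1, ?_⟩
    rw [neg_an, dg_an, an_dg]
    congr 1 <;> ring

/-- the cyclic group `C` -/
def cg (ρ : G →* S5 F) (S : Sylow 2 G) : Subgroup Fˣ where
  carrier := {a | ∃ s ∈ S, mt ρ s = bl (dg (a : F) (a : F)⁻¹) 1 1}
  one_mem' := ⟨1, one_mem _, by simp [mt_one, dg_one, bl_one]⟩
  mul_mem' := by
    rintro a b ⟨s, hs, e⟩ ⟨t, ht, f⟩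
    refine ⟨s * t, mul_mem hs ht, ?_⟩
    rw [mt_mul, e, f, bl_mul, dg_dg, Units.val_mul, mul_inv]; simp
  inv_mem' := by
    rintro a ⟨s, hs, e⟩
    refine ⟨s⁻¹, inv_mem hs, mt_inv_eq ?_⟩
    rw [e, bl_mul, dg_dg]
    simp [dg_one, bl_one]

omit h in
theorem finite_cg : Finite (cg ρ S) := by
  choose f hf using fun a : cg ρ S => a.2
  refine Finite.of_injective f fun a b e => ?_
  have := (hf a).2
  rw [e, (hf b).2] at this
  exact Subtype.ext (Units.ext (dg_inj (bl_inj this).1).1.symm)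

theorem anti {y : G} (hy : y ∈ S) (hz : IsConj y (w * c)) (hne : y ≠ w * c) {κ ε : F}
    {y₀ : M2 F} (hκ : κ ≠ 0) (e : mt ρ y = bl (an κ κ⁻¹) y₀ ε) {l : Fˣ} (hl : l ∈ cg ρ S) :
    ∃ x, IsConj x (w * c) ∧ mt ρ x = bl (an (κ * l) (κ * l)⁻¹) y₀ ε := by
  set R : F → Prop := fun k => ∃ x, IsConj x (w * c) ∧ mt ρ x = bl (an k k⁻¹) y₀ ε with hR
  have cjz : ∀ {x : G} (g : G), IsConj x (w * c) → IsConj (g * x * g⁻¹) (w * c) :=
    fun g hx => (isConj_iff.2 ⟨g, rfl⟩).symm.trans hx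
  have rdg : ∀ {g : G} {a b t k : F}, a ≠ 0 → b ≠ 0 → mt ρ g = bl (dg a b) 1 t → R k →
      R (k * b * a⁻¹) := by
    rintro g a b t k ha hb hg ⟨x, hx, ex⟩
    refine ⟨_, cjz g hx, mt_conj_of ex ?_⟩
    rw [hg, bl_mul, bl_mul, dg_conj_an ha b k hb, one_mul, mul_one, mul_comm t]
  have rsq : ∀ {a : Fˣ} {k : F}, a ∈ cg ρ S → R k → R (k * (a * a : Fˣ)) := by
    intro a k ha hk
    obtain ⟨s, -, es⟩ := inv_mem ha
    have := rdg (Units.ne_zero _) (inv_ne_zero (Units.ne_zero _)) es hk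
    rwa [Units.val_inv_eq_inv_val, inv_inv, mul_assoc, ← Units.val_mul] at this
  have r0 : R κ := ⟨y, hz, e⟩
  change R (κ * l)
  by_cases hβ : ∃ β ∈ S, ∃ μ, μ ≠ 0 ∧ mt ρ β = be μ
  · obtain ⟨β, hβ, μ, hμ, eβ⟩ := hβ
    have hm0 : μ * κ⁻¹ ≠ 0 := mul_ne_zero hμ (inv_ne_zero hκ)
    set m : Fˣ := Units.mk0 _ hm0 with hm
    have hk : μ * μ⁻¹⁻¹ * κ⁻¹ = κ * (m * m : Fˣ) := by
      rw [Units.val_mul, hm, Units.val_mk0]; field_simp
    have e1 : mt ρ (β * y * β⁻¹) = bl (an (κ * (m * m : Fˣ)) (κ * (m * m : Fˣ))⁻¹) y₀ ε := by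
      refine mt_conj_of e ?_
      rw [eβ, be_eq, bl_mul, bl_mul, an_conj_an hμ (inv_ne_zero hμ), hk]
      simp
    have r1 : R (κ * (m * m : Fˣ)) := ⟨_, cjz β hz, e1⟩
    have hyy : y * y = 1 := by
      obtain ⟨g, hg⟩ := isConj_iff.1 hz.symm
      rw [← hg, conj_mul, conj_eq_one_iff]
      exact mt_inj h.hy.inj (by rw [mt_mul, h.mt_z, bl_mul, mt_one, ← bl_one]; simp)
    have hy0 : y₀ * y₀ = 1 ∧ ε * ε = 1 := by
      have := congrArg (mt ρ) hyy
      rw [mt_mul, e, bl_mul, mt_one, ← bl_one] at this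
      exact (bl_inj this).2
    have hmm : m * m ∈ cg ρ S := by
      refine ⟨y * (β * y * β⁻¹), mul_mem hy (mul_mem (mul_mem hβ hy) (inv_mem hβ)), ?_⟩
      rw [mt_mul, e, e1, bl_mul, an_an, hy0.1, hy0.2]
      congr 2 <;> field_simp
    have hm1 : m ∉ cg ρ S := by
      intro hm1
      obtain ⟨s, hs, es⟩ := inv_mem hm1
      have e2 : mt ρ (β * s) = bl (an κ κ⁻¹) (-1) (-1) := by
        rw [mt_mul, eβ, be_eq, es, bl_mul, an_dg, Units.val_inv_eq_inv_val, hm, Units.val_mk0,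
          mul_one, mul_one]
        congr 2 <;> field_simp
      refine hne (h.f1 hy hz (mul_mem hβ hs)
        (n1_iff.2 ⟨_, Or.inr (Or.inr ⟨κ, hκ, rfl⟩), e2⟩) (mt_inj h.hy.inj ?_))
      rw [mt_mul, e2, mt_mul, e2, e, bl_mul, bl_mul]
      simp
    have hneg : -1 ∈ cg ρ S := ⟨w, h.wS, by rw [h.mt_w]; simp [dg_neg_one]⟩
    haveI := finite_cg (ρ := ρ) (S := S)
    obtain ⟨γ, hγ⟩ := IsCyclic.exists_generator (α := cg ρ S)
    obtain ⟨i, hi⟩ := hγ ⟨l, hl⟩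
    obtain ⟨j, hj⟩ := hγ ⟨m * m, hmm⟩
    have hi' : (γ : Fˣ) ^ i = l := congrArg Subtype.val hi
    have hj' : (γ : Fˣ) ^ j = m * m := congrArg Subtype.val hj
    have hp : ∀ n : ℤ, (γ : Fˣ) ^ n ∈ cg ρ S := fun n => zpow_mem γ.2 n
    rcases Int.even_or_odd' j with ⟨q, rfl | rfl⟩
    · exfalso
      apply hm1
      rw [two_mul, _root_.zpow_add] at hj'
      have : ((γ : Fˣ) ^ q : Fˣ).1 * ((γ : Fˣ) ^ q : Fˣ).1 = m.1 * m.1 := by
        rw [← Units.val_mul, hj', Units.val_mul]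
      rcases mul_self_eq_mul_self_iff.1 this with e2 | e2
      · exact Units.ext e2 ▸ hp q
      · have : m = -1 * (γ : Fˣ) ^ q := Units.ext (by rw [neg_one_mul, Units.val_neg, e2, neg_neg])
        rw [this]
        exact mul_mem hneg (hp q)
    · rcases Int.even_or_odd' i with ⟨p, rfl | rfl⟩
      · rw [← hi', two_mul, _root_.zpow_add]
        exact rsq (hp p) r0
      · have := rsq (hp (p - q)) r1
        rw [mul_assoc, ← Units.val_mul, ← hj', ← _root_.zpow_add, ← _root_.zpow_add] at this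
        rw [← hi']
        convert this using 4
        ring
  · have nb : ∀ d ∈ S, N1 ρ d → mt ρ d = sg F 0 ∨ mt ρ d = sg F 1 := by
      rintro d hd (h1 | h1 | h1)
      · exact Or.inl h1
      · exact Or.inr h1
      · exact absurd ⟨d, hd, h1⟩ hβ
    obtain ⟨d, hd, d', hd', e0, e1⟩ : ∃ d ∈ S, ∃ d' ∈ S, mt ρ d = sg F 0 ∧ mt ρ d' = sg F 1 := by
      obtain ⟨a, ha, b, hb, na, nb', hab⟩ := h.tw
      rcases nb a ha na with h1 | h1 <;> rcases nb b hb nb' with h2 | h2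
      · exact absurd (mt_inj h.hy.inj (h1.trans h2.symm)) hab
      · exact ⟨a, ha, b, hb, h1, h2⟩
      · exact ⟨b, hb, a, ha, h2, h1⟩
      · exact absurd (mt_inj h.hy.inj (h1.trans h2.symm)) hab
    obtain ⟨g, hg, hS⟩ := h.toBS.ext (isNg_sg e0)
    have hgS := hS d' hd' (mt_inj h.hy.inj (by rw [mt_mul, mt_mul, e0, e1, sg_comm]))
    have eg : mt ρ (g * d * g⁻¹) = sg F 4 := by rw [hg, h.eq]
    have hl0 : (l : F) ≠ 0 := l.ne_zero
    rcases h.ng hgS ((isNg_sg e1).conj g) with n1 | e2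
    · rcases nb _ hgS n1 with e2 | e2
      · obtain ⟨t, -, et⟩ := hl
        have h1 := conj_poly (g := g) et e0 e1
        have h2 : mt ρ (g * t * g⁻¹) = bl (dg (l : F)⁻¹ 1) 1 l := by
          refine smul_right_injective _ h.two ?_
          simp only []
          rw [h1, eg, e2]
          ext i j
          fin_cases i <;> fin_cases j <;> simp [bl, dg, sg] <;> ring
        have := rdg (inv_ne_zero hl0) one_ne_zero h2 r0
        rwa [inv_inv, mul_one] at this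
      · obtain ⟨t, -, et⟩ := inv_mem hl
        rw [Units.val_inv_eq_inv_val, inv_inv] at et
        have h1 := conj_poly (g := g) et e0 e1
        have h2 : mt ρ (g * t * g⁻¹) = bl (dg 1 (l : F)) 1 (l : F)⁻¹ := by
          refine smul_right_injective _ h.two ?_
          simp only []
          rw [h1, eg, e2]
          ext i j
          fin_cases i <;> fin_cases j <;> simp [bl, dg, sg] <;> ring
        have := rdg one_ne_zero hl0 h2 r0
        rwa [inv_one, mul_one] at this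
    · exfalso
      have := congrArg (mt ρ) (conj_injective (e2.trans hg.symm))
      rw [e0, e1] at this
      have h1 := congrFun (congrFun this 0) 0
      exact neg_one_ne_one h.two (by simpa [sg] using h1)

theorem false : False := by
  have hzS : w * c ∈ S := mul_mem h.wS h.mem
  have hzz : w * c * (w * c) = 1 :=
    mt_inj h.hy.inj (by rw [mt_mul, h.mt_z, bl_mul, mt_one, ← bl_one]; simp)
  have hz1 : w * c ≠ 1 := fun e => by
    have := h.mt_z
    rw [e, mt_one, ← bl_one] at this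
    have h1 := congrFun (congrFun (bl_inj this).2.1 0) 0
    exact neg_one_ne_one h.two (by simpa using h1.symm)
  haveI : Fact (Nat.Prime 2) := ⟨Nat.prime_two⟩
  obtain ⟨g, hy, hne⟩ := not_isolated h.hy S (orderOf_eq_prime (by rw [pow_two, hzz]) hz1) hzS
  have hz : IsConj (g * (w * c) * g⁻¹) (w * c) := (isConj_iff.2 ⟨g, rfl⟩).symm
  have hyy : g * (w * c) * g⁻¹ * (g * (w * c) * g⁻¹) = 1 := by rw [conj_mul, hzz]; group
  generalize g * (w * c) * g⁻¹ = y at hy hne hz hyy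
  have nc : ∀ d ∈ S, N1 ρ d → d * y ≠ y * d := fun d hd nd e => hne (h.f1 hy hz hd nd e)
  obtain ⟨r, y₀, ε, hr, h0, e⟩ := h.blk hy
  have hsq := congrArg (mt ρ) hyy
  rw [mt_mul, e, bl_mul, mt_one, ← bl_one] at hsq
  obtain ⟨q1, q2, q3⟩ := bl_inj hsq
  have hr' : Rf2 r := by
    obtain ⟨d, hd, -, -, nd, -, -⟩ := h.tw
    obtain ⟨r', -, ed⟩ := n1_iff.1 nd
    rcases hr.invol q1 with rfl | rfl | h1
    · exact absurd (mt_inj h.hy.inj (by rw [mt_mul, mt_mul, e, ed, bl_mul, bl_mul]; simp))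
        (nc d hd nd)
    · exact absurd (mt_inj h.hy.inj (by rw [mt_mul, mt_mul, e, ed, bl_mul, bl_mul]; simp))
        (nc d hd nd)
    · exact h1
  have h0' : Rf2 y₀ := by
    have ht := tr_isConj (ρ := ρ) hz
    rw [tr, tr, e, h.mt_z, trace_bl, trace_bl, hr'.trace] at ht
    rcases h0.invol q2 with rfl | rfl | h1
    · exfalso
      have : ε = -1 := by
        simp only [trace_one, trace_neg, Fintype.card_fin] at ht
        linear_combination ht
      refine nc (y * (w * c)) (mul_mem hy hzS) (n1_iff.2 ⟨r, hr', ?_⟩) ?_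
      · rw [mt_mul, e, h.mt_z, bl_mul, this]; simp
      · rw [mul_assoc, h.comm_z hy]
    · exfalso
      have : ε = 3 := by
        simp only [trace_one, trace_neg, Fintype.card_fin] at ht
        linear_combination ht
      rw [this] at q3
      have h8 : (2 : F) ^ 3 = 0 := by linear_combination q3
      exact h.two (pow_eq_zero_iff (by norm_num) |>.1 h8)
    · exact h1
  obtain ⟨b, hb, A, B, t, hA, eb, hB⟩ := h.exists_neg hy e h0'
  have hbS : b * y * b⁻¹ ∈ S := mul_mem (mul_mem hb hy) (inv_mem hb)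
  have key : ∀ r' : M2 F, A * r = r' * A → mt ρ (b * y * b⁻¹ * c) = bl (-r') y₀ ε := by
    intro r' hr'
    rw [mt_mul, mt_conj_of (B := bl r' (-y₀) ε) e
      (by rw [eb, bl_mul, bl_mul, hr', hB, mul_comm t]), h.mt_c, bl_mul]
    simp
  apply h.f4 hbS ((isConj_iff.2 ⟨b, rfl⟩).symm.trans hz)
  have dia : ∀ a : F, r = dg a (-a) → IsConj (b * y * b⁻¹ * c) (w * c) := by
    rintro a rfl
    rcases hA.conj_dg a with h1 | h1
    · obtain ⟨d, hd, -, -, nd, -, -⟩ := h.tw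
      obtain ⟨r', rfl | rfl | ⟨μ, hμ, rfl⟩, ed⟩ := n1_iff.1 nd
      · exact absurd (mt_inj h.hy.inj (by
          rw [mt_mul, mt_mul, e, ed, bl_mul, bl_mul, dg_dg, dg_dg]; simp)) (nc d hd nd)
      · exact absurd (mt_inj h.hy.inj (by
          rw [mt_mul, mt_mul, e, ed, bl_mul, bl_mul, dg_dg, dg_dg]; simp)) (nc d hd nd)
      · have h2 : mt ρ (d * y * d⁻¹) = bl (-dg a (-a)) y₀ ε := by
          refine mt_conj_of e ?_
          rw [ed, bl_mul, bl_mul, neg_dg, an_dg, dg_an, neg_neg, mul_comm μ, mul_comm μ⁻¹]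
          simp
        rw [mt_inj h.hy.inj ((key _ h1).trans h2.symm)]
        exact (isConj_iff.2 ⟨d, rfl⟩).symm.trans hz
    · have h2 := key _ h1
      rw [neg_neg, ← e] at h2
      rwa [mt_inj h.hy.inj h2]
  rcases hr' with h1 | h1 | ⟨κ, hκ, rfl⟩
  · exact dia 1 h1
  · exact dia (-1) (by rwa [neg_neg])
  · obtain ⟨κ', hκ', h1⟩ := hA.conj_an hκ
    have h2 := key _ h1
    have hl0 : κ⁻¹ * -κ' ≠ 0 := mul_ne_zero (inv_ne_zero hκ) (neg_ne_zero.2 hκ')
    obtain ⟨x, hx, ex⟩ := h.anti hy hz hne hκ e (l := Units.mk0 _ hl0)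
      ⟨y * (b * y * b⁻¹ * c), mul_mem hy (mul_mem hbS h.mem), by
        rw [mt_mul, e, h2, bl_mul, neg_an, an_an, q2, q3, Units.val_mk0]
        congr 2
        field_simp⟩
    rw [Units.val_mk0, mul_inv_cancel_left₀ hκ, inv_neg, ← neg_an, ← h2] at ex
    rwa [← mt_inj h.hy.inj ex]

end Cx

end B3

variable [Finite G] [IsAlgClosed F] {S : Sylow 2 G} {c : G}

theorem BS.not_three (h : BS ρ S c) (h1 : Two S (N1 ρ)) (h2 : ∀ d ∈ S, ¬ N2 ρ d) : False := by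
  obtain ⟨w, hw, e⟩ := h.exists_z h1
  exact B3.Cx.false (w := w) ⟨h, h1, h2, hw, e⟩

end CfsgLib.D5
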