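import Cfsg.Agent.Lib.D5.B50c

/-!
B50: a unique frame; normal form.  See `plans/D5.md`.
-/

set_option autoImplicit false
set_option linter.unusedSectionVars false

namespace CfsgLib.D5

open Matrix Cfsg Cfsg.Geo CfsgLib.Asch Subgroup
open scoped MatrixGroups

variable {G F : Type*} [Group G] [Field F] {ρ : G →* S5 F}

open B5T B5B B5C

namespace B5P

theorem two_cases (h2 : (2 : F) ≠ 0) (inj : Function.Injective ρ) {S : Subgroup G} (n1 : ¬ NC S (N1 ρ))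
    {d e : G} (hd : d ∈ S) (he : e ∈ S) (nd : N1 ρ d) (ne : N1 ρ e) (de : d ≠ e) :
    mt ρ (d * e) = diagonal ![-1, -1, 1, 1, 1] ∧ ∀ f ∈ S, N1 ρ f → f = d ∨ f = e := by
  have dd : d * d = 1 := let ⟨_, _, k⟩ := nd.isNg; k.mul_self inj
  have key : ∀ f ∈ S, N1 ρ f → f = d ∨ mt ρ (d * f) = diagonal ![-1, -1, 1, 1, 1] := fun f hf nf =>
    (nd.eq_of_comm h2 nf (by_contra fun k => n1 ⟨d, hd, f, hf, nd, nf, k⟩)).imp_left fun k =>
      mul_left_cancel ((mt_inj inj (k.trans mt_one.symm)).trans dd.symm)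
  have k := (key e he ne).resolve_left de.symm
  exact ⟨k, fun f hf nf => (key f hf nf).imp_right fun k' => mul_left_cancel (mt_inj inj (k'.trans k.symm))⟩

theorem p8_z : ∀ ψ : Equiv.Perm (Fin 5), P8 ψ → (∀ j, (ψ⁻¹ j = 0 ∨ ψ⁻¹ j = 1) ↔ (j = 0 ∨ j = 1)) ∨
    ∀ j, (ψ⁻¹ j = 0 ∨ ψ⁻¹ j = 1) ↔ (j = 2 ∨ j = 3) := by
  decide +kernel

theorem z_p8 : ∀ ψ : Equiv.Perm (Fin 5), ψ 4 = 4 → ((∀ j, (ψ⁻¹ j = 0 ∨ ψ⁻¹ j = 1) ↔ (j = 0 ∨ j = 1)) ∨
    ∀ j, (ψ⁻¹ j = 0 ∨ ψ⁻¹ j = 1) ↔ (j = 2 ∨ j = 3)) → P8 ψ := by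
  decide +kernel

theorem p8_four : ∀ ψ : Equiv.Perm (Fin 5), P8 ψ → ψ 4 = 4 := by decide +kernel

theorem p8_cases : ∀ π : Equiv.Perm (Fin 5), P8 π → ∃ i j k : Fin 2, π = Equiv.swap 0 1 ^ i.1 *
    Equiv.swap 2 3 ^ j.1 * (Equiv.swap 0 2 * Equiv.swap 1 3) ^ k.1 := by
  decide +kernel

theorem z1_eq : (![-1, -1, 1, 1, 1] : V5 F) = fun p => if p = 0 ∨ p = 1 then -1 else - -1 := by
  funext p
  fin_cases p <;> simp

theorem z2_eq {z c : G} (hz : mt ρ z = diagonal fun p => if p = 0 ∨ p = 1 then -1 else - -1)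
    (hc : mt ρ c = sg F 4) : mt ρ (z * c) = diagonal fun p => if p = 2 ∨ p = 3 then -1 else - -1 := by
  rw [mt_diag_mul hz hc]
  congr 1
  funext p
  fin_cases p <;> simp

/-- the columns `f0 ± i f1`, `f2 ± i f3`, `f4` -/
def qm (ι : F) : M5 F := !![1, 1, 0, 0, 0; ι, -ι, 0, 0, 0; 0, 0, 1, 1, 0; 0, 0, ι, -ι, 0; 0, 0, 0, 0, 1]

theorem exists_q (h2 : (2 : F) ≠ 0) {ι : F} (hι : ι * ι = -1) : ∃ Q : GL (Fin 5) F, (Q : M5 F) = qm ι := by
  have : qm ι * ((2 : F)⁻¹ • !![1, -ι, 0, 0, 0; 1, ι, 0, 0, 0; 0, 0, 1, -ι, 0; 0, 0, 1, ι, 0; 0, 0, 0, 0, 2]) = 1 := by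
    rw [Matrix.mul_smul, inv_smul_eq_iff₀ h2]
    ext p q
    fin_cases p <;> fin_cases q <;> simp [qm, mul_apply, Fin.sum_univ_five, hι] <;> norm_num
  exact ⟨⟨_, _, this, mul_eq_one_comm.1 this⟩, rfl⟩

theorem cb_mon {Q : GL (Fin 5) F} {g : G} {π π' : Equiv.Perm (Fin 5)} {a a' : V5 F} (h : mt ρ g = mon π a)
    (k : ∀ p q, a p * (Q : M5 F) p q = (Q : M5 F) (π p) (π' q) * a' q) : mt (cb ρ Q) g = mon π' a' := by
  have : mon π a * (Q : M5 F) = Q * mon π' a' := by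
    ext r q
    obtain ⟨p, rfl⟩ := π.surjective r
    simpa [mon, mul_apply] using k p q
  rw [mt_cb, h, mul_assoc, this, ← mul_assoc, Units.inv_mul, one_mul]

theorem pw {α : F} (hα : α * α = -1) {i j m : ℕ} (h : i + j = m + m) : α ^ j * (-1) ^ (m + j) = α ^ i := by
  have h0 : α ≠ 0 := fun e => by rw [e, mul_zero] at hα; exact one_ne_zero (neg_eq_zero.1 hα.symm)
  refine mul_right_cancel₀ (pow_ne_zero j h0) ?_
  rw [← pow_add, h, pow_add α m, ← mul_pow, hα, mul_right_comm, ← mul_pow, hα, pow_add, mul_left_comm,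
    ← mul_pow]
  simp

/-- the monomial group of type `PSp₄(3)` -/
def xm (ρ : G →* S5 F) : Submonoid G where
  carrier := {g | ∃ (π : Equiv.Perm (Fin 5)) (t : V5 F), P8 π ∧
    mt ρ g = mon π (fun j => ((Equiv.Perm.sign π : ℤ) : F) * t j) ∧ t 4 = 1 ∧
    (∀ k, k ≠ 4 → t k * t ((Equiv.swap 0 1 * Equiv.swap 2 3 : Equiv.Perm (Fin 5)) k) = 1) ∧
    ∀ k l, k ≠ 4 → l ≠ 4 → t k * t k = t l * t l}
  one_mem' := ⟨1, 1, BH.p8_one, by simp [mt_one, mon_one], rfl, fun _ _ => mul_one _, fun _ _ _ _ => rfl⟩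
  mul_mem' := by
    rintro g k ⟨π, t, p, e, t4, t1, t2⟩ ⟨σ, u, q, e', u4, u1, u2⟩
    have s4 := p8_four σ q
    have n4 : ∀ j, j ≠ 4 → σ j ≠ 4 := fun j hj r => hj (σ.injective (r.trans s4.symm))
    refine ⟨π * σ, fun j => t (σ j) * u j, BH.p8_mul p q, ?_, by simp [s4, t4, u4], fun j hj => ?_,
      fun j l hj hl => ?_⟩
    · rw [mt_mon_mul e e']
      congr 1
      funext j
      simp only [map_mul, Units.val_mul, Int.cast_mul]
      ring
    · have := t1 _ (n4 j hj)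
      rw [← Equiv.Perm.mul_apply, ← q, Equiv.Perm.mul_apply] at this
      beta_reduce
      rw [mul_mul_mul_comm, this, u1 j hj, mul_one]
    · beta_reduce
      rw [mul_mul_mul_comm, t2 _ _ (n4 j hj) (n4 l hl), u2 _ _ hj hl, mul_mul_mul_comm]

theorem mem_xm {g : G} {π : Equiv.Perm (Fin 5)} {a : V5 F} (t : V5 F) (p : P8 π) (h : mt ρ g = mon π a)
    (e : ∀ j, a j = ((Equiv.Perm.sign π : ℤ) : F) * t j) (t4 : t 4 = 1) (t0 : t 0 * t 1 = 1) (t2 : t 2 * t 3 = 1)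
    (s1 : t 1 * t 1 = t 0 * t 0) (s2 : t 2 * t 2 = t 0 * t 0) (s3 : t 3 * t 3 = t 0 * t 0) : g ∈ xm ρ := by
  have key : ∀ k, k ≠ 4 → t k * t k = t 0 * t 0 := fun k hk => by
    fin_cases k
    exacts [rfl, s1, s2, s3, absurd rfl hk]
  refine ⟨π, t, p, h.trans (congrArg _ (funext e)), t4, fun k hk => ?_, fun k l hk hl => (key k hk).trans (key l hl).symm⟩
  fin_cases k
  exacts [t0, (mul_comm _ _).trans t0, t2, (mul_comm _ _).trans t2, absurd rfl hk]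

/-- the normal form in the final basis -/
theorem tp_core (h2 : (2 : F) ≠ 0) {S : Subgroup G} {ι : F} (hι : ι * ι = -1) {d : Fin 5 → G} {x y : G}
    (dS : ∀ i, d i ∈ S) (xS : x ∈ S) (yS : y ∈ S)
    (gen : ∀ M : Submonoid G, (∀ i, d i ∈ M) → x ∈ M → y ∈ M → ∀ s ∈ S, s ∈ M)
    (h0 : mt ρ (d 0) = mon (Equiv.swap 0 1) ![1, 1, -1, -1, -1]) (h1 : mt ρ (d 1) = mon (Equiv.swap 0 1) fun _ => -1)
    (h2' : mt ρ (d 2) = mon (Equiv.swap 2 3) ![-1, -1, 1, 1, -1]) (h3 : mt ρ (d 3) = mon (Equiv.swap 2 3) fun _ => -1)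
    (h4 : mt ρ (d 4) = mon 1 ![-1, -1, -1, -1, 1])
    (hx : mt ρ x = mon (Equiv.swap 0 1 * Equiv.swap 2 3) ![ι, -ι, ι, -ι, 1])
    (hy : mt ρ y = mon (Equiv.swap 0 2 * Equiv.swap 1 3) fun _ => 1) : TP ρ S := by
  have s01 : Equiv.Perm.sign (Equiv.swap (0 : Fin 5) 1) = -1 := Equiv.Perm.sign_swap (by decide)
  have s23 : Equiv.Perm.sign (Equiv.swap (2 : Fin 5) 3) = -1 := Equiv.Perm.sign_swap (by decide)
  have s02 : Equiv.Perm.sign (Equiv.swap (0 : Fin 5) 2 * Equiv.swap 1 3) = 1 := by decide +kernel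
  have le := gen (xm ρ) (fun i => by
      fin_cases i
      · exact mem_xm ![-1, -1, 1, 1, 1] (by decide) h0 (fun j => by fin_cases j <;> simp [s01]) rfl (by simp) (by simp)
          (by simp) (by simp) (by simp)
      · exact mem_xm 1 (by decide) h1 (fun j => by simp [s01]) rfl (by simp) (by simp) (by simp) (by simp) (by simp)
      · exact mem_xm ![1, 1, -1, -1, 1] (by decide) h2' (fun j => by fin_cases j <;> simp [s23]) rfl (by simp) (by simp)
          (by simp) (by simp) (by simp)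
      · exact mem_xm 1 (by decide) h3 (fun j => by simp [s23]) rfl (by simp) (by simp) (by simp) (by simp) (by simp)
      · exact mem_xm ![-1, -1, -1, -1, 1] (by decide) h4 (fun j => by simp) rfl (by simp) (by simp) (by simp) (by simp) (by simp))
    (mem_xm ![ι, -ι, ι, -ι, 1] (by decide) hx (fun j => by simp [s01, s23]) rfl (by simp [hι]) (by simp [hι]) (by simp)
      (by simp) (by simp))
    (mem_xm 1 (by decide) hy (fun j => by rw [s02]; simp) rfl (by simp) (by simp) (by simp) (by simp) (by simp))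
  have pp : ∀ {g : G} {π : Equiv.Perm (Fin 5)}, mt ρ g = pm F π → ∀ n : ℕ, mt ρ (g ^ n) = pm F (π ^ n) := by
    intro g π e n
    induction n with
    | zero => rw [pow_zero, pow_zero, mt_one, BH.pm_one]
    | succ n ih => rw [pow_succ, pow_succ, mt_mul, ih, e, BH.pm_mul]
  have prim : IsPrimitiveRoot ι (2 ^ (1 + 1)) := by
    rw [← orderOf_eq_prime_pow (x := ι) (fun e => h2 (by linear_combination hι - e)) (by linear_combination (ι * ι - 1) * hι)]
    exact IsPrimitiveRoot.orderOf ι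
  have inv : ι⁻¹ = -ι := inv_eq_of_mul_eq_one_right (by linear_combination -hι)
  refine ⟨⟨fun s hs => let ⟨π, _, p, e, _⟩ := le s hs; ⟨π, _, p, e⟩, fun π p => ?_⟩, 1, ι, le_rfl, prim, fun t => ⟨?_, ?_⟩⟩
  · obtain ⟨i, j, k, rfl⟩ := p8_cases π p
    exact ⟨_, mul_mem (mul_mem (pow_mem (dS 1) i) (pow_mem (dS 3) j)) (pow_mem yS k), by
      rw [mt_mul, mt_mul, pp (π := Equiv.swap 0 1) (h1.trans (by simp [pm, s01])),
        pp (π := Equiv.swap 2 3) (h3.trans (by simp [pm, s23])),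
        pp (π := Equiv.swap 0 2 * Equiv.swap 1 3) (hy.trans (by rw [pm, s02]; simp)), BH.pm_mul, BH.pm_mul]⟩
  · rintro ⟨s, hs, e⟩
    obtain ⟨π, u, -, e', u4, u1, u2⟩ := le s hs
    obtain ⟨rfl, e2⟩ := mon_unique e' (e.trans (mon_one t).symm)
    obtain rfl : u = t := by simpa using e2
    have a0 : u 0 * u 1 = 1 := u1 0 (by decide)
    have a2 : u 2 * u 3 = 1 := u1 2 (by decide)
    have b1 := u2 0 1 (by decide) (by decide)
    obtain ⟨i, -, hi⟩ := prim.eq_pow_of_pow_eq_one (ξ := u 0)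
      (by linear_combination (u 0 * u 0) * b1 + (u 0 * u 1 + 1) * a0)
    have fin : ∀ j, u 2 = ι ^ j → u = ![ι ^ i, ι⁻¹ ^ i, ι ^ j, ι⁻¹ ^ j, 1] := fun j hj => funext fun p => by
      fin_cases p
      · exact hi.symm
      · exact (eq_inv_of_mul_eq_one_right a0).trans (by rw [← hi, ← inv_pow]; rfl)
      · exact hj
      · exact (eq_inv_of_mul_eq_one_right a2).trans (by rw [hj, ← inv_pow]; rfl)
      · exact u4
    rcases mul_self_eq_mul_self_iff.1 (u2 2 0 (by decide) (by decide)) with k | k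
    · exact ⟨i, i, ⟨i, rfl⟩, fin i (k.trans hi.symm)⟩
    · exact ⟨i, i + 2, ⟨i + 1, by ring⟩, fin _ (by rw [k, ← hi, pow_add, pow_two, hι, mul_neg_one])⟩
  · rintro ⟨i, j, ⟨m, hm⟩, rfl⟩
    have e1 := mt_mon_mul (mt_mon_mul h1 h3) hx
    have e2 := mt_mon_mul h0 h1
    rw [show Equiv.swap (0 : Fin 5) 1 * Equiv.swap 2 3 * (Equiv.swap 0 1 * Equiv.swap 2 3) = 1 by decide +kernel,
      mon_one] at e1
    rw [Equiv.swap_mul_self, mon_one] at e2
    refine ⟨_, mul_mem (pow_mem (mul_mem (mul_mem (dS 1) (dS 3)) xS) j) (pow_mem (mul_mem (dS 0) (dS 1)) (m + j)), ?_⟩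
    rw [mt_mul, mt_pow, mt_pow, e1, e2, diagonal_pow, diagonal_pow, diagonal_mul_diagonal, inv]
    congr 1
    funext p
    fin_cases p <;> simp [Equiv.swap_apply_def]
    · exact pw hι hm
    · exact pw (by linear_combination hι) hm

end B5P

open B5P

variable [Finite G] [IsAlgClosed F] {S : Sylow 2 G} {c : G}

/-- the normal form for a diagonal frame -/
theorem BS.b50_tp (h : BS ρ S c) (hE : ∀ i, ∃ d ∈ S, mt ρ d = sg F i)
    (hD : ∀ d ∈ S, IsNg ρ d → ∃ i, mt ρ d = sg F i) : ∃ B, TP (cb ρ B) S := by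
  have inj := h.hy.inj
  have hT := (h.diag_x hE hD).1
  obtain ⟨ev, v4⟩ := h.diag_four hE hD
  have sw : Equiv.Perm.sign (Equiv.swap (0 : Fin 5) 1 * Equiv.swap 2 3) = 1 := by decide +kernel
  have sw' : Equiv.Perm.sign (Equiv.swap (0 : Fin 5) 2 * Equiv.swap 1 3) = 1 := by decide +kernel
  have sq : ∀ s ∈ S, ∀ π a, mt ρ s = mon π a → π * π = 1 → ∀ j, a (π j) * a j * (a (π j) * a j) = 1 :=
    fun s hs π a e p => hT _ ⟨_, mul_mem hs hs, by rw [mt_mon_mul e e, p, mon_one]⟩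
  obtain ⟨x, xS, a, ha, a0, a2, a4⟩ : ∃ x ∈ S, ∃ a : V5 F, mt ρ x = mon (Equiv.swap 0 1 * Equiv.swap 2 3) a ∧
      a 0 * a 1 = 1 ∧ a 2 * a 3 = 1 ∧ a 4 = 1 := by
    obtain ⟨x, xS, a, ha⟩ := v4 _ (by decide) sw
    have k := sq x xS _ a ha (by decide +kernel)
    have k1 : a 0 * a 1 * (a 0 * a 1) = 1 := k 1
    have k3 : a 2 * a 3 * (a 2 * a 3) = 1 := k 3
    have hd := det_of_mon ha
    rw [sw, Units.val_one, Int.cast_one, one_mul] at hd
    have k4 : a 4 * a 4 = 1 := by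
      linear_combination (a 0 * a 1 * a 2 * a 3 * a 4 + 1) * hd - (a 4 * a 2 * a 3) ^ 2 * k1 - a 4 ^ 2 * k3
    obtain ⟨e, he, e1⟩ := e_mem (M := S.1.toSubmonoid) hE (e := ![a 0 * a 1, 1, a 2 * a 3, 1, a 4])
      (fun i => by fin_cases i <;> simp [k1, k3, k4]) (by simp; linear_combination hd)
    exact ⟨_, mul_mem xS he, _, mt_mon_diag ha e1, by simp; linear_combination k1, by simp; linear_combination k3, k4⟩
  obtain ⟨y, yS, b, hb, b0, b1, b4⟩ : ∃ y ∈ S, ∃ b : V5 F, mt ρ y = mon (Equiv.swap 0 2 * Equiv.swap 1 3) b ∧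
      b 0 * b 2 = 1 ∧ b 1 * b 3 = 1 ∧ b 4 = 1 := by
    obtain ⟨x, xS, a, ha⟩ := v4 _ (by decide) sw'
    have k := sq x xS _ a ha (by decide +kernel)
    have k1 : a 0 * a 2 * (a 0 * a 2) = 1 := k 2
    have k3 : a 1 * a 3 * (a 1 * a 3) = 1 := k 3
    have hd := det_of_mon ha
    rw [sw', Units.val_one, Int.cast_one, one_mul] at hd
    have k4 : a 4 * a 4 = 1 := by
      linear_combination (a 0 * a 1 * a 2 * a 3 * a 4 + 1) * hd - (a 4 * a 1 * a 3) ^ 2 * k1 - a 4 ^ 2 * k3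
    obtain ⟨e, he, e1⟩ := e_mem (M := S.1.toSubmonoid) hE (e := ![a 0 * a 2, a 1 * a 3, 1, 1, a 4])
      (fun i => by fin_cases i <;> simp [k1, k3, k4]) (by simp; linear_combination hd)
    exact ⟨_, mul_mem xS he, _, mt_mon_diag ha e1, by simp; linear_combination k1, by simp; linear_combination k3, k4⟩
  obtain ⟨y, yS, b, hb, b0, b1, b4, κ⟩ : ∃ y ∈ S, ∃ b : V5 F, mt ρ y = mon (Equiv.swap 0 2 * Equiv.swap 1 3) b ∧
      b 0 * b 2 = 1 ∧ b 1 * b 3 = 1 ∧ b 4 = 1 ∧ a 1 * b 3 * (a 2 * b 0) = 1 := by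
    have k : a 1 * b 3 * (a 2 * b 0) * (a 1 * b 3 * (a 2 * b 0)) = 1 :=
      sq _ (mul_mem xS yS) _ _ (mt_mon_mul ha hb) (by decide +kernel) 0
    obtain ⟨e, he, e1⟩ := e_mem (M := S.1.toSubmonoid) hE
      (e := ![a 1 * b 3 * (a 2 * b 0), 1, a 1 * b 3 * (a 2 * b 0), 1, 1])
      (fun i => by fin_cases i <;> simp [k]) (by simp [k])
    exact ⟨_, mul_mem yS he, _, mt_mon_diag hb e1, by simp; linear_combination (b 0 * b 2) * k + b0, by simp [b1],
      by simp [b4], by simp; linear_combination k⟩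
  have an := ne_zero_of_mon ha
  have bn := ne_zero_of_mon hb
  let u : Fin 5 → Fˣ := ![1, Units.mk0 _ (an 0), Units.mk0 _ (bn 0), Units.mk0 _ (bn 0) * Units.mk0 _ (an 2), 1]
  have hx : mt (cb ρ (BH.dgl u)) x = mon (Equiv.swap 0 1 * Equiv.swap 2 3) fun _ => 1 := by
    rw [BH.cb_dgl u ha]
    congr 1
    funext j
    have := an 0
    have := an 2
    have := bn 0
    fin_cases j <;> simp [u, Equiv.swap_apply_def, a4] <;> field_simp
    · linear_combination a0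
    · linear_combination a2
  have hy : mt (cb ρ (BH.dgl u)) y = mon (Equiv.swap 0 2 * Equiv.swap 1 3) fun _ => 1 := by
    rw [BH.cb_dgl u hb]
    congr 1
    funext j
    have := an 0
    have := an 2
    have := bn 0
    fin_cases j <;> simp [u, Equiv.swap_apply_def, b4] <;> field_simp
    · linear_combination (a 2 * b 0 * a 0 * a 1) * b1 + a 2 * b 0 * a0 - b 1 * a 0 * κ
    · linear_combination b0
    · linear_combination a 0 * κ - b 3 * b 0 * a 2 * a0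
  have xx : x * x = 1 := mt_inj (cb_injective inj (BH.dgl u)) (by
    rw [mt_mon_mul hx hx, show Equiv.swap (0 : Fin 5) 1 * Equiv.swap 2 3 * (Equiv.swap 0 1 * Equiv.swap 2 3) = 1 by
      decide +kernel, mon_one, mt_one]; simp)
  have yy : y * y = 1 := mt_inj (cb_injective inj (BH.dgl u)) (by
    rw [mt_mon_mul hy hy, show Equiv.swap (0 : Fin 5) 2 * Equiv.swap 1 3 * (Equiv.swap 0 2 * Equiv.swap 1 3) = 1 by
      decide +kernel, mon_one, mt_one]; simp)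
  choose d dS hd using hE
  have hd' : ∀ i, mt (cb ρ (BH.dgl u)) (d i) = mon 1 fun j => if j = i then 1 else -1 := fun i =>
    (BH.cb_dgl_diag u (hd i)).trans (mon_one _).symm
  obtain ⟨ι, hι⟩ := IsAlgClosed.exists_eq_mul_self (-1 : F)
  obtain ⟨Q, hQ⟩ := exists_q h.two hι.symm
  refine ⟨BH.dgl u * Q, ?_⟩
  rw [← cb_cb]
  refine tp_core h.two hι.symm dS xS yS (fun M dM xM yM s hs => ?_) (cb_mon (hd' 0) ?_) (cb_mon (hd' 1) ?_)
    (cb_mon (hd' 2) ?_) (cb_mon (hd' 3) ?_) (cb_mon (hd' 4) ?_) (cb_mon hx ?_) (cb_mon hy ?_)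
  · have dg : ∀ s ∈ S, ∀ t, mt ρ s = mon 1 t → s ∈ M := fun s hs t e => by
      obtain ⟨s', h1, h2⟩ := e_mem (M := M) (fun i => ⟨d i, dM i, hd i⟩) (hT t ⟨s, hs, e.trans (mon_one t)⟩)
        (by simpa using det_of_mon e)
      rwa [mt_inj inj (e.trans ((mon_one t).trans h2.symm))]
    have dx : ∀ s ∈ S, ∀ t, mt ρ s = mon (Equiv.swap 0 1 * Equiv.swap 2 3) t → s ∈ M := fun s hs t e => by
      have := mul_mem (dg _ (mul_mem hs xS) _ ((mt_mon_mul e ha).trans (congrArg (mon · _) (by decide +kernel)))) xM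
      rwa [mul_assoc, xx, mul_one] at this
    obtain ⟨π, t, p, e⟩ := h.mono s hs
    rcases v4_dec π p (ev s hs π t e) with rfl | rfl | rfl | rfl
    · exact dg s hs t e
    · exact dx s hs t e
    · have := mul_mem (dg _ (mul_mem hs yS) _ ((mt_mon_mul e hb).trans (congrArg (mon · _) (by decide +kernel)))) yM
      rwa [mul_assoc, yy, mul_one] at this
    · have := mul_mem (dx _ (mul_mem hs yS) _ ((mt_mon_mul e hb).trans (congrArg (mon · _) (by decide +kernel)))) yM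
      rwa [mul_assoc, yy, mul_one] at this
  all_goals
    intro p q
    rw [hQ]
    fin_cases p <;> fin_cases q <;> simp [qm, Equiv.swap_apply_def, ← hι]

theorem BS.tp_of_comm (h : BS ρ S c) (h1 : Two S (N1 ρ)) (h2 : Two S (N2 ρ))
    (n1 : ¬ NC S (N1 ρ)) (n2 : ¬ NC S (N2 ρ)) : ∃ B, TP (cb ρ B) S := by
  have inj := h.hy.inj
  obtain ⟨d0, s0, d1, s1, a0, a1, ne1⟩ := h1
  obtain ⟨d2, s2, d3, s3, a2, a3, ne2⟩ := h2
  obtain ⟨hz, c1⟩ := two_cases h.two inj n1 s0 s1 a0 a1 ne1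
  obtain ⟨B0, hB0⟩ := exists_flip (G := G) (F := F)
  obtain ⟨f1, -⟩ := hB0 ρ
  obtain ⟨-, c2⟩ := two_cases h.two (cb_injective inj B0) (S := S) (by rwa [funext fun d => propext (f1 d)]) s2 s3
    ((f1 _).2 a2) ((f1 _).2 a3) ne2
  have k1 : ∀ {d e}, d ∈ S → e ∈ S → N1 ρ d → N1 ρ e → d * e = e * d := fun hd he nd ne =>
    by_contra fun k => n1 ⟨_, hd, _, he, nd, ne, k⟩
  have k2 : ∀ {d e}, d ∈ S → e ∈ S → N2 ρ d → N2 ρ e → d * e = e * d := fun hd he nd ne =>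
    by_contra fun k => n2 ⟨_, hd, _, he, nd, ne, k⟩
  have m1 : ∀ {d e}, N1 ρ d → N2 ρ e → d ≠ e := fun nd ne k => nd.not_N2 h.two (k ▸ ne)
  have m2 : ∀ {d}, N1 ρ d → d ≠ c := fun nd k => nd.ne_sg h.two (k ▸ h.eq)
  have m3 : ∀ {d}, N2 ρ d → d ≠ c := fun nd k => nd.ne_sg h.two (k ▸ h.eq)
  have dS : ∀ i, ![d0, d1, d2, d3, c] i ∈ S := fun i => by
    fin_cases i
    exacts [s0, s1, s2, s3, h.mem]
  have fr : Fr ρ ![d0, d1, d2, d3, c] := by
    refine ⟨fun i => ?_, fun i j => ?_, fun i j => ?_⟩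
    · fin_cases i
      exacts [a0.isNg, a1.isNg, a2.isNg, a3.isNg, isNg_sg h.eq]
    · fin_cases i <;> fin_cases j
      exacts [rfl, k1 s0 s1 a0 a1, a0.comm inj a2, a0.comm inj a3, h.comm s0,
        k1 s1 s0 a1 a0, rfl, a1.comm inj a2, a1.comm inj a3, h.comm s1,
        (a0.comm inj a2).symm, (a1.comm inj a2).symm, rfl, k2 s2 s3 a2 a3, h.comm s2,
        (a0.comm inj a3).symm, (a1.comm inj a3).symm, k2 s3 s2 a3 a2, rfl, h.comm s3,
        (h.comm s0).symm, (h.comm s1).symm, (h.comm s2).symm, (h.comm s3).symm, rfl]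
    · fin_cases i <;> fin_cases j <;> intro e
      exacts [rfl, absurd e ne1, absurd e (m1 a0 a2), absurd e (m1 a0 a3), absurd e (m2 a0),
        absurd e ne1.symm, rfl, absurd e (m1 a1 a2), absurd e (m1 a1 a3), absurd e (m2 a1),
        absurd e (m1 a0 a2).symm, absurd e (m1 a1 a2).symm, rfl, absurd e ne2, absurd e (m3 a2),
        absurd e (m1 a0 a3).symm, absurd e (m1 a1 a3).symm, absurd e ne2.symm, rfl, absurd e (m3 a3),
        absurd e (m2 a0).symm, absurd e (m2 a1).symm, absurd e (m3 a2).symm, absurd e (m3 a3).symm, rfl]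
  obtain ⟨B, hB⟩ := fr.exists_std h.two inj
  have hD : ∀ d ∈ S, IsNg (cb ρ B) d → ∃ i, mt (cb ρ B) d = sg F i := fun d hd nd => by
    rcases h.cases hd ((isNg_cb B).1 nd) with k | k | rfl
    · rcases c1 d hd k with rfl | rfl
      exacts [⟨0, hB 0⟩, ⟨1, hB 1⟩]
    · rcases c2 d hd ((f1 _).2 k) with rfl | rfl
      exacts [⟨2, hB 2⟩, ⟨3, hB 3⟩]
    · exact ⟨4, hB 4⟩
  have inj' := cb_injective inj B
  rw [z1_eq] at hz
  have hz' : mt (cb ρ B) (d0 * d1) = diagonal fun p => if p = 0 ∨ p = 1 then -1 else - -1 := by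
    rw [← z1_eq, mt_mul]
    exact (congrArg₂ (· * ·) (hB 0) (hB 1)).trans (sg_mul 1)
  have h' : BS (cb ρ B) S c := by
    refine ⟨h.hy.cb B, h.two, fun s hs => ?_, h.mem, hB 4, fun d hd => h.cls d ((isNg_cb B).1 hd)⟩
    obtain ⟨π, hπ⟩ := b50a_perm inj' h.two hB hD (g := s) fun i => mul_mem (mul_mem hs (dS i)) (inv_mem hs)
    obtain ⟨a, ha⟩ := mon_of_perm h.two hB hπ
    refine ⟨π, a, z_p8 π (fr.inj ((hπ 4).symm.trans (mul_inv_eq_iff_eq_mul.2 (h.comm hs)))) ?_, ha⟩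
    obtain ⟨ψ, b, p, hb⟩ := h.mono s hs
    have e1 := b50a_conj_diag hb hz
    have e2 := b50a_conj_diag ha hz'
    have n0 : (-1 : F) ≠ 0 := neg_ne_zero.2 one_ne_zero
    refine (p8_z ψ p).imp (fun k j => ?_) fun k j => ?_
    · rw [mt_inj inj (e1.trans ((congrArg _ (funext fun j => if_congr (k j) rfl rfl)).trans hz.symm)), hz'] at e2
      exact (ite_iff h.two n0 (congrFun (diagonal_injective e2) j)).symm
    · rw [mt_inj inj (e1.trans ((congrArg _ (funext fun j => if_congr (k j) rfl rfl)).trans (z2_eq hz h.eq).symm)),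
        z2_eq (c := c) hz' (hB 4)] at e2
      exact (ite_iff h.two n0 (congrFun (diagonal_injective e2) j)).symm
  obtain ⟨C, hC⟩ := h'.b50_tp (fun i => ⟨_, dS i, hB i⟩) hD
  exact ⟨B * C, cb_cb (ρ := ρ) B C ▸ hC⟩

end CfsgLib.D5
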