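import Cfsg.Agent.Lib.D5.BN

/-!
BH: homocyclic tori, Weyl bases.  See `plans/D5.md`.
-/

set_option autoImplicit false

namespace CfsgLib.D5

open Matrix Cfsg Cfsg.Geo CfsgLib.Asch Subgroup
open scoped MatrixGroups

variable {G F : Type*} [Group G] [Field F] {ρ : G →* S5 F}

namespace BH

theorem sign_dec : ∀ b u : Fin 5 → Bool, (∃ i, b i = true) →
    (b 0 ^^ b 1 ^^ b 2 ^^ b 3 ^^ b 4) = false → (u 0 ^^ u 1 ^^ u 2 ^^ u 3 ^^ u 4) = false →
    ∃ c0 c1 c2 c3 : Bool, ∀ i, u i = ((c0 && b i) ^^ (c1 && b (i + 1)) ^^ (c2 && b (i + 1 + 1)) ^^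
      (c3 && b (i + 1 + 1 + 1))) := by
  decide +kernel

theorem cyc_dec : ∀ π : Equiv.Perm (Fin 5), π ^ 5 = 1 → π ≠ 1 →
    ∃ e : Equiv.Perm (Fin 5), ∀ j, π (e j) = e (j + 1) := by
  decide +kernel

/-- the sign vector of a Boolean vector -/
def sgn (F : Type*) [Field F] (b : Fin 5 → Bool) : V5 F := fun i => if b i then -1 else 1

theorem sgn_xor (b c : Fin 5 → Bool) : sgn F (fun i => b i ^^ c i) = sgn F b * sgn F c := by
  funext i
  rcases hb : b i <;> rcases hc : c i <;> simp [sgn, hb, hc]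

theorem exists_sgn {t : V5 F} (h : t ^ 2 = 1) : ∃ b, t = sgn F b := by
  classical
  refine ⟨fun i => decide (t i ≠ 1), funext fun i => ?_⟩
  have := congrFun h i
  simp only [Pi.one_apply, Pi.mul_apply, pow_two] at this
  by_cases e : t i = 1
  · simp [sgn, e]
  · simpa [sgn, e] using (mul_self_eq_one_iff.1 this).resolve_left e

theorem par_of_prod (h2 : (-1 : F) ≠ 1) {b : Fin 5 → Bool} (h : ∏ i, sgn F b i = 1) :
    (b 0 ^^ b 1 ^^ b 2 ^^ b 3 ^^ b 4) = false := by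
  rw [Fin.prod_univ_five] at h
  simp only [sgn] at h
  revert h
  cases b 0 <;> cases b 1 <;> cases b 2 <;> cases b 3 <;> cases b 4 <;> simp [h2]

theorem base (D : Submonoid (V5 F)) (hD : ∀ t ∈ D, (fun i => t (i + 1)) ∈ D) {t : V5 F}
    (ht : t ∈ D) (hp : ∏ i, t i = 1) (h2 : t ^ 2 = 1) (h1 : t ≠ 1) {u : V5 F} (hu : u ^ 2 = 1)
    (hu' : ∏ i, u i = 1) : u ∈ D := by
  obtain ⟨b, rfl⟩ := exists_sgn h2
  obtain ⟨c, rfl⟩ := exists_sgn hu
  have hb : ∃ i, b i = true := by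
    by_contra hn
    push Not at hn
    exact h1 (funext fun i => by simp [sgn, hn i])
  have hne : (-1 : F) ≠ 1 := fun e => h1 (funext fun i => by
    simp only [sgn, e, ite_self, Pi.one_apply])
  obtain ⟨c0, c1, c2, c3, hc⟩ := sign_dec b c hb (par_of_prod hne hp) (par_of_prod hne hu')
  have key : ∀ (x : Bool) (b' : Fin 5 → Bool), sgn F b' ∈ D → sgn F (fun i => x && b' i) ∈ D := by
    intro x b' hb'
    cases x
    · have : sgn F (fun i => false && b' i) = 1 := funext fun i => by simp [sgn]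
      rw [this]; exact D.one_mem
    · simpa using hb'
  have e : c = fun i => ((c0 && b i) ^^ (c1 && b (i + 1)) ^^ (c2 && b (i + 1 + 1)) ^^
      (c3 && b (i + 1 + 1 + 1))) := funext hc
  rw [e, sgn_xor, sgn_xor, sgn_xor]
  have s1 := hD _ ht
  have s2 := hD _ s1
  have s3 := hD _ s2
  exact D.mul_mem (D.mul_mem (D.mul_mem (key _ _ ht) (key _ (fun i => b (i + 1)) s1))
    (key _ (fun i => b (i + 1 + 1)) s2)) (key _ (fun i => b (i + 1 + 1 + 1)) s3)

theorem full (D : Submonoid (V5 F)) (hD : ∀ t ∈ D, (fun i => t (i + 1)) ∈ D)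
    (hp : ∀ t ∈ D, ∏ i, t i = 1) (k : ℕ) : ∀ t ∈ D, t ^ 2 ^ (k + 1) = 1 → t ^ 2 ^ k ≠ 1 →
    ∀ u : V5 F, u ^ 2 ^ (k + 1) = 1 → ∏ i, u i = 1 → u ∈ D := by
  induction k with
  | zero =>
    intro t ht h2 h1 u hu hu'
    exact base D hD ht (hp t ht) (by simpa using h2) (by simpa using h1) (by simpa using hu) hu'
  | succ k ih =>
    intro t ht h2 h1 u hu hu'
    have low := ih (t ^ 2) (D.pow_mem ht 2) (by rw [← pow_mul, ← pow_succ']; exact h2)
      (by rw [← pow_mul, ← pow_succ']; exact h1)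
    let D' : Submonoid (V5 F) :=
      { carrier := {s | ∃ x ∈ D, x ^ 2 ^ (k + 1 + 1) = 1 ∧ s = x ^ 2 ^ (k + 1)}
        one_mem' := ⟨1, D.one_mem, one_pow _, (one_pow _).symm⟩
        mul_mem' := by
          rintro _ _ ⟨x, hx, hx', rfl⟩ ⟨y, hy, hy', rfl⟩
          exact ⟨x * y, D.mul_mem hx hy, by rw [mul_pow, hx', hy', one_mul], (mul_pow _ _ _).symm⟩ }
    have hs : u ^ 2 ^ (k + 1) ∈ D' := by
      refine base D' ?_ (t := t ^ 2 ^ (k + 1)) ⟨t, ht, h2, rfl⟩ (hp _ (D.pow_mem ht _))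
        (by rw [← pow_mul, ← pow_succ]; exact h2) h1 (by rw [← pow_mul, ← pow_succ]; exact hu) ?_
      · rintro _ ⟨x, hx, hx', rfl⟩
        exact ⟨_, hD x hx, funext fun i => congrFun hx' (i + 1), rfl⟩
      · simp only [Pi.pow_apply, Finset.prod_pow, hu', one_pow]
    obtain ⟨x, hx, hx', e⟩ := hs
    obtain ⟨m, hm⟩ : ∃ m, 2 ^ (k + 1 + 1) = m + 1 := ⟨2 ^ (k + 1 + 1) - 1, by
      have := Nat.one_le_two_pow (n := k + 1 + 1); omega⟩
    have hy : u * x ^ m ∈ D := by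
      refine low _ ?_ ?_
      · rw [mul_pow, e, ← pow_mul, ← pow_add, show 2 ^ (k + 1) + m * 2 ^ (k + 1) =
          (m + 1) * 2 ^ (k + 1) by ring, ← hm, pow_mul, hx', one_pow]
      · simp only [Pi.mul_apply, Pi.pow_apply, Finset.prod_mul_distrib, Finset.prod_pow, hu',
          hp x hx, one_pow, mul_one]
    have : u = u * x ^ m * x := by rw [mul_assoc, ← pow_succ, ← hm, hx', mul_one]
    rw [this]
    exact D.mul_mem hy hx

theorem prod_diag {g : G} {t : V5 F} (hg : mt ρ g = diagonal t) : ∏ i, t i = 1 := by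
  have := det_mt (ρ := ρ) g
  rwa [hg, det_diagonal] at this

theorem conj_diag {n g : G} {π : Equiv.Perm (Fin 5)} {a t : V5 F} (hn : mt ρ n = mon π a)
    (hg : mt ρ g = diagonal t) : mt ρ (n⁻¹ * g * n) = diagonal fun i => t (π i) := by
  have : mt ρ g * mt ρ n = mt ρ n * diagonal fun i => t (π i) := by
    rw [hg, hn, ← mon_one, ← mon_one, mon_mul, mon_mul, one_mul, mul_one]
    congr 1
    funext j
    simp [mul_comm]
  rw [mul_assoc, mt_mul, mt_mul, this, ← Matrix.mul_assoc, mt_inv_mul, Matrix.one_mul]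

theorem ng_swap {d : G} (hd : IsNg ρ d) {i j : Fin 5} (hij : i ≠ j) {a : V5 F}
    (h : mt ρ d = mon (Equiv.swap i j) a) :
    a i * a j = 1 ∧ ∀ k, k ≠ i → k ≠ j → a k = -1 := by
  obtain ⟨v, φ, hv⟩ := hd
  have e : ∀ k l, (if k = Equiv.swap i j l then a l else 0) = v k * φ l - (if k = l then 1 else 0) :=
    fun k l => by
      have := congrFun (congrFun (h.symm.trans hv.eq) k) l
      simpa [mon, vecMulVec_apply, one_apply] using this
  have eii := e i i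
  have ejj := e j j
  have eij := e i j
  have eji := e j i
  simp only [Equiv.swap_apply_left, Equiv.swap_apply_right, hij, hij.symm, if_true,
    if_false] at eii ejj eij eji
  refine ⟨by linear_combination (a j) * eji + (v j * φ i) * eij - v j * φ j * eii - ejj,
    fun k hi hj => ?_⟩
  have ekk := e k k
  have eki := e k i
  rw [Equiv.swap_apply_of_ne_of_ne hi hj] at ekk
  simp only [Equiv.swap_apply_left, hi, hj, if_true, if_false] at ekk eki
  linear_combination ekk - (v i * φ k) * eki + (v k * φ k) * eii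

/-- the diagonal matrix with unit entries -/
def dgl (b : Fin 5 → Fˣ) : GL (Fin 5) F :=
  ⟨diagonal fun i => (b i : F), diagonal fun i => ((b i)⁻¹ : Fˣ), by simp, by simp⟩

theorem cb_dgl (b : Fin 5 → Fˣ) {g : G} {π : Equiv.Perm (Fin 5)} {a : V5 F}
    (h : mt ρ g = mon π a) :
    mt (cb ρ (dgl b)) g = mon π fun j => ((b (π j))⁻¹ : Fˣ) * a j * b j := by
  rw [mt_cb, h]
  show diagonal (fun i => (((b i)⁻¹ : Fˣ) : F)) * mon π a * diagonal (fun i => (b i : F)) = _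
  rw [← mon_one, ← mon_one, mon_mul, mon_mul, one_mul, mul_one]
  rfl

theorem cb_dgl_diag (b : Fin 5 → Fˣ) {g : G} {t : V5 F} (h : mt ρ g = diagonal t) :
    mt (cb ρ (dgl b)) g = diagonal t := by
  rw [cb_dgl b (h.trans (mon_one t).symm), mon_one]
  congr 1
  funext j
  simp [mul_comm, mul_left_comm]

theorem cb_swap (b : Fin 5 → Fˣ) {d : G} (hd : IsNg ρ d) {i j : Fin 5} (hij : i ≠ j) {a : V5 F}
    (h : mt ρ d = mon (Equiv.swap i j) a) (hb : (b i : F) = -(b j * a j)) :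
    mt (cb ρ (dgl b)) d = pm F (Equiv.swap i j) := by
  obtain ⟨h1, h2⟩ := ng_swap hd hij h
  rw [cb_dgl b h, pm, Equiv.Perm.sign_swap hij]
  congr 1
  funext k
  have hi := (b i).ne_zero
  have hj := (b j).ne_zero
  simp only [Units.val_inv_eq_inv_val, Units.val_neg, Units.val_one, Int.reduceNeg, Int.cast_neg,
    Int.cast_one]
  by_cases e : k = i
  · subst e
    rw [Equiv.swap_apply_left]
    field_simp
    linear_combination (a k) * hb - (b j : F) * h1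
  by_cases e' : k = j
  · subst e'
    rw [Equiv.swap_apply_right]
    field_simp
    linear_combination hb
  rw [Equiv.swap_apply_of_ne_of_ne e e', h2 k e e']
  have := (b k).ne_zero
  field_simp

theorem pm_mul (π σ : Equiv.Perm (Fin 5)) : pm F π * pm F σ = pm F (π * σ) := by
  simp [pm, mon_mul]

theorem pm_one : pm F 1 = 1 := by
  simp [pm, mon_one]

theorem all_pm (h01 : ∃ g, mt ρ g = pm F (Equiv.swap 0 1))
    (h14 : ∃ g, mt ρ g = pm F (Equiv.swap 1 4)) (h34 : ∃ g, mt ρ g = pm F (Equiv.swap 3 4))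
    (h23 : ∃ g, mt ρ g = pm F (Equiv.swap 2 3)) (π : Equiv.Perm (Fin 5)) :
    ∃ g, mt ρ g = pm F π := by
  let M : Submonoid (Equiv.Perm (Fin 5)) :=
    { carrier := {π | ∃ g, mt ρ g = pm F π}
      one_mem' := ⟨1, by rw [mt_one, pm_one]⟩
      mul_mem' := by
        rintro _ _ ⟨g, hg⟩ ⟨k, hk⟩
        exact ⟨g * k, by rw [mt_mul, hg, hk, pm_mul]⟩ }
  have : Submonoid.closure (Set.range fun i : Fin 4 => Equiv.swap i.castSucc i.succ) ≤ M := by
    refine Submonoid.closure_le.2 ?_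
    rintro _ ⟨i, rfl⟩
    fin_cases i
    · exact h01
    · have e : Equiv.swap (1 : Fin 5) 2 = Equiv.swap 2 3 * Equiv.swap 3 4 * Equiv.swap 1 4 *
          Equiv.swap 3 4 * Equiv.swap 2 3 := by decide
      show Equiv.swap (1 : Fin 5) 2 ∈ M
      rw [e]
      exact M.mul_mem (M.mul_mem (M.mul_mem (M.mul_mem h23 h34) h14) h34) h23
    · exact h23
    · exact h34
  exact this (Equiv.Perm.mclosure_swap_castSucc_succ 4 ▸ Submonoid.mem_top π)

theorem p8_mul {π σ : Equiv.Perm (Fin 5)} (h : P8 π) (h' : P8 σ) : P8 (π * σ) := by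
  unfold P8 at *
  rw [mul_assoc, h', ← mul_assoc, h, mul_assoc]

theorem p8_one : P8 1 := by simp [P8]

theorem p8_pow : ∀ π, P8 π → π ^ 4 = 1 := by decide +kernel

theorem cb_gl (k g : G) : mt (cb ρ (gl ρ k)) g = mt ρ (k⁻¹ * g * k) := by
  rw [mt_cb, ← map_inv, coe_gl, coe_gl, mt_mul, mt_mul]

theorem ng_mulVec {d : G} {v φ : V5 F} (h : Ng ρ d v φ) (u : V5 F) :
    mt ρ d *ᵥ u = (φ ⬝ᵥ u) • v - u := by
  rw [h.eq, sub_mulVec, one_mulVec, vecMulVec_mulVec, op_smul_eq_smul]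

theorem ng_v_ne (h2 : (2 : F) ≠ 0) {d : G} {v φ : V5 F} (h : Ng ρ d v φ) : v ≠ 0 := fun e =>
  h2 (by rw [← h.dot, e, dotProduct_zero])

theorem ng_self {d : G} {v φ : V5 F} (h : Ng ρ d v φ) : mt ρ d *ᵥ v = v := by
  rw [ng_mulVec h, h.dot, two_smul, add_sub_cancel_right]

/-- the fixed vectors of a negative reflection -/
theorem ng_fix (h2 : (2 : F) ≠ 0) {d : G} {v φ : V5 F} (h : Ng ρ d v φ) {u : V5 F}
    (hu : mt ρ d *ᵥ u = u) : u = ((φ ⬝ᵥ u) / 2) • v := by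
  rw [ng_mulVec h, sub_eq_iff_eq_add, ← two_smul F] at hu
  rw [div_eq_inv_mul, mul_smul, hu, smul_smul, inv_mul_cancel₀ h2, one_smul]

/-- the vectors negated by a negative reflection -/
theorem ng_neg (h2 : (2 : F) ≠ 0) {d : G} {v φ : V5 F} (h : Ng ρ d v φ) {u : V5 F} :
    mt ρ d *ᵥ u = -u ↔ φ ⬝ᵥ u = 0 := by
  rw [ng_mulVec h, sub_eq_neg_self, smul_eq_zero, or_iff_left (ng_v_ne h2 h)]

/-- centres are mapped to centres -/
theorem ng_map (h2 : (2 : F) ≠ 0) {d e s : G} {v φ w ψ : V5 F} (h : Ng ρ d v φ) (h' : Ng ρ e w ψ)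
    (hs : s * d * s⁻¹ = e) : ∃ a : F, mt ρ s *ᵥ v = a • w :=
  ⟨_, ng_fix h2 h' (hs ▸ ng_self (h.conj s))⟩

/-- axes are mapped to axes -/
theorem ng_map_neg (h2 : (2 : F) ≠ 0) {d e s : G} {v φ w ψ : V5 F} (h : Ng ρ d v φ)
    (h' : Ng ρ e w ψ) (hs : s * d * s⁻¹ = e) {u : V5 F} (hu : φ ⬝ᵥ u = 0) :
    ψ ⬝ᵥ (mt ρ s *ᵥ u) = 0 := by
  rw [← ng_neg h2 h', ← hs, ng_neg h2 (h.conj s), dot_conj, hu]

theorem mulVec_ne {s : G} {v : V5 F} (hv : v ≠ 0) : mt ρ s *ᵥ v ≠ 0 := fun e =>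
  hv (by rw [← one_mulVec v, ← mt_inv_mul (ρ := ρ) s, ← mulVec_mulVec, e, mulVec_zero])

/-- a basis permuted up to scalars -/
theorem cb_of_cols (B : GL (Fin 5) F) {s : G} {π : Equiv.Perm (Fin 5)} {a : V5 F}
    (h : ∀ j, mt ρ s *ᵥ (B : M5 F).col j = a j • (B : M5 F).col (π j)) :
    mt (cb ρ B) s = mon π a := by
  have : mt ρ s * (B : M5 F) = B * mon π a := by
    ext i j
    have := congrFun (h j) i
    simp only [Pi.smul_apply, smul_eq_mul, col_apply] at this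
    rw [show (mt ρ s * (B : M5 F)) i j = (mt ρ s *ᵥ (B : M5 F).col j) i from rfl, this]
    simp [mul_apply, mon, mul_comm]
  rw [mt_cb, Matrix.mul_assoc, this, ← Matrix.mul_assoc, Units.inv_mul, Matrix.one_mul]

theorem mul_mon_apply (M : M5 F) (π : Equiv.Perm (Fin 5)) (a : V5 F) (k l : Fin 5) :
    (M * mon π a) k l = M k (π l) * a l := by
  simp [mul_apply, mon]

theorem mon_mul_apply (M : M5 F) (π : Equiv.Perm (Fin 5)) (a : V5 F) (k l : Fin 5) :
    (mon π a * M) (π k) l = a k * M k l := by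
  simp [mul_apply, mon]

/-- a matrix commuting with a diagonal matrix -/
theorem entry_eq_zero {M : M5 F} {t : V5 F} (h : M * diagonal t = diagonal t * M) {k l : Fin 5}
    (hkl : t k ≠ t l) : M k l = 0 := by
  have := congrFun (congrFun h k) l
  rw [mul_diagonal, diagonal_mul, mul_comm] at this
  exact (mul_eq_mul_right_iff.1 this).resolve_left hkl.symm

end BH

open BH

variable [Finite G]

theorem tor_full {n : G} {π : Equiv.Perm (Fin 5)} {a : V5 F} (hn : mt ρ n = mon π a)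
    (hπ : orderOf π = 5) (k : ℕ) {g : G} {t : V5 F} (hg : mt ρ g = diagonal t)
    (ht : ∀ i, t i ^ 2 ^ (k + 1) = 1) (ht' : ∃ i, t i ^ 2 ^ k ≠ 1) (u : V5 F)
    (hu : ∀ i, u i ^ 2 ^ (k + 1) = 1) (hu' : ∏ i, u i = 1) : ∃ g', mt ρ g' = diagonal u := by
  obtain ⟨e, he⟩ := cyc_dec π (by rw [← pow_orderOf_eq_one π, hπ]) (fun h => by simp [h] at hπ)
  let D : Submonoid (V5 F) :=
    { carrier := {t | ∃ g, mt ρ g = diagonal fun i => t (e.symm i)}
      one_mem' := ⟨1, by rw [mt_one]; exact diagonal_one.symm⟩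
      mul_mem' := by
        rintro _ _ ⟨g, hg⟩ ⟨k, hk⟩
        exact ⟨g * k, by rw [mt_mul, hg, hk, diagonal_mul_diagonal]; rfl⟩ }
  have key := full D ?_ ?_ k (fun j => t (e j)) ⟨g, by simpa using hg⟩
    (funext fun j => ht (e j)) (fun h => ?_) (fun j => u (e j)) (funext fun j => hu (e j))
    (by rw [← hu']; exact Equiv.prod_comp e u)
  · obtain ⟨g', hg'⟩ := key
    exact ⟨g', by simpa using hg'⟩
  · rintro s ⟨g, hg⟩
    refine ⟨n⁻¹ * g * n, (conj_diag hn hg).trans ?_⟩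
    congr 1
    funext i
    obtain ⟨j, rfl⟩ := e.surjective i
    rw [he, e.symm_apply_apply, e.symm_apply_apply]
  · rintro s ⟨g, hg⟩
    rw [← prod_diag hg]
    exact (Equiv.prod_comp e.symm s).symm
  · obtain ⟨i, hi⟩ := ht'
    obtain ⟨j, rfl⟩ := e.surjective i
    exact hi (congrFun h j)

theorem weyl_of_edges (h2 : (2 : F) ≠ 0) (h : Function.Injective ρ) {d : Fin 5 → G} (hd : Fr ρ d)
    (he : ∀ i j, i ≠ j → Edge ρ d i j) {ν ν' : G} (hν : IsNg ρ ν) (hν' : IsNg ρ ν')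
    (h1 : ∀ k, ν * d k * ν⁻¹ = d (Equiv.swap 0 1 k))
    (h3 : ∀ k, ν' * d k * ν'⁻¹ = d (Equiv.swap 2 3 k)) :
    ∃ B, (∀ i, mt (cb ρ B) (d i) = sg F i) ∧ (∀ π, ∃ g, mt (cb ρ B) g = pm F π) ∧
      mt (cb ρ B) ν = pm F (Equiv.swap 0 1) ∧ mt (cb ρ B) ν' = pm F (Equiv.swap 2 3) := by
  obtain ⟨B, hB⟩ := hd.exists_std h2 h
  obtain ⟨μ, hμ, h4⟩ := he 1 4 (by decide)
  obtain ⟨μ', hμ', h5⟩ := he 3 4 (by decide)
  obtain ⟨a, ha⟩ := mon_of_perm h2 hB h1
  obtain ⟨a', ha'⟩ := mon_of_perm h2 hB h3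
  obtain ⟨c, hc⟩ := mon_of_perm h2 hB h4
  obtain ⟨c', hc'⟩ := mon_of_perm h2 hB h5
  let b1 : Fˣ := -Units.mk0 _ (ne_zero_of_mon hc 4)
  let b3 : Fˣ := -Units.mk0 _ (ne_zero_of_mon hc' 4)
  let b : Fin 5 → Fˣ := ![-(b1 * Units.mk0 _ (ne_zero_of_mon ha 1)), b1,
    -(b3 * Units.mk0 _ (ne_zero_of_mon ha' 3)), b3, 1]
  have e1 := cb_swap b ((isNg_cb B).2 hν) (by decide) ha (by simp [b])
  have e3 := cb_swap b ((isNg_cb B).2 hν') (by decide) ha' (by simp [b])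
  have e4 := cb_swap b ((isNg_cb B).2 hμ) (by decide) hc (by simp [b, b1])
  have e5 := cb_swap b ((isNg_cb B).2 hμ') (by decide) hc' (by simp [b, b3])
  refine ⟨B * dgl b, ?_⟩
  rw [← cb_cb]
  exact ⟨fun i => cb_dgl_diag b (hB i), all_pm ⟨_, e1⟩ ⟨_, e4⟩ ⟨_, e5⟩ ⟨_, e3⟩, e1, e3⟩

/-- the Sylow subgroup may be assumed to contain the monomial 2-group of a Weyl basis -/
theorem exists_weyl_le (h : Function.Injective ρ) (hw : Weyl ρ) (S : Sylow 2 G) :
    ∃ B, Weyl (cb ρ B) ∧ (∀ g t, mt ρ g = diagonal t → ∃ g', mt (cb ρ B) g' = diagonal t) ∧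
      (∀ g π, P8 π → mt (cb ρ B) g = pm F π → g ∈ S) ∧
      ∀ g t (n : ℕ), mt (cb ρ B) g = diagonal t → g ^ 2 ^ n = 1 → g ∈ S := by
  let Q : G → Equiv.Perm (Fin 5) → Prop := fun g π =>
    ∃ (a : V5 F) (n : ℕ), mt ρ g = mon π a ∧ ∀ i, a i ^ 2 ^ n = 1
  have Q1 : Q 1 1 := ⟨1, 0, by rw [mt_one, mon_one]; exact diagonal_one.symm, by simp⟩
  have Qm : ∀ g k π σ, Q g π → Q k σ → Q (g * k) (π * σ) := by
    rintro g k π σ ⟨a, n, ha, hn⟩ ⟨b, m, hb, hm⟩
    refine ⟨_, n + m, by rw [mt_mul, ha, hb, mon_mul], fun i => ?_⟩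
    rw [mul_pow, pow_add, pow_mul, hn, mul_comm (2 ^ n), pow_mul (b i), hm]
    simp
  have Qp : ∀ g π, Q g π → ∀ m : ℕ, Q (g ^ m) (π ^ m) := by
    intro g π hq m
    induction m with
    | zero => simpa using Q1
    | succ m ih => rw [pow_succ, pow_succ]; exact Qm _ _ _ _ ih hq
  let M : Submonoid G :=
    { carrier := {g | ∃ π, P8 π ∧ Q g π}
      one_mem' := ⟨1, p8_one, Q1⟩
      mul_mem' := by
        rintro g k ⟨π, hπ, hg⟩ ⟨σ, hσ, hk⟩
        exact ⟨π * σ, p8_mul hπ hσ, Qm _ _ _ _ hg hk⟩ }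
  let X : Subgroup G :=
    { M with
      inv_mem' := fun {g} hg => by
        have : g⁻¹ = g ^ (orderOf g - 1) := by
          rw [inv_eq_iff_mul_eq_one, ← pow_succ', Nat.sub_add_cancel (orderOf_pos g),
            pow_orderOf_eq_one]
        rw [this]
        exact M.pow_mem hg _ }
  have hX : IsPGroup 2 X := by
    rintro ⟨g, π, hπ, hq⟩
    obtain ⟨a, n, ha, hn⟩ := Qp g π hq 4
    refine ⟨2 + n, Subtype.ext (mt_inj h ?_)⟩
    show mt ρ (g ^ 2 ^ (2 + n)) = mt ρ 1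
    rw [pow_add, pow_mul, mt_pow, show 2 ^ 2 = 4 from rfl, ha, p8_pow π hπ, mon_one, diagonal_pow,
      mt_one, ← diagonal_one]
    congr 1
    exact funext hn
  obtain ⟨T, hT⟩ := hX.exists_le_sylow
  obtain ⟨k, hk⟩ := MulAction.exists_smul_eq G T S
  have mem : ∀ g, k⁻¹ * g * k ∈ X → g ∈ S := fun g hg => by
    rw [← hk]
    have := Subgroup.smul_mem_pointwise_smul _ (MulAut.conj k) _ (hT hg)
    rw [MulAut.smul_def, MulAut.conj_apply, show k * (k⁻¹ * g * k) * k⁻¹ = g by group] at this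
    exact this
  have tr : ∀ g, mt (cb ρ (gl ρ k)) (k * g * k⁻¹) = mt ρ g := fun g => by
    rw [cb_gl]; congr 1; group
  refine ⟨gl ρ k, ⟨fun i => ?_, fun π => ?_⟩, fun g t hg => ⟨_, (tr g).trans hg⟩,
    fun g π hπ hg => mem g ⟨π, hπ, _, 1, (cb_gl k g).symm.trans hg, fun i => ?_⟩,
    fun g t n hg hn => mem g ⟨1, p8_one, t, n, by rw [← cb_gl, hg, mon_one], fun i => ?_⟩⟩
  · obtain ⟨g, hg⟩ := hw.1 i
    exact ⟨_, (tr g).trans hg⟩
  · obtain ⟨g, hg⟩ := hw.2 π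
    exact ⟨_, (tr g).trans hg⟩
  · rcases Int.units_eq_one_or (Equiv.Perm.sign π) with e | e <;> simp [e]
  · have := mt_pow (ρ := cb ρ (gl ρ k)) g (2 ^ n)
    rw [hn, mt_one, hg, diagonal_pow] at this
    simpa using (congrFun (congrFun this i) i).symm

theorem Edge.symm {d : Fin 5 → G} {i j : Fin 5} (h : Edge ρ d i j) : Edge ρ d j i := by
  rwa [Edge, Equiv.swap_comm]

theorem Edge.trans {d : Fin 5 → G} {i j k : Fin 5} (h : Edge ρ d i j) (h' : Edge ρ d j k)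
    (hij : i ≠ j) (hjk : j ≠ k) (hik : i ≠ k) : Edge ρ d i k := by
  obtain ⟨ν, hν, e⟩ := h
  obtain ⟨μ, hμ, e'⟩ := h'
  refine ⟨ν * μ * ν⁻¹, hμ.conj ν, fun m => ?_⟩
  have e1 : ν⁻¹ * d m * ν = d (Equiv.swap i j m) := by
    conv_lhs => rw [← Equiv.swap_apply_self i j m, ← e]
    group
  calc _ = ν * (μ * (ν⁻¹ * d m * ν) * μ⁻¹) * ν⁻¹ := by group
    _ = _ := by
      rw [e1, e', e]
      congr 1
      have := Equiv.swap_mul_swap_mul_swap hjk.symm hik.symm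
      rw [← Equiv.Perm.mul_apply, ← Equiv.Perm.mul_apply, Equiv.swap_comm i j,
        Equiv.swap_comm j k, this, Equiv.swap_comm]

omit [Finite G] in
theorem Edge.conj {d : Fin 5 → G} {i j : Fin 5} (h : Edge ρ d i j) (g : G) :
    Edge ρ (fun k => g * d k * g⁻¹) i j := by
  obtain ⟨ν, hν, e⟩ := h
  refine ⟨g * ν * g⁻¹, hν.conj g, fun m => ?_⟩
  beta_reduce
  rw [← e]
  group

omit [Finite G] in
theorem Edge.perm {d : Fin 5 → G} (σ : Equiv.Perm (Fin 5)) {i j : Fin 5} :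
    Edge ρ (d ∘ σ) i j ↔ Edge ρ d (σ i) (σ j) := by
  refine exists_congr fun ν => and_congr_right fun _ => ⟨fun e k => ?_, fun e k => ?_⟩
  · obtain ⟨k, rfl⟩ := σ.surjective k
    rw [σ.injective.swap_apply]
    exact e k
  · have := e (σ k)
    rwa [σ.injective.swap_apply] at this

end CfsgLib.D5
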