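import Cfsg.Agent.Lib.D5.BT
import Cfsg.Agent.Lib.D5.BH
import Cfsg.Agent.Lib.Dim4.TR
import Cfsg.Agent.S1169
import Cfsg.Agent.S1225

/-!
B50A: a unique frame; fusion.  See `plans/D5.md`.
-/

set_option autoImplicit false
set_option linter.unusedSectionVars false

namespace CfsgLib.D5

open Matrix Cfsg Cfsg.Geo CfsgLib.Asch Subgroup
open scoped MatrixGroups

variable {G F : Type*} [Group G] [Field F] {ρ : G →* S5 F}

/-- 2-elements with the same image in the central quotient are equal -/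
theorem Hy.eq_of_mk (h : Hy ρ) {x y : G} {n m : ℕ} (hx : x ^ 2 ^ n = 1) (hy : y ^ 2 ^ m = 1)
    (e : (QuotientGroup.mk x : Bar G) = QuotientGroup.mk y) : x = y := by
  have hz := QuotientGroup.eq.1 e
  have h1 : (x⁻¹ * y) ^ 2 ^ (n + m) = 1 := by
    have c : Commute x (x⁻¹ * y) := Subgroup.mem_center_iff.1 hz x
    have := c.mul_pow (2 ^ (n + m))
    rwa [mul_inv_cancel_left, pow_add, pow_mul x, hx, one_pow, one_mul, mul_comm, pow_mul y, hy, one_pow,
      mul_comm, ← pow_add, eq_comm] at this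
  have h2 := Nat.dvd_gcd (orderOf_dvd_of_pow_eq_one h1) (orderOf_dvd_of_pow_eq_one (h.pow_five hz))
  rw [Nat.Coprime.gcd_eq_one (Nat.Coprime.pow_left _ (by norm_num)), Nat.dvd_one, orderOf_eq_one_iff] at h2
  exact inv_mul_eq_one.1 h2

theorem b50a_sg_inj (h2 : (2 : F) ≠ 0) {i j : Fin 5} (e : sg F i = sg F j) : i = j := by
  by_contra k
  have := congrFun (congrFun e i) i
  simp only [sg, diagonal_apply_eq, if_true, if_neg k] at this
  exact h2 (by linear_combination this)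

theorem b50a_sg_comm (h : Function.Injective ρ) {d e : G} {s t : V5 F} (hd : mt ρ d = diagonal s)
    (he : mt ρ e = diagonal t) : d * e = e * d :=
  mt_inj h (by rw [mt_mul, mt_mul, hd, he, diagonal_mul_diagonal, diagonal_mul_diagonal]; simp only [mul_comm])

/-- monomial elements normalise the diagonal ones -/
theorem b50a_conj_diag {g d : G} {π : Equiv.Perm (Fin 5)} {a t : V5 F} (hg : mt ρ g = mon π a)
    (hd : mt ρ d = diagonal t) : mt ρ (g * d * g⁻¹) = diagonal fun j => t (π⁻¹ j) := by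
  have : mt ρ (g * d) = diagonal (fun j => t (π⁻¹ j)) * mt ρ g := by
    rw [mt_mul, hg, hd, ← mon_one, ← mon_one, mon_mul, mon_mul, mul_one, one_mul]
    congr 1
    funext j
    simp [mul_comm]
  rw [mt_mul, this, mul_assoc, mt_mul_inv, mul_one]

/-- an element mapping the standard frame into `S` permutes it -/
theorem b50a_perm (h : Function.Injective ρ) (h2 : (2 : F) ≠ 0) {S : Subgroup G} {d : Fin 5 → G}
    (hd : ∀ i, mt ρ (d i) = sg F i) (hD : ∀ d ∈ S, IsNg ρ d → ∃ i, mt ρ d = sg F i) {g : G}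
    (hg : ∀ i, g * d i * g⁻¹ ∈ S) : ∃ π : Equiv.Perm (Fin 5), ∀ i, g * d i * g⁻¹ = d (π i) := by
  choose f hf using fun i => hD _ (hg i) ((isNg_sg (hd i)).conj g)
  have e : ∀ i, g * d i * g⁻¹ = d (f i) := fun i => mt_inj h ((hf i).trans (hd _).symm)
  refine ⟨Equiv.ofBijective f (Finite.injective_iff_bijective.1 fun i j k => b50a_sg_inj h2 ?_), e⟩
  have : d i = d j := mul_left_cancel (mul_right_cancel ((e i).trans (k ▸ (e j).symm)))
  rw [← hd, this, hd]

/-- the permutations induced on a family by conjugation -/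
def b50aLam (d : Fin 5 → G) : Subgroup (Equiv.Perm (Fin 5)) where
  carrier := {π | ∃ n : G, ∀ i, n * d i * n⁻¹ = d (π i)}
  one_mem' := ⟨1, fun i => by simp⟩
  mul_mem' := by
    rintro π σ ⟨n, hn⟩ ⟨m, hm⟩
    exact ⟨n * m, fun i => by rw [Equiv.Perm.mul_apply, ← hn, ← hm]; group⟩
  inv_mem' := by
    rintro π ⟨n, hn⟩
    refine ⟨n⁻¹, fun i => ?_⟩
    have := hn (π⁻¹ i)
    rw [show π (π⁻¹ i) = i from π.apply_symm_apply i] at this
    rw [← this]; group

theorem b50a_five {L : Subgroup (Equiv.Perm (Fin 5))} (h : ∀ i, ∃ π ∈ L, π i = 4) : ∃ π ∈ L, orderOf π = 5 := by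
  have h1 : MulAction.orbit L (4 : Fin 5) = Set.univ := Set.eq_univ_of_forall fun i => by
    obtain ⟨π, hπ, e⟩ := h i
    exact ⟨⟨π⁻¹, inv_mem hπ⟩, by rw [← e]; exact π.symm_apply_apply i⟩
  have h2 := (MulAction.stabilizer L (4 : Fin 5)).index_dvd_card
  rw [MulAction.index_stabilizer, h1, Set.ncard_univ, Nat.card_eq_fintype_card, Fintype.card_fin] at h2
  have : Fact (Nat.Prime 5) := ⟨by norm_num⟩
  obtain ⟨x, hx⟩ := exists_prime_orderOf_dvd_card' 5 h2
  exact ⟨x, x.2, by rw [orderOf_coe, hx]⟩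

/-- the diagonal involutions in `S` -/
def b50aE (ρ : G →* S5 F) (h : Function.Injective ρ) (S : Subgroup G) : Subgroup G where
  carrier := {s | s ∈ S ∧ s * s = 1 ∧ ∃ t, mt ρ s = diagonal t}
  one_mem' := ⟨one_mem _, mul_one _, 1, by rw [mt_one]; exact diagonal_one.symm⟩
  mul_mem' := by
    rintro a b ⟨a1, a2, s, a3⟩ ⟨b1, b2, t, b3⟩
    refine ⟨mul_mem a1 b1, ?_, _, by rw [mt_mul, a3, b3, diagonal_mul_diagonal]⟩
    rw [mul_assoc, ← mul_assoc b, b50a_sg_comm h b3 a3, mul_assoc, b2, mul_one, a2]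
  inv_mem' := by
    rintro a ⟨a1, a2, a3⟩
    rw [inv_eq_of_mul_eq_one_right a2]
    exact ⟨a1, a2, a3⟩

variable [Finite G] {S : Sylow 2 G} {c : G}

/-- a strongly closed abelian subgroup fuses all involutions -/
theorem Hy.isConj_of_sc (h : Hy ρ) {E : Subgroup G} (h1 : E ≠ ⊥) (h2 : ∀ a ∈ E, ∀ b ∈ E, a * b = b * a)
    (h3 : IsStronglyClosed E (S : Subgroup G)) {x y : G} (hx : orderOf x = 2) (hy : orderOf y = 2) : IsConj x y := by
  have := h.simple
  have two : ∀ s ∈ (S : Subgroup G), ∃ n, s ^ 2 ^ n = 1 := fun s hs =>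
    (S.isPGroup' ⟨s, hs⟩).imp fun _ e => congrArg Subtype.val e
  have o1 : ∀ x : G, orderOf x = 2 → x ^ 2 ^ 1 = 1 := fun x e => by rw [pow_one, ← e, pow_orderOf_eq_one]
  have o2 : ∀ x : G, orderOf x = 2 → orderOf (QuotientGroup.mk x : Bar G) = 2 := fun x e =>
    orderOf_eq_prime (by rw [← QuotientGroup.mk_pow, ← pow_one 2, o1 x e]; rfl) fun k => by
      rw [h.eq_of_mk (n := 1) (m := 0) (o1 x e) (one_pow _) k, orderOf_one] at e
      omega
  have key : IsConj (QuotientGroup.mk x : Bar G) (QuotientGroup.mk y) := by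
    refine (Cfsg.Agent.S1169.result (S.mapSurjective (QuotientGroup.mk'_surjective (center G)))
      (E.map (QuotientGroup.mk' _)) (fun e => h1 (eq_bot_iff.2 fun a ha => ?_)) ⟨⟨?_⟩⟩
      ⟨map_mono h3.1, ?_⟩).elim (fun k => Dim4.isConj_of_ab2 h.bar_not_comm _ k (o2 x hx) (o2 y hy))
      fun ⟨H, hH⟩ => have := StrEmb.nontrivial_quotient hH.1
        (StrEmb.uniqueFix_of_isStronglyEmbedded hH).isConj (o2 x hx) (o2 y hy)
    · obtain ⟨n, hn⟩ := two a (h3.1 ha)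
      exact h.eq_of_mk (m := 0) hn (one_pow _) (mem_bot.1 (e ▸ mem_map_of_mem _ ha))
    · rintro ⟨_, a, ha, rfl⟩ ⟨_, b, hb, rfl⟩
      exact Subtype.ext ((map_mul _ a b).symm.trans ((congrArg _ (h2 a ha b hb)).trans (map_mul _ b a)))
    · rintro _ ⟨a, ha, rfl⟩ g ⟨s, hs, e⟩
      obtain ⟨g, rfl⟩ := QuotientGroup.mk'_surjective _ g
      obtain ⟨n, hn⟩ := two a (h3.1 ha)
      obtain ⟨m, hm⟩ := two s hs
      have := h.eq_of_mk hm (show (g * a * g⁻¹) ^ 2 ^ n = 1 by rw [conj_pow, hn]; group) e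
      exact ⟨_, h3.2 a ha g (this ▸ hs), rfl⟩
  obtain ⟨g, hg⟩ := isConj_iff.1 key
  obtain ⟨g, rfl⟩ := QuotientGroup.mk_surjective g
  exact isConj_iff.2 ⟨g, h.eq_of_mk (by rw [conj_pow, o1 x hx]; group) (o1 y hy) hg⟩

variable [IsAlgClosed F]

/-- an involution outside the frame group is fused into it, and `A₅`-type fusion -/
theorem BS.diag_fus (h : BS ρ S c) (hE : ∀ i, ∃ d ∈ S, mt ρ d = sg F i)
    (hD : ∀ d ∈ S, IsNg ρ d → ∃ i, mt ρ d = sg F i) :
    (∃ n π a, mt ρ n = mon π a ∧ orderOf π = 5) ∧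
    ∃ x ∈ S, ∃ g : G, x * x = 1 ∧ (∀ t, mt ρ x ≠ diagonal t) ∧
      (∃ t, mt ρ (g * x * g⁻¹) = diagonal t) ∧ ∀ s ∈ S, s * x = x * s → g * s * g⁻¹ ∈ S := by
  choose d dS hd using hE
  have inj := h.hy.inj
  have dc : ∀ i j, d i * d j = d j * d i := fun i j => b50a_sg_comm inj (hd i) (hd j)
  have di : ∀ i j, d i = d j → i = j := fun i j e => b50a_sg_inj h.two (by rw [← hd, e, hd])
  have dd : ∀ i, d i * d i = 1 := fun i => let ⟨_, _, k⟩ := isNg_sg (hd i); k.mul_self inj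
  constructor
  · obtain ⟨π, ⟨n, hn⟩, e⟩ := b50a_five (L := b50aLam d) fun i => by
      obtain ⟨g, h1, h2⟩ := h.ext (isNg_sg (hd i))
      obtain ⟨π, hπ⟩ := b50a_perm inj h.two hd hD fun j => h2 _ (dS j) (dc j i)
      exact ⟨π, ⟨g, hπ⟩, di _ _ ((hπ i).symm.trans (h1.trans (mt_inj inj (h.eq.trans (hd 4).symm))))⟩
    obtain ⟨a, ha⟩ := mon_of_perm h.two hd hn
    exact ⟨n, π, a, ha, e⟩
  · have dE : ∀ i, d i ∈ b50aE ρ inj S := fun i => ⟨dS i, dd i, _, hd i⟩
    have h4 : (4 : F) ≠ 0 := by rw [show (4 : F) = 2 * 2 by norm_num]; exact mul_ne_zero h.two h.two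
    have t1 : tr ρ (d 0) = -3 := (isNg_sg (hd 0)).tr
    have t2 : tr ρ (d 0 * d 1) = 1 := by
      rw [tr, mt_mul, hd, hd, sg, sg, diagonal_mul_diagonal, trace_diagonal, Fin.sum_univ_five]
      simp
    have n1 : d 0 * d 1 ≠ 1 := fun e => h4 (by rw [e, tr_one] at t2; linear_combination t2)
    have n0 : d 0 ≠ 1 := fun e => mul_ne_zero h.two h4 (by rw [e, tr_one] at t1; linear_combination t1)
    have ns : ¬ IsStronglyClosed (b50aE ρ inj S) (S : Subgroup G) := fun k => by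
      have := tr_isConj (ρ := ρ) (h.hy.isConj_of_sc (fun e => n0 (mem_bot.1 (e ▸ dE 0)))
        (fun a ⟨_, _, _, ha⟩ b ⟨_, _, _, hb⟩ => b50a_sg_comm inj ha hb) k
        (orderOf_eq_prime (by rw [pow_two, dd]) n0) (orderOf_eq_prime (by rw [pow_two, (mul_mem (dE 0) (dE 1)).2.1]) n1))
      exact h4 (by rw [t1, t2] at this; linear_combination -this)
    rw [IsStronglyClosed, not_and] at ns
    have ns := ns fun _ ha => ha.1
    push Not at ns
    obtain ⟨t, ⟨-, t2, u, hu⟩, g, xS, xE⟩ := ns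
    have xx : g * t * g⁻¹ * (g * t * g⁻¹) = 1 := by rw [conj_mul, t2]; group
    obtain ⟨R, hR, ER⟩ := LAE.exists_isSylowIn_ge (p := 2) (Q := b50aE ρ inj S) (H := centralizer {t})
      (S.isPGroup'.to_le fun _ ha => ha.1) fun a ⟨_, _, _, ha⟩ =>
        mem_centralizer_singleton_iff.2 (b50a_sg_comm inj ha hu)
    obtain ⟨k, hk, l1⟩ := hR.exists_conj_le (LAE.isPGroup_conjS (S.isPGroup'.to_le
      (inf_le_left : (S : Subgroup G) ⊓ centralizer {g * t * g⁻¹} ≤ S)) g⁻¹) fun a ha => by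
        have := mem_centralizer_singleton_iff.1 (LAE.mem_conjS.1 ha).2
        refine mem_centralizer_singleton_iff.2 ?_
        calc a * t = g⁻¹ * (g⁻¹⁻¹ * a * g⁻¹ * (g * t * g⁻¹)) * g := by group
          _ = t * a := by rw [this]; group
    obtain ⟨m, -, l2⟩ := (LAE.isSylowIn_top S).exists_conj_le hR.isPGroup le_top
    obtain ⟨π, hπ⟩ := b50a_perm inj h.two hd hD (g := m) fun i => l2 (LAE.conj_mem_conjS.2 (ER (dE i)))
    obtain ⟨a, ha⟩ := mon_of_perm h.two hd hπ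
    refine ⟨_, xS, m * k * g⁻¹, xx, fun v hv => xE ⟨xS, xx, v, hv⟩, ⟨fun j => u (π⁻¹ j), ?_⟩, fun s hs e => ?_⟩
    · rw [show m * k * g⁻¹ * (g * t * g⁻¹) * (m * k * g⁻¹)⁻¹ = m * (k * t * k⁻¹) * m⁻¹ by group,
        mem_centralizer_singleton_iff.1 hk, mul_inv_cancel_right]
      exact b50a_conj_diag ha hu
    · rw [show m * k * g⁻¹ * s * (m * k * g⁻¹)⁻¹ = m * (k * (g⁻¹ * s * g⁻¹⁻¹) * k⁻¹) * m⁻¹ by group]
      exact l2 (LAE.conj_mem_conjS.2 (l1 (LAE.conj_mem_conjS.2 (LAE.conj_mem_conjS.2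
        ⟨hs, mem_centralizer_singleton_iff.2 e⟩))))

end CfsgLib.D5
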