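import Cfsg.Agent.Lib.D5.B5T

/-!
B50B: a unique frame; the torus is elementary.  See `plans/D5.md`.
-/

set_option autoImplicit false
set_option linter.unusedSectionVars false

namespace CfsgLib.D5

open Matrix Cfsg Cfsg.Geo CfsgLib.Asch Subgroup
open scoped MatrixGroups

variable {G F : Type*} [Group G] [Field F] {ρ : G →* S5 F}

namespace B5B

theorem sg_eq (σ : Equiv.Perm (Fin 5)) (i : Fin 5) :
    sg F (σ i) = diagonal fun p => if σ⁻¹ p = i then 1 else -1 := by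
  simp only [sg, Equiv.Perm.inv_eq_iff_eq]

theorem sg_mul (σ : Equiv.Perm (Fin 5)) :
    sg F (σ 0) * sg F (σ 1) = diagonal fun p => (![-1, -1, 1, 1, 1] : V5 F) (σ⁻¹ p) := by
  rw [sg_eq, sg_eq, diagonal_mul_diagonal]
  congr 1
  funext p
  generalize σ⁻¹ p = q
  fin_cases q <;> simp

theorem inv_dt (σ : Equiv.Perm (Fin 5)) (j : Fin 5) :
    σ⁻¹ ((Equiv.swap (σ 0) (σ 1) * Equiv.swap (σ 2) (σ 3))⁻¹ j) =
      (Equiv.swap 0 1 * Equiv.swap 2 3 : Equiv.Perm (Fin 5)) (σ⁻¹ j) := by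
  revert σ j
  decide +kernel

theorem comm_dv (inj : Function.Injective ρ) {σ : Equiv.Perm (Fin 5)} {x u : G} {a v : V5 F}
    (hx : mt ρ x = mon (Equiv.swap (σ 0) (σ 1) * Equiv.swap (σ 2) (σ 3)) a)
    (hu : mt ρ u = diagonal fun p => v (σ⁻¹ p)) (h0 : v 0 = v 1) (h2 : v 2 = v 3) :
    u * x = x * u := by
  have := b50a_conj_diag hx hu
  have e : x * u * x⁻¹ = u := mt_inj inj (this.trans (hu.trans (congrArg _ (funext fun p => by
    rw [inv_dt]
    generalize σ⁻¹ p = q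
    fin_cases q
    exacts [h0, h0.symm, h2, h2.symm, rfl]))).symm)
  exact (mul_inv_eq_iff_eq_mul.1 e).symm

theorem tr_dv {σ : Equiv.Perm (Fin 5)} {u : G} {v : V5 F}
    (hu : mt ρ u = diagonal fun p => v (σ⁻¹ p)) : tr ρ u = v 0 + v 1 + v 2 + v 3 + v 4 := by
  rw [tr, hu, trace_diagonal, ← Fin.sum_univ_five]
  exact Equiv.sum_comp σ⁻¹ v

theorem four_dec : ∀ ψ : Equiv.Perm (Fin 5), P8 ψ → ψ * ψ ≠ 1 → ∀ m, ψ m = m ↔ m = 4 := by
  decide +kernel

end B5B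

open B5T B5B

variable [Finite G] [IsAlgClosed F] {S : Sylow 2 G} {c : G}

/-- an element swapping two frame elements by an involution `y` with `x y = z y x` -/
theorem BS.b5b_not (h : BS ρ S c) (hE : ∀ i, ∃ d ∈ S, mt ρ d = sg F i)
    (hD : ∀ d ∈ S, IsNg ρ d → ∃ i, mt ρ d = sg F i) {x y z : G} {t e : V5 F}
    (hx : mt ρ x = diagonal t) (hz : mt ρ z = diagonal e) (zz : z * z = 1) (tz : tr ρ z = 1)
    (hy : IsNg ρ y) (yz : y * z = z * y) (xy : y * x = z * x * y) : False := by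
  choose d dS hd using hE
  have inj := h.hy.inj
  have n1 : (-1 : F) ≠ 1 := fun k => h.two (by linear_combination -k)
  obtain ⟨m, n, mn, he⟩ := two_of_tr h.two hz (mon_sq (hz.trans (mon_one e).symm) zz).2 tz
  have t0 := ne_zero_of_mon (hx.trans (mon_one t).symm)
  have key : ∀ p q, mt ρ y p q ≠ 0 → (q = m ↔ p = n) := fun p q k => by
    have e1 := ent' hz hz yz k
    have e2 := ent' hx (mt_diag_mul hz hx) xy k
    have e3 : p = q → e p = 1 := fun r => by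
      subst r
      exact mul_right_cancel₀ (t0 p) (e2.symm.trans (one_mul _).symm)
    rw [he, he] at e1
    rw [he] at e3
    by_cases a1 : p = m ∨ p = n <;> by_cases a2 : q = m ∨ q = n
    · have : p ≠ q := fun r => n1 (by simpa [a1] using e3 r)
      omega
    · exact absurd (by simpa [a1, a2] using e1.symm) n1
    · exact absurd (by simpa [a1, a2] using e1) n1
    · omega
  have k1 : y * d m = d n * y := mt_inj inj (by
    rw [mt_mul, mt_mul, hd, hd]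
    exact of_ent fun p q k => if_congr (key p q k) rfl rfl)
  have yy : y * y = 1 := let ⟨_, _, k⟩ := hy; k.mul_self inj
  have dd : ∀ i, d i * d i = 1 := fun i => let ⟨_, _, k⟩ := isNg_sg (hd i); k.mul_self inj
  have k3 : y * d m * (y * d m) = d n * d m :=
    (congrArg (· * (y * d m)) k1).trans (by rw [mul_assoc, ← mul_assoc y, yy, one_mul])
  have k4 := nc inj hD hy (isNg_sg (hd m)) (by
    rw [show 2 ^ 2 = 2 * 2 from rfl, pow_mul, pow_two (y * d m), k3, pow_two, mul_assoc, ← mul_assoc (d m),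
      b50a_sg_comm inj (hd m) (hd n), mul_assoc, dd, mul_one, dd])
  exact mn (b50a_sg_inj h.two (by rw [← hd, ← hd, mul_right_cancel (k4.symm.trans k1)]))

theorem BS.diag_x (h : BS ρ S c) (hE : ∀ i, ∃ d ∈ S, mt ρ d = sg F i)
    (hD : ∀ d ∈ S, IsNg ρ d → ∃ i, mt ρ d = sg F i) :
    (∀ t, Tor ρ S t → ∀ i, t i * t i = 1) ∧
    ∃ (σ π : Equiv.Perm (Fin 5)) (x z g : G) (a b t : V5 F), σ 4 = 4 ∧ x ∈ S ∧ x * x = 1 ∧
      mt ρ x = mon (Equiv.swap (σ 0) (σ 1) * Equiv.swap (σ 2) (σ 3)) a ∧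
      mt ρ z = sg F (σ 0) * sg F (σ 1) ∧ g * c * g⁻¹ = c ∧ g * x * g⁻¹ ∈ S ∧
      mt ρ (g * x * g⁻¹) = diagonal t ∧ g * z * g⁻¹ ∈ S ∧ mt ρ (g * z * g⁻¹) = mon π b ∧
      π ≠ 1 ∧ Equiv.Perm.sign π = 1 := by
  obtain ⟨⟨n, π5, a5, hn, o5⟩, x, xS, g, xx, xn, ⟨t, ht⟩, hg⟩ := h.diag_fus hE hD
  have inj := h.hy.inj
  obtain ⟨πx, a, p8, ha⟩ := h.mono x xS
  obtain ⟨-, -, σ, σ4, rfl⟩ := dt hE hD xS xx ha p8 (fun e => xn a (by rw [ha, e, mon_one]))
  obtain ⟨d0, d0S, e0⟩ := hE (σ 0)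
  obtain ⟨d1, d1S, e1⟩ := hE (σ 1)
  have hz : mt ρ (d0 * d1) = sg F (σ 0) * sg F (σ 1) := by rw [mt_mul, e0, e1]
  have hz' := hz.trans (sg_mul σ)
  have d00 : d0 * d0 = 1 := let ⟨_, _, k⟩ := isNg_sg e0; k.mul_self inj
  have d11 : d1 * d1 = 1 := let ⟨_, _, k⟩ := isNg_sg e1; k.mul_self inj
  have d01 := b50a_sg_comm inj e0 e1
  have zz : d0 * d1 * (d0 * d1) = 1 := by rw [mul_assoc, ← mul_assoc d1, ← d01, mul_assoc, d11, mul_one, d00]
  have zS := hg _ (mul_mem d0S d1S) (comm_dv inj ha hz' rfl rfl)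
  have zz' : g * (d0 * d1) * g⁻¹ * (g * (d0 * d1) * g⁻¹) = 1 := by rw [conj_mul, zz]; group
  obtain ⟨π, b, p8', hb⟩ := h.mono _ zS
  have π1 : π ≠ 1 := fun e => by
    rw [e, mon_one] at hb
    have k : x * d0 * x⁻¹ = d1 := mt_inj inj (by
      rw [mon_conj_sg ha e0, e1]
      congr 1
      simp [Equiv.swap_apply_of_ne_of_ne])
    refine h.b5b_not hE hD ht hb zz' (by rw [tr_conj, tr_dv hz']; simp) ((isNg_sg e0).conj g) ?_ ?_
    · rw [conj_mul, conj_mul, mul_assoc d0 d1, ← d01]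
    · rw [conj_mul, conj_mul, conj_mul, ← k, inv_eq_of_mul_eq_one_right xx, mul_assoc d0, mul_assoc _ x x, xx,
        mul_one, mul_assoc d0, mul_assoc x, d00, mul_one]
  obtain ⟨s1, f4, -⟩ := dt hE hD zS zz' hb p8' π1
  have cS := hg c h.mem (h.comm xS).symm
  obtain ⟨m, hm⟩ := hD _ cS ((isNg_sg h.eq).conj g)
  have gc : g * c * g⁻¹ = c := by
    have k := mon_conj_sg hb hm
    rw [conj_mul, h.comm (mul_mem d0S d1S), ← conj_mul, mul_inv_cancel_right, hm] at k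
    rw [(f4 m).1 (b50a_sg_inj h.two k).symm] at hm
    exact mt_inj inj (hm.trans h.eq.symm)
  refine ⟨fun t' ⟨s, hs, e⟩ i => by_contra fun k => ?_, σ, π, x, d0 * d1, g, a, b, t, σ4, xS, xx, ha, hz, gc,
    hg x xS rfl, ht, zS, hb, π1, s1⟩
  obtain ⟨ι, hι⟩ := IsAlgClosed.exists_eq_mul_self (-1 : F)
  have ex : ∃ N, ∀ i, t' i ^ 2 ^ N = 1 := by
    obtain ⟨N, hN⟩ := S.isPGroup' ⟨s, hs⟩
    refine ⟨N, fun j => ?_⟩
    have := mt_pow (ρ := ρ) s (2 ^ N)
    rw [show s ^ 2 ^ N = 1 from congrArg Subtype.val hN, mt_one, e, diagonal_pow] at this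
    simpa using (congrFun (congrFun this j) j).symm
  classical
  obtain ⟨N, hN⟩ : ∃ N, Nat.find ex = N + 2 := Nat.exists_eq_add_of_le' ((Nat.le_find_iff ex 2).2 fun j hj q => by
    have := q i
    interval_cases j
    · rw [pow_zero, pow_one] at this; exact k (by rw [this, mul_one])
    · exact k (by rw [← pow_two]; exact this))
  have u4 : ∀ q, (![ι, ι, 1, 1, -1] : V5 F) q ^ 2 ^ 2 = 1 := fun q => by
    have : ι ^ 4 = 1 := by linear_combination (ι * ι - 1) * -hι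
    fin_cases q <;> simp [this]
    norm_num
  obtain ⟨u, hu⟩ := tor_full hn o5 (N + 1) e (hN ▸ Nat.find_spec ex)
    (not_forall.1 (Nat.find_min ex (by omega))) (fun p => (![ι, ι, 1, 1, -1] : V5 F) (σ⁻¹ p))
    (fun p => by rw [show 2 ^ (N + 1 + 1) = 2 ^ 2 * 2 ^ N by ring, pow_mul, u4, one_pow])
    (by rw [Equiv.prod_comp σ⁻¹, Fin.prod_univ_five]; simp [← hι])
  have uS : u ∈ S := tor_mem inj (fun s hs => let ⟨π, a, _, h⟩ := h.mono s hs; ⟨π, a, h⟩) hu (n := 2)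
    (mt_inj inj (by rw [mt_pow, hu, diagonal_pow, mt_one, ← diagonal_one]; exact congrArg _ (funext fun p => u4 _)))
  have uu : u * u = d0 * d1 := mt_inj inj (by
    rw [mt_diag_mul hu hu, hz']
    congr 1
    funext p
    generalize σ⁻¹ p = q
    fin_cases q <;> simp [← hι])
  obtain ⟨ψ, β, p8'', hβ⟩ := h.mono _ (hg u uS (comm_dv inj ha hu rfl rfl))
  have ψ2 := mt_mon_mul hβ hβ
  rw [conj_mul, uu] at ψ2
  have ψ4 := four_dec ψ p8'' (by rw [(mon_unique ψ2 hb).1]; exact π1)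
  have t1 := tr_mon hβ ψ4
  have t2 := tr_mon (mt_mon_diag hβ h.eq) ψ4
  rw [tr_conj, tr_dv hu] at t1
  rw [← gc, conj_mul, tr_conj, tr_dv (σ := σ) (v := ![-ι, -ι, -1, -1, -1]) (by
    rw [mt_diag_mul hu (h.eq.trans (σ4 ▸ sg_eq σ 4))]
    congr 1
    funext p
    generalize σ⁻¹ p = q
    fin_cases q <;> simp)] at t2
  simp at t1 t2
  have h4 : (4 : F) ≠ 0 := by rw [show (4 : F) = 2 * 2 by norm_num]; exact mul_ne_zero h.two h.two
  have : ι = -1 := mul_left_cancel₀ h4 (by linear_combination t1 - t2)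
  exact h.two (by rw [this] at hι; linear_combination -hι)

end CfsgLib.D5
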