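import Cfsg.Agent.Lib.D5.B50b

/-!
B50C: a unique frame; the Sylow subgroup is `2 ≀ V₄`.  See `plans/D5.md`.
-/

set_option autoImplicit false
set_option linter.unusedSectionVars false

namespace CfsgLib.D5

open Matrix Cfsg Cfsg.Geo CfsgLib.Asch Subgroup
open scoped MatrixGroups

variable {G F : Type*} [Group G] [Field F] {ρ : G →* S5 F}

open B5T B5B

namespace B5C

theorem grp {d w x X c : G} (dd : d * d = 1) (ww : w * w = 1) (xx : x * x = 1) (dx : Commute d x)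
    (dc : Commute d c) (xc : Commute x c) (wc : Commute w c) (wX : Commute w X) (cc : c * c = 1)
    (wx : w * x = x * c * w) (dX : d * X = x * X * d) (cm : Commute d (w * d * w)) :
    d * (w * d * w) * (d * (w * d * w)) = 1 ∧ Commute (d * (w * d * w)) w ∧ Commute (d * (w * d * w)) x ∧
      Commute (d * (w * d * w)) c ∧ d * (w * d * w) * X = c * X * (d * (w * d * w)) := by
  have ww' : ∀ g, w * (w * g) = g := fun g => by rw [← mul_assoc, ww, one_mul]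
  have dd' : ∀ g, d * (d * g) = g := fun g => by rw [← mul_assoc, dd, one_mul]
  have xx' : ∀ g, x * (x * g) = g := fun g => by rw [← mul_assoc, xx, one_mul]
  refine ⟨?_, ?_, dx.mul_left ?_, dc.mul_left ((wc.mul_left dc).mul_left wc), ?_⟩
  · conv_lhs => rw [mul_assoc, ← mul_assoc (w * d * w), ← cm.eq]
    simp only [mul_assoc, ww', dd', ww]
  · show _ * w = w * _
    conv_rhs => rw [cm.eq]
    simp only [mul_assoc, ww', ww, mul_one]
  · calc w * d * w * x = w * d * (x * c * w) := by rw [mul_assoc, wx]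
      _ = w * (x * c) * d * w := by rw [← mul_assoc, mul_assoc w d, (dx.mul_right dc).eq, ← mul_assoc]
      _ = x * (w * d * w) := by
        rw [← mul_assoc w, wx, mul_assoc _ w c, wc.eq, ← mul_assoc _ c w, mul_assoc x, cc, mul_one]
        simp only [mul_assoc]
  · calc d * (w * d * w) * X = d * w * (d * X) * w := by simp only [mul_assoc, wX.eq]
      _ = d * (w * x) * X * d * w := by rw [dX]; simp only [mul_assoc]
      _ = x * c * (d * X) * (w * d * w) := by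
        rw [wx, ← mul_assoc d, (dx.mul_right dc).eq, mul_assoc _ w X, wX.eq]
        simp only [mul_assoc]
      _ = _ := by
        rw [dX, xc.eq]
        simp only [mul_assoc, xx']

theorem rng (h2 : (2 : F) ≠ 0) {N X C W : M5 F} (h1 : N * X = -N) (h3 : X * N = -N) (h4 : C * N = -N)
    (h5 : X * W = W * X * C) (ww : W * W = 1) :
    (N - 1) * (W * (N - 1) * W) = W * (N - 1) * W * (N - 1) := by
  have k : N * W * N = 0 := by
    have : N * W * N = -(N * W * N) :=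
      calc N * W * N = -(N * (X * W) * N) := by rw [← mul_assoc, h1]; simp
        _ = -(N * W * (X * (C * N))) := by rw [h5]; simp only [mul_assoc]
        _ = _ := by rw [h4, mul_neg, h3, neg_neg]
    rw [eq_neg_iff_add_eq_zero, ← two_smul F, smul_eq_zero] at this
    exact this.resolve_left h2
  have e : W * (N - 1) * W = W * N * W - 1 := by rw [mul_sub, sub_mul, mul_one, ww]
  have k1 : N * (W * N * W) = 0 := by rw [← mul_assoc, ← mul_assoc, k, zero_mul]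
  have k2 : W * N * W * N = 0 := by rw [mul_assoc W, mul_assoc W, k, mul_zero]
  rw [e, sub_mul, mul_sub, k1, mul_sub (_ - _), sub_mul, k2]
  simp only [mul_one, one_mul]

theorem sg_add {i j : Fin 5} (h : i ≠ j) : (sg F i + 1) * sg F j = -(sg F i + 1) := by
  rw [sg, sg, ← diagonal_one, diagonal_add, diagonal_mul_diagonal, diagonal_neg]
  congr 1
  funext p
  by_cases e : p = i
  · simp [e, h]
  · simp [e]

theorem cj_add {g a b : G} {i j : Fin 5} (h : i ≠ j) (ha : mt ρ a = sg F i) (hb : mt ρ b = sg F j) :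
    (mt ρ (g * a * g⁻¹) + 1) * mt ρ (g * b * g⁻¹) = -(mt ρ (g * a * g⁻¹) + 1) := by
  have e : mt ρ (g * a * g⁻¹) + 1 = mt ρ g * (sg F i + 1) * mt ρ g⁻¹ := by
    rw [mul_add, add_mul, mul_one, mt_mul_inv, mt_mul, mt_mul, ha]
  rw [e, mt_mul, mt_mul, hb, mul_assoc, ← mul_assoc (mt ρ g⁻¹), ← mul_assoc (mt ρ g⁻¹), mt_inv_mul, one_mul,
    ← mul_assoc, mul_assoc (mt ρ g), sg_add h, mul_neg, neg_mul]

theorem ite_iff (h2 : (2 : F) ≠ 0) {A B : Prop} [Decidable A] [Decidable B] {u : F} (hu : u ≠ 0)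
    (h : (if A then u else -u) = if B then u else -u) : A ↔ B := by
  have n : u ≠ -u := fun k => mul_ne_zero h2 hu (by linear_combination k)
  by_cases a : A <;> by_cases b : B <;> simp [a, b, n, n.symm] at h ⊢

theorem pq_dec : ∀ P Q : Fin 5, (Q = 4 ↔ P = 4) → (Q = 0 ∨ Q = 2 ↔ P = 0 ∨ P = 2) → (P = Q → P = 4) →
    P = (Equiv.swap 0 2 * Equiv.swap 1 3 : Equiv.Perm (Fin 5)) Q := by
  decide +kernel

theorem w_dec : ∀ (σ : Equiv.Perm (Fin 5)) (j : Fin 5),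
    σ⁻¹ ((Equiv.swap (σ 0) (σ 1) * Equiv.swap (σ 2) (σ 3)) j) =
      (Equiv.swap 0 1 * Equiv.swap 2 3 : Equiv.Perm (Fin 5)) (σ⁻¹ j) := by
  decide +kernel

theorem tau_dec : ∀ σ : Equiv.Perm (Fin 5), σ * (Equiv.swap 0 2 * Equiv.swap 1 3) * σ⁻¹ ≠ 1 ∧
    σ * (Equiv.swap 0 2 * Equiv.swap 1 3) * σ⁻¹ ≠ Equiv.swap (σ 0) (σ 1) * Equiv.swap (σ 2) (σ 3) ∧
    Equiv.Perm.sign (σ * (Equiv.swap 0 2 * Equiv.swap 1 3) * σ⁻¹) = 1 ∧
    Equiv.swap (σ 0) (σ 1) * Equiv.swap (σ 2) (σ 3) ≠ 1 ∧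
    Equiv.Perm.sign (Equiv.swap (σ 0) (σ 1) * Equiv.swap (σ 2) (σ 3)) = 1 := by
  decide +kernel

theorem v4_dec : ∀ π : Equiv.Perm (Fin 5), P8 π → Equiv.Perm.sign π = 1 → π = 1 ∨
    π = Equiv.swap 0 1 * Equiv.swap 2 3 ∨ π = Equiv.swap 0 2 * Equiv.swap 1 3 ∨
    π = Equiv.swap 0 3 * Equiv.swap 1 2 := by
  decide +kernel

theorem v4_gen {ψ φ π : Equiv.Perm (Fin 5)} (h1 : P8 ψ) (s1 : Equiv.Perm.sign ψ = 1) (n1 : ψ ≠ 1)
    (h2 : P8 φ) (s2 : Equiv.Perm.sign φ = 1) (n2 : φ ≠ 1) (n : ψ ≠ φ) (h : P8 π)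
    (s : Equiv.Perm.sign π = 1) : π = 1 ∨ π = ψ ∨ π = φ ∨ π = ψ * φ := by
  rcases v4_dec ψ h1 s1 with rfl | rfl | rfl | rfl <;> rcases v4_dec φ h2 s2 with rfl | rfl | rfl | rfl <;>
    rcases v4_dec π h s with rfl | rfl | rfl | rfl <;> revert n1 n2 n <;> decide +kernel

theorem odd_dec : ∀ π : Equiv.Perm (Fin 5), P8 π → Equiv.Perm.sign π ≠ 1 →
    P8 (π⁻¹ * Equiv.swap 0 1) ∧ Equiv.Perm.sign (π⁻¹ * Equiv.swap 0 1) = 1 := by
  decide +kernel

theorem sq_of_odd {r : F} {m : ℕ} (hm : Odd m) (h : r ^ m * r ^ m = 1) (h4 : r * r * (r * r) = 1) :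
    r * r = 1 := by
  obtain ⟨k, rfl⟩ := hm
  rwa [← mul_pow, pow_succ, pow_mul, pow_two, h4, one_pow, one_mul] at h

end B5C

open B5C

variable [Finite G] [IsAlgClosed F] {S : Sylow 2 G} {c : G}

/-- two different double transpositions occur -/
theorem BS.b5c_two (h : BS ρ S c) (hE : ∀ i, ∃ d ∈ S, mt ρ d = sg F i)
    (hD : ∀ d ∈ S, IsNg ρ d → ∃ i, mt ρ d = sg F i) :
    ∃ (ψ φ : Equiv.Perm (Fin 5)) (a b : V5 F), ∃ s ∈ S, ∃ s' ∈ S, mt ρ s = mon ψ a ∧ mt ρ s' = mon φ b ∧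
      Equiv.Perm.sign ψ = 1 ∧ ψ ≠ 1 ∧ Equiv.Perm.sign φ = 1 ∧ φ ≠ 1 ∧ ψ ≠ φ := by
  obtain ⟨-, σ, π, x, z, g, a, b, t, σ4, xS, xx, ha, hz, gc, XS, ht, zS, hb, π1, sπ⟩ := h.diag_x hE hD
  obtain ⟨q1, q2, q3, q4, q5⟩ := tau_dec σ
  by_cases e : π ≠ Equiv.swap (σ 0) (σ 1) * Equiv.swap (σ 2) (σ 3)
  · exact ⟨_, _, b, a, _, zS, x, xS, hb, ha, sπ, π1, q5, q4, e⟩
  obtain rfl := not_not.1 e
  choose d dS hd using hE
  have inj := h.hy.inj
  have dd : ∀ i, d i * d i = 1 := fun i => let ⟨_, _, k⟩ := isNg_sg (hd i); k.mul_self inj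
  have dc : ∀ i j, Commute (d i) (d j) := fun i j => b50a_sg_comm inj (hd i) (hd j)
  obtain rfl : z = d (σ 0) * d (σ 1) := mt_inj inj (by rw [hz, mt_mul, hd, hd])
  have hc : mt ρ c = diagonal fun p => if σ⁻¹ p = 4 then 1 else -1 := by rw [h.eq, ← sg_eq, σ4]
  have hw : mt ρ (d (σ 0) * d (σ 2)) = diagonal fun p => if σ⁻¹ p = 0 ∨ σ⁻¹ p = 2 then -1 else - -1 := by
    rw [mt_diag_mul ((hd _).trans (sg_eq σ 0)) ((hd _).trans (sg_eq σ 2))]
    congr 1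
    funext p
    generalize σ⁻¹ p = q
    fin_cases q <;> simp
  have cj : ∀ {u v : G}, Commute u v → Commute (g * u * g⁻¹) (g * v * g⁻¹) := fun k => k.conj g
  have sq : ∀ {u : G}, u * u = 1 → g * u * g⁻¹ * (g * u * g⁻¹) = 1 := fun k => by rw [conj_mul, k]; group
  have pr : ∀ i j, d i * d j * (d i * d j) = 1 := fun i j => by
    rw [mul_assoc, ← mul_assoc (d j), (dc j i).eq, mul_assoc, dd, mul_one, dd]
  have cc : c * c = 1 := let ⟨_, _, k⟩ := isNg_sg h.eq; k.mul_self inj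
  have wx : d (σ 0) * d (σ 2) * (g * (d (σ 0) * d (σ 1)) * g⁻¹) =
      g * (d (σ 0) * d (σ 1)) * g⁻¹ * c * (d (σ 0) * d (σ 2)) := mt_inj inj (by
    rw [mt_mon_mul (hw.trans (mon_one _).symm) hb, mt_mon_diag (mt_mon_diag hb hc) hw, one_mul]
    congr 1
    funext p
    rw [w_dec]
    generalize σ⁻¹ p = q
    fin_cases q <;> simp [Equiv.swap_apply_def])
  have k : x * d (σ 0) * x⁻¹ = d (σ 1) := mt_inj inj (by
    rw [mon_conj_sg ha (hd _), hd]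
    congr 1
    simp [Equiv.swap_apply_of_ne_of_ne])
  have dx := cj ((Commute.refl _).mul_right (dc (σ 0) (σ 1)))
  have d0c : Commute (g * d (σ 0) * g⁻¹) c := gc ▸ cj (h.comm (dS _))
  have xc : Commute (g * (d (σ 0) * d (σ 1)) * g⁻¹) c := h.comm zS
  have wc : Commute (d (σ 0) * d (σ 2)) c := h.comm (mul_mem (dS _) (dS _))
  have N1 : (mt ρ (g * d (σ 0) * g⁻¹) + 1) * mt ρ (g * (d (σ 0) * d (σ 1)) * g⁻¹) =
      -(mt ρ (g * d (σ 0) * g⁻¹) + 1) := by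
    rw [← conj_mul, mt_mul (g * d (σ 0) * g⁻¹), ← mul_assoc, add_mul, ← mt_mul, sq (dd _), mt_one, one_mul,
      add_comm 1]
    exact cj_add (by simp) (hd _) (hd _)
  have cN : ∀ {u v : G}, Commute u v → mt ρ v * (mt ρ u + 1) = (mt ρ u + 1) * mt ρ v := fun k => by
    rw [mul_add, add_mul, ← mt_mul, ← mt_mul, k.eq, mul_one, one_mul]
  have N2 := cj_add (ρ := ρ) (g := g) (i := σ 0) (j := 4) (by rw [← σ4]; simp) (hd _) h.eq
  rw [gc] at N2
  have xw : g * (d (σ 0) * d (σ 1)) * g⁻¹ * (d (σ 0) * d (σ 2)) =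
      d (σ 0) * d (σ 2) * (g * (d (σ 0) * d (σ 1)) * g⁻¹) * c := by
    rw [wx, mul_assoc _ _ c, wc.eq, ← mul_assoc _ c, mul_assoc _ c c, cc, mul_one]
  have cm := rng h.two N1 ((cN dx).trans N1) ((cN d0c).trans N2) (W := mt ρ (d (σ 0) * d (σ 2)))
    (by rw [← mt_mul, xw, mt_mul _ c, mt_mul (d (σ 0) * d (σ 2))]) (by rw [← mt_mul, pr, mt_one])
  simp only [add_sub_cancel_right, ← mt_mul] at cm
  obtain ⟨yy, yw, yx, yc, yX⟩ := grp (X := g * x * g⁻¹) (sq (dd _)) (pr _ _) (sq (pr _ _)) dx d0c xc wc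
    (b50a_sg_comm inj hw ht) cc wx (by
      rw [conj_mul, conj_mul, conj_mul, ← k, inv_eq_of_mul_eq_one_right xx, mul_assoc (d (σ 0)), mul_assoc _ x x,
        xx, mul_one, mul_assoc (d (σ 0)), mul_assoc x, dd, mul_one]) (mt_inj inj cm)
  generalize g * d (σ 0) * g⁻¹ * (d (σ 0) * d (σ 2) * (g * d (σ 0) * g⁻¹) * (d (σ 0) * d (σ 2))) = y at *
  have hy : mt ρ y = mon (σ * (Equiv.swap 0 2 * Equiv.swap 1 3) * σ⁻¹)
      fun q => mt ρ y ((σ * (Equiv.swap 0 2 * Equiv.swap 1 3) * σ⁻¹ : Equiv.Perm (Fin 5)) q) q := by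
    ext p q
    rw [mon, of_apply]
    split_ifs with e
    · rw [e]
    · by_contra n
      refine e (σ⁻¹.injective ((pq_dec _ _ (ite_iff h.two one_ne_zero (ent' hc hc yc n))
        (ite_iff h.two (neg_ne_zero.2 one_ne_zero) (ent' hw hw yw n)) fun r => ?_).trans (by simp)))
      have e2 := ent' ht (mt_diag_mul hc ht) yX n
      rw [σ⁻¹.injective r] at e2 ⊢
      by_contra r'
      rw [if_neg r'] at e2
      exact mul_ne_zero h.two (ne_zero_of_mon (ht.trans (mon_one t).symm) q) (by linear_combination e2)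
  have xx' := sq (pr (σ 0) (σ 1))
  generalize g * (d (σ 0) * d (σ 1)) * g⁻¹ = x' at *
  have nE : ∀ {u : G} {ψ : Equiv.Perm (Fin 5)} {β : V5 F}, mt ρ u = mon ψ β →
      zpowers u ≤ normalizer (b50aE ρ inj ⊤ : Set G) := fun hu => zpowers_le.2 (mem_normalizer_fintype
    fun n ⟨_, n2, _, n3⟩ => ⟨mem_top _, by rw [conj_mul, n2]; group, _, b50a_conj_diag hu n3⟩)
  have pE : IsPGroup 2 (b50aE ρ inj ⊤) := fun ⟨n, _, n2, _⟩ => ⟨1, Subtype.ext (by simpa [pow_two] using n2)⟩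
  have pQ := pE.to_sup_of_normal_left' ((pz (x := x') (k := 1) (by rw [pow_one, pow_two, xx'])).to_sup_of_normal_left'
    (pz (x := y) (k := 1) (by rw [pow_one, pow_two, yy])) (zpowers_le.2 (mem_normalizer_fintype (S := (zpowers x' : Set G)) (by
      rintro _ ⟨m, rfl⟩
      exact ⟨m, by rw [(yx.zpow_right m).eq, mul_inv_cancel_right]⟩)))) (sup_le (nE hb) (nE hy))
  obtain ⟨k, hk⟩ := conj_into S pQ
  obtain ⟨κ, hκ⟩ := b50a_perm inj h.two hd hD (g := k) fun i => hk _ (mem_sup_left ⟨mem_top _, dd i, _, hd i⟩)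
  obtain ⟨α, hα⟩ := mon_of_perm h.two hd hκ
  exact ⟨_, _, _, _, _, hk x' (mem_sup_right (mem_sup_left (mem_zpowers _))), _,
    hk y (mem_sup_right (mem_sup_right (mem_zpowers _))), mon_conj hα hb, mon_conj hα hy,
    by rw [map_mul, map_mul, q5, mul_one, ← map_mul, mul_inv_cancel, map_one],
    fun e => q4 (conj_eq_one_iff.1 e), by rw [map_mul, map_mul, q3, mul_one, ← map_mul, mul_inv_cancel, map_one],
    fun e => q1 (conj_eq_one_iff.1 e), fun e => q2 (mul_left_cancel (mul_right_cancel e)).symm⟩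

theorem BS.diag_four (h : BS ρ S c) (hE : ∀ i, ∃ d ∈ S, mt ρ d = sg F i)
    (hD : ∀ d ∈ S, IsNg ρ d → ∃ i, mt ρ d = sg F i) :
    (∀ s ∈ S, ∀ π a, mt ρ s = mon π a → Equiv.Perm.sign π = 1) ∧
    ∀ π, P8 π → Equiv.Perm.sign π = 1 → ∃ s ∈ S, ∃ a, mt ρ s = mon π a := by
  have inj := h.hy.inj
  have v4 : ∀ π, P8 π → Equiv.Perm.sign π = 1 → ∃ s ∈ S, ∃ a, mt ρ s = mon π a := fun π p s0 => by
    obtain ⟨ψ, φ, a, b, s, hs, s', hs', ha, hb, s1, n1, s2, n2, n⟩ := h.b5c_two hE hD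
    rcases v4_gen (p8_of_mono h.mono hs ha) s1 n1 (p8_of_mono h.mono hs' hb) s2 n2 n p s0 with rfl | rfl | rfl | rfl
    · exact ⟨1, one_mem _, 1, by rw [mt_one, mon_one]; exact diagonal_one.symm⟩
    · exact ⟨s, hs, a, ha⟩
    · exact ⟨s', hs', b, hb⟩
    · exact ⟨_, mul_mem hs hs', _, mt_mon_mul ha hb⟩
  refine ⟨fun s0 hs0 π a0 ha0 => by_contra fun k => ?_, v4⟩
  obtain ⟨v, hv, β, hβ⟩ := v4 _ (odd_dec π (p8_of_mono h.mono hs0 ha0) k).1
    (odd_dec π (p8_of_mono h.mono hs0 ha0) k).2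
  obtain ⟨s, hs, a, ha⟩ : ∃ s ∈ S, ∃ a, mt ρ s = mon (Equiv.swap 0 1) a :=
    ⟨_, mul_mem hs0 hv, _, by rw [mt_mon_mul ha0 hβ, mul_inv_cancel_left]⟩
  have hT := (h.diag_x hE hD).1
  obtain ⟨⟨n5, π5, a5, hn, o5⟩, -⟩ := h.diag_fus hE hD
  have hE' := hE
  choose d dS hd using hE'
  have lam : ∀ {u : G} {ψ : Equiv.Perm (Fin 5)} {β : V5 F}, mt ρ u = mon ψ β → ψ ∈ b50aLam d :=
    fun hu => ⟨_, fun i => mt_inj inj ((mon_conj_sg hu (hd i)).trans (hd _).symm)⟩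
  classical
  have top : b50aLam d = ⊤ := Equiv.Perm.subgroup_eq_top_of_swap_mem (by decide)
    (by rw [Fintype.card_fin, ← Nat.card_eq_fintype_card]; exact o5.symm.dvd.trans (orderOf_dvd_natCard _ (lam hn))) (lam ha)
    ⟨0, 1, by decide, rfl⟩
  obtain ⟨n, hn'⟩ : Equiv.swap 2 3 * Equiv.swap 3 4 ∈ b50aLam d := top ▸ mem_top _
  obtain ⟨ν, hν⟩ := mon_of_perm h.two hd hn'
  have e1 := mt_mon_mul ha ha
  rw [Equiv.swap_mul_self, mon_one] at e1
  have e2 := hT _ ⟨_, mul_mem hs hs, e1⟩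
  have e3 := mt_mon_mul ha (mon_conj hν ha)
  rw [show Equiv.swap (0 : Fin 5) 1 * (Equiv.swap 2 3 * Equiv.swap 3 4 * Equiv.swap 0 1 *
    (Equiv.swap 2 3 * Equiv.swap 3 4)⁻¹) = 1 by decide +kernel, mon_one] at e3
  obtain ⟨m, hm, e4⟩ := odd_tor inj h.mono e3
  have e5 := hT _ e4
  have ν0 := ne_zero_of_mon hν
  have a0 : a 0 * a 1 * (a 0 * a 1) = 1 := e2 1
  have a2 : a 2 * a 2 * (a 2 * a 2) = 1 := e2 2
  have a3 : a 3 * a 3 * (a 3 * a 3) = 1 := e2 3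
  have a4 : a 4 * a 4 * (a 4 * a 4) = 1 := e2 4
  have f2 : (a 2 * (ν 4 * a 4 * (ν 4)⁻¹)) ^ m * (a 2 * (ν 4 * a 4 * (ν 4)⁻¹)) ^ m = 1 := e5 2
  have f3 : (a 3 * (ν 2 * a 2 * (ν 2)⁻¹)) ^ m * (a 3 * (ν 2 * a 2 * (ν 2)⁻¹)) ^ m = 1 := e5 3
  have f4 : (a 4 * (ν 3 * a 3 * (ν 3)⁻¹)) ^ m * (a 4 * (ν 3 * a 3 * (ν 3)⁻¹)) ^ m = 1 := e5 4
  rw [mul_right_comm (ν _), mul_inv_cancel₀ (ν0 _), one_mul] at f2 f3 f4
  have g2 := sq_of_odd hm f2 (by linear_combination (a 4) ^ 4 * a2 + a4)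
  have g3 := sq_of_odd hm f3 (by linear_combination (a 2) ^ 4 * a3 + a2)
  have g4 := sq_of_odd hm f4 (by linear_combination (a 3) ^ 4 * a4 + a3)
  have hd := det_of_mon ha
  rw [Equiv.Perm.sign_swap (by decide)] at hd
  simp only [Units.val_neg, Units.val_one, Int.reduceNeg, Int.cast_neg, Int.cast_one] at hd
  have p : a 2 * a 3 * a 4 * (a 2 * a 3 * a 4) = 1 := by
    linear_combination (1 - a 0 * a 1 * a 2 * a 3 * a 4) * hd - (a 2 * a 3 * a 4) ^ 2 * a0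
  exact no01 hE hD hs ha a0 (by linear_combination p - (a 2) ^ 2 * g4) (by linear_combination p - (a 3) ^ 2 * g2)
    (by linear_combination p - (a 4) ^ 2 * g3)

end CfsgLib.D5
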