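import Cfsg.Agent.Lib.D5.B51h

/-!
B51: the number of non-commutative components.  See `plans/D5.md`.
-/

set_option autoImplicit false
set_option linter.unusedSectionVars false

namespace CfsgLib.D5

open Matrix Cfsg Cfsg.Geo CfsgLib.Asch Subgroup
open scoped MatrixGroups

variable {G F : Type*} [Group G] [Field F] {ρ : G →* S5 F}

theorem b51_inj {g x y : G} (e : g * x * g⁻¹ = g * y * g⁻¹) : x = y := mul_left_cancel (mul_right_cancel e)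

/-- the torus `diag(a, 1/a, 1, 1, 1)` -/
def b51T (ρ : G →* S5 F) : Subgroup G where
  carrier := {g | ∃ a : F, a ≠ 0 ∧ mt ρ g = diagonal ![a, a⁻¹, 1, 1, 1]}
  one_mem' := ⟨1, one_ne_zero, by
    rw [mt_one, ← diagonal_one]; congr 1; funext i; fin_cases i <;> simp⟩
  mul_mem' := by
    rintro g k ⟨a, ha, e⟩ ⟨b, hb, f⟩
    refine ⟨a * b, mul_ne_zero ha hb, ?_⟩
    rw [mt_mul, e, f, diagonal_mul_diagonal]; congr 1; funext i; fin_cases i <;> simp [mul_comm]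
  inv_mem' := by
    rintro g ⟨a, ha, e⟩
    refine ⟨a⁻¹, inv_ne_zero ha, ?_⟩
    have : diagonal ![a⁻¹, a⁻¹⁻¹, 1, 1, 1] * mt ρ g = 1 := by
      rw [e, diagonal_mul_diagonal, ← diagonal_one]; congr 1; funext i; fin_cases i <;> simp [ha]
    rw [← one_mul (mt ρ g⁻¹), ← this, mul_assoc, mt_mul_inv, mul_one]

theorem b51T_cyc [Finite G] (h : Function.Injective ρ) : IsCyclic (b51T ρ) := by
  refine isCyclic_of_injective_ringHom (R := F) ⟨⟨fun g => mt ρ g 0 0, by simp [mt_one]⟩, ?_⟩ ?_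
  · rintro ⟨g, a, -, e⟩ ⟨k, b, -, f⟩
    change mt ρ (g * k) 0 0 = mt ρ g 0 0 * mt ρ k 0 0
    rw [mt_mul, e, f, diagonal_mul_diagonal]; simp
  · rintro ⟨g, a, -, e⟩ ⟨k, b, -, f⟩ (q : mt ρ g 0 0 = mt ρ k 0 0)
    rw [e, f] at q
    exact Subtype.ext (mt_inj h (by rw [e, f, show a = b by simpa using q]))

theorem b51T_be {x y : G} {μ ν : F} (hμ : μ ≠ 0) (hν : ν ≠ 0) (hx : mt ρ x = be μ) (hy : mt ρ y = be ν) :
    x * y ∈ b51T ρ := ⟨μ⁻¹ * ν, mul_ne_zero (inv_ne_zero hμ) hν, by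
  rw [mt_mul, hx, hy, be, be, mon_mul, Equiv.swap_mul_self, mon_one]
  congr 1; funext i; fin_cases i <;> simp [mul_comm, Equiv.swap_apply_of_ne_of_ne]⟩

theorem b51T_inv (h : Function.Injective ρ) {y t : G} {ν : F} (hy : mt ρ y = be ν) (ht : t ∈ b51T ρ) :
    t * y = y * t⁻¹ := by
  obtain ⟨a, ha, e⟩ := ht
  refine eq_mul_inv_of_mul_eq (mt_inj h ?_)
  rw [mt_mul, mt_mul, e, hy, be, ← mon_one, mon_mul, mon_mul, one_mul, mul_one]
  congr 1; funext i; fin_cases i <;> simp [Equiv.swap_apply_of_ne_of_ne] <;> field_simp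

theorem b51T_comm (h : Function.Injective ρ) {p t : G} (hp : N2 ρ p ∨ mt ρ p = sg F 4) (ht : t ∈ b51T ρ) :
    t * p = p * t := by
  obtain ⟨a, -, e⟩ := ht
  refine mt_inj h ?_
  rw [mt_mul, mt_mul, e]
  rcases hp with (k | k | ⟨μ, -, k⟩) | k <;> rw [k]
  case inl.inr.inr =>
    rw [ga, ← mon_one, mon_mul, mon_mul, one_mul, mul_one]
    congr 1; funext i; fin_cases i <;> simp [Equiv.swap_apply_of_ne_of_ne]
  all_goals rw [sg, diagonal_mul_diagonal, diagonal_mul_diagonal]; simp only [mul_comm]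

variable [Finite G] [IsAlgClosed F] {S : Sylow 2 G} {c : G}

theorem BS.comm51 (h : BS ρ S c) {x p : G} (xS : x ∈ S) (hx : N1 ρ x) (hp : N2 ρ p ∨ p = c) : x * p = p * x :=
  hp.elim (hx.comm h.hy.inj) fun e => e ▸ h.comm xS

theorem BS.ne51 (h : BS ρ S c) {x p : G} (hx : N1 ρ x) (hp : N2 ρ p ∨ p = c) : x ≠ p := by
  rintro rfl
  exact hp.elim (hx.not_N2 h.two) fun e => hx.ne_sg h.two (e ▸ h.eq)

section
variable (h : BS ρ S c) (n1 : NC S (N1 ρ)) (n2 : ¬ NC S (N2 ρ))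
include h n2

theorem b51_cc {p q : G} (pS : p ∈ S) (qS : q ∈ S) (hp : N2 ρ p ∨ p = c) (hq : IsNg ρ q) : p * q = q * p := by
  rcases h.cases qS hq with k | k | rfl
  · exact (h.comm51 qS k hp).symm
  · rcases hp with hp | rfl
    · exact by_contra fun e => n2 ⟨p, pS, q, qS, hp, k, e⟩
    · exact (h.comm qS).symm
  · exact h.comm pS

theorem b51_nc {p q : G} (pS : p ∈ S) (qS : q ∈ S) (hp : IsNg ρ p) (hq : IsNg ρ q) (e : p * q ≠ q * p) : N1 ρ p :=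
  (h.cases pS hp).resolve_right fun k => e (b51_cc h n2 pS qS k hq)

include n1

theorem b51_noadj {p q : G} (pS : p ∈ S) (qS : q ∈ S) (hp : N2 ρ p ∨ p = c) (hq : N2 ρ q ∨ q = c) (n : p ≠ q) :
    ¬ Adj51 ρ p q := by
  rintro ⟨ν, hν, k⟩
  obtain ⟨a, aS, b, bS, ha, hb, ab⟩ := n1
  have inj := h.hy.inj
  have pN : IsNg ρ p := hp.elim (·.isNg) fun e => isNg_sg (e ▸ h.eq)
  have pq := b51_cc h n2 pS qS hp (k ▸ pN.conj ν)
  have ce : ∀ a ∈ S, N1 ρ a → ν * a * ν⁻¹ ∈ S := fun a aS ha => by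
    rwa [pN.cent51 h.two inj ha.isNg hν k pq (h.comm51 aS ha hp).symm (h.comm51 aS ha hq).symm n
      (h.ne51 ha hp).symm (h.ne51 ha hq).symm, mul_inv_cancel_right]
  obtain ⟨g, gν, hg⟩ := b51_two S (hν.sq51 inj)
  have cj : ∀ x y : G, g * x * g⁻¹ * (g * y * g⁻¹) = g * y * g⁻¹ * (g * x * g⁻¹) ↔ x * y = y * x := fun x y => by
    rw [conj_mul, conj_mul, mul_left_inj, mul_right_inj]
  have a' := hg a aS (ce a aS ha)
  have b' := hg b bS (ce b bS hb)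
  have p' := hg p pS (k ▸ qS)
  have pa := (h.comm51 aS ha hp).symm
  have pb := (h.comm51 bS hb hp).symm
  have := h.eq51 (b51_nc h n2 p' gν (pN.conj g) (hν.conj g) fun e => n (by
      rw [← k, ← (cj _ _).1 e, mul_inv_cancel_right]))
    (b51_nc h n2 a' b' (ha.isNg.conj g) (hb.isNg.conj g) fun e => ab ((cj _ _).1 e))
    (b51_nc h n2 b' a' (hb.isNg.conj g) (ha.isNg.conj g) fun e => ab ((cj _ _).1 e).symm)
    ((cj _ _).2 pa) ((cj _ _).2 pb) (fun e => h.ne51 ha hp (b51_inj e).symm)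
    fun e => h.ne51 hb hp (b51_inj e).symm
  exact ab (by rw [b51_inj this])

theorem b51_exc : ∃ x ∈ S, N1 ρ x ∧ Adj51 ρ x c := by
  obtain ⟨a, aS, -, -, ha, -⟩ := id n1
  obtain ⟨ν, νS, hν, h1, h2, h3⟩ := h.partner51 n1 aS ha
  obtain ⟨g, e, hg⟩ := h.ext ha.isNg
  have k := (Adj51.conj (a := a) ⟨ν, hν.isNg, rfl⟩ g).symm h.hy.inj
  rw [e] at k
  have s := hg _ (mul_mem (mul_mem νS aS) (inv_mem νS)) h2.symm
  exact ⟨_, s, (h.cases s (h1.isNg.conj g)).resolve_right fun l => b51_noadj h n1 n2 s h.mem l (Or.inr rfl)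
    (fun l => h3 (b51_inj (e.trans l.symm))) k, k⟩

theorem b51_ex {p : G} (pS : p ∈ S) (hp : N2 ρ p) : ∃ x ∈ S, N1 ρ x ∧ Adj51 ρ x p := by
  obtain ⟨x, xS, hx, k⟩ := b51_exc h n1 n2
  obtain ⟨g, e, hg⟩ := h.ext hp.isNg
  have hn : ∀ n : ℕ, g ^ n * x * (g ^ n)⁻¹ ∈ S := fun n => by
    induction n with
    | zero => simpa using xS
    | succ n ih =>
      rw [show g ^ (n + 1) * x * (g ^ (n + 1))⁻¹ = g * (g ^ n * x * (g ^ n)⁻¹) * g⁻¹ by group]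
      exact hg _ ih (b51_cc h n2 pS ih (Or.inl hp) (hx.isNg.conj _)).symm
  obtain ⟨n, (hn' : g ^ n = g⁻¹)⟩ := mem_powers_iff_mem_zpowers.2 (inv_mem (mem_zpowers g))
  have s := hn n
  have k' := k.conj g⁻¹
  rw [hn'] at s
  have e' : g⁻¹ * c * g⁻¹⁻¹ = p := by rw [← e]; group
  rw [e'] at k'
  exact ⟨_, s, (h.cases s (hx.isNg.conj _)).resolve_right fun l => b51_noadj h n1 n2 s pS l (Or.inl hp)
    (fun l => h.ne51 hx (Or.inr rfl) (b51_inj (l.trans e'.symm))) k', k'⟩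

/-- a marked element of the first component -/
structure B51M (ρ : G →* S5 F) (S : Sylow 2 G) (c x p : G) : Prop where
  xS : x ∈ S
  hx : N1 ρ x
  pS : p ∈ S
  hp : N2 ρ p ∨ p = c
  adj : Adj51 ρ x p

theorem b51_nconj {x p y q : G} (m : B51M ρ S c x p) (m' : B51M ρ S c y q) (n : p ≠ q) (u : G)
    (e : u * x * u⁻¹ = y) (f : u * p = p * u) : False := by
  have k := m.adj.conj u
  rw [e, f, mul_inv_cancel_right] at k
  exact b51_noadj h n1 n2 m.pS m'.pS m.hp m'.hp n (k.trans h.two h.hy.inj m'.adj m'.hx.isNg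
    (h.comm51 m'.xS m'.hx m.hp) (h.comm51 m'.xS m'.hx m'.hp) (b51_cc h n2 m.pS m'.pS m.hp
      (m'.hp.elim (·.isNg) fun e => isNg_sg (e ▸ h.eq))) (h.ne51 m'.hx m.hp) (h.ne51 m'.hx m'.hp) n)

theorem b51_ncomm {x p y q : G} (m : B51M ρ S c x p) (m' : B51M ρ S c y q) (n : p ≠ q) : x * y ≠ y * x := fun e => by
  by_cases k : x = y
  · exact b51_nconj h n1 n2 m m' n 1 (by rw [k]; group) (by group)
  · obtain ⟨ν, νS, hν, f⟩ := h.swap51 n1 m.xS m.hx m'.hx e k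
    exact b51_nconj h n1 n2 m m' n ν f (h.comm51 νS hν m.hp)

theorem b51_diag {x p y q w r : G} (m : B51M ρ S c x p) (m' : B51M ρ S c y q) (m'' : B51M ρ S c w r) (pq : p ≠ q)
    (pr : p ≠ r) (qr : q ≠ r) (hx : mt ρ x = sg F 0 ∨ mt ρ x = sg F 1) : False := by
  have inj := h.hy.inj
  obtain ⟨ν, hν, k⟩ := m.adj
  have sc : ∀ {a b : G} {i j}, mt ρ a = sg F i → mt ρ b = sg F j → a * b = b * a := fun e f =>
    mt_inj inj (by rw [mt_mul, mt_mul, e, f, sg, sg, diagonal_mul_diagonal, diagonal_mul_diagonal]; simp only [mul_comm])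
  have br : ∀ {y q}, B51M ρ S c y q → p ≠ q → y * ν * y = ν * y * ν := fun {y q} m' pq => by
    have nc := b51_ncomm h n1 n2 m m' pq
    obtain ⟨i, hi⟩ : ∃ i, mt ρ x = sg F i := hx.elim (⟨_, ·⟩) (⟨_, ·⟩)
    obtain ⟨μ, -, e⟩ := (m'.hx.resolve_left fun e => nc (sc hi e)).resolve_left fun e => nc (sc hi e)
    have n' : N1 ρ (y * x * y⁻¹) := hx.elim (fun e' => Or.inr (Or.inl (mon_conj_sg e e')))
      fun e' => Or.inl (mon_conj_sg e e')
    exact m.hx.isNg.braid51 h.two inj m'.hx.isNg hν rfl k (sc hi (mon_conj_sg e hi)) (h.comm51 m.xS m.hx m.hp)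
      (h.comm51 (mul_mem (mul_mem m'.xS m.xS) (inv_mem m'.xS)) n' m.hp) (fun e => nc (eq_mul_inv_iff_mul_eq.1 e))
      (h.ne51 m.hx m.hp) (h.ne51 n' m.hp)
  have b1 := br m' pq
  have b2 := br m'' pr
  have qN : IsNg ρ q := m'.hp.elim (·.isNg) fun e => isNg_sg (e ▸ h.eq)
  have c1 := m.hx.isNg.cent51 h.two inj qN hν k (h.comm51 m.xS m.hx m.hp) (h.comm51 m.xS m.hx m'.hp)
    (b51_cc h n2 m.pS m'.pS m.hp qN) (h.ne51 m.hx m.hp) (h.ne51 m.hx m'.hp) pq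
  have c2 := h.comm51 m'.xS m'.hx m'.hp
  have c3 := h.comm51 m''.xS m''.hx m'.hp
  refine b51_nconj h n1 n2 m' m'' qr (ν⁻¹ * w⁻¹ * (y * ν)) ?_
    ((((Commute.inv_left c1).mul_left (Commute.inv_left c3)).mul_left (Commute.mul_left c2 c1)).eq)
  calc _ = ν⁻¹ * w⁻¹ * (y * ν * y) * ν⁻¹ * y⁻¹ * w * ν := by group
    _ = ν⁻¹ * w⁻¹ * (ν * w * ν) := by rw [b1]; group
    _ = w := by rw [← b2]; group

theorem b51_beta {x p y q : G} {μ : F} (m : B51M ρ S c x p) (m' : B51M ρ S c y q) (pq : p ≠ q)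
    (hx : mt ρ x = be μ) {t : G} (ht : t ∈ b51T ρ) (e : y * x = t * t) : False := by
  refine b51_nconj h n1 n2 m m' pq t ?_ (b51T_comm h.hy.inj (m.hp.imp_right fun e => by rw [e, h.eq]) ht)
  rw [mul_assoc, ← b51T_inv h.hy.inj hx ht, ← mul_assoc, ← e, mul_assoc, m.hx.isNg.sq51 h.hy.inj, mul_one]

end

theorem BS.not_one (h : BS ρ S c) (n1 : NC S (N1 ρ)) (h2 : Two S (N2 ρ)) : NC S (N2 ρ) := by
  by_contra n2
  obtain ⟨p, pS, q, qS, hp, hq, pq⟩ := h2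
  obtain ⟨x, xS, hx, ax⟩ := b51_ex h n1 n2 pS hp
  obtain ⟨y, yS, hy, ay⟩ := b51_ex h n1 n2 qS hq
  obtain ⟨w, wS, hw, aw⟩ := b51_exc h n1 n2
  have m : B51M ρ S c x p := ⟨xS, hx, pS, Or.inl hp, ax⟩
  have m' : B51M ρ S c y q := ⟨yS, hy, qS, Or.inl hq, ay⟩
  have m'' : B51M ρ S c w c := ⟨wS, hw, h.mem, Or.inr rfl, aw⟩
  have pc : p ≠ c := fun e => hp.ne_sg h.two (e ▸ h.eq)
  have qc : q ≠ c := fun e => hq.ne_sg h.two (e ▸ h.eq)
  obtain ⟨a, ha, ea⟩ := (or_assoc.2 hx).resolve_left (b51_diag h n1 n2 m m' m'' pq pc qc)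
  obtain ⟨b, hb, eb⟩ := (or_assoc.2 hy).resolve_left (b51_diag h n1 n2 m' m m'' pq.symm qc pc)
  obtain ⟨d, hd, ed⟩ := (or_assoc.2 hw).resolve_left (b51_diag h n1 n2 m'' m m' pc.symm qc.symm pq)
  obtain ⟨t, ht⟩ := (b51T_cyc h.hy.inj).exists_generator
  obtain ⟨i, hi⟩ := mem_zpowers_iff.1 (ht ⟨_, b51T_be hd hb ed eb⟩)
  obtain ⟨j, hj⟩ := mem_zpowers_iff.1 (ht ⟨_, b51T_be hb ha eb ea⟩)
  have hi' : (t : G) ^ i = w * y := congrArg Subtype.val hi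
  have hj' : (t : G) ^ j = y * x := congrArg Subtype.val hj
  obtain ⟨k, rfl⟩ | ⟨k, rfl⟩ := Int.even_or_odd i
  · exact b51_beta h n1 n2 m' m'' qc eb (zpow_mem t.2 k) (by rw [← hi', _root_.zpow_add])
  obtain ⟨l, rfl⟩ | ⟨l, rfl⟩ := Int.even_or_odd j
  · exact b51_beta h n1 n2 m m' pq ea (zpow_mem t.2 l) (by rw [← hj', _root_.zpow_add])
  refine b51_beta h n1 n2 m m'' pc ea (zpow_mem t.2 (k + l + 1)) ?_
  calc w * x = w * (y * y) * x := by rw [hy.isNg.sq51 h.hy.inj, mul_one]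
    _ = w * y * (y * x) := by group
    _ = _ := by rw [← hi', ← hj']; group

theorem BS.not_one' (h : BS ρ S c) (n2 : NC S (N2 ρ)) (h1 : Two S (N1 ρ)) : NC S (N1 ρ) := by
  obtain ⟨B, hB, f1, f2, -⟩ := h.flip51
  have e1 : N1 (cb ρ B) = N2 ρ := funext fun d => propext (f1 d)
  have e2 : N2 (cb ρ B) = N1 ρ := funext fun d => propext (f2 d)
  exact e2 ▸ hB.not_one (e1 ▸ n2) (e2 ▸ h1)

theorem BS.allW (h : BS ρ S c) (n1 : NC S (N1 ρ)) (n2 : NC S (N2 ρ)) : AllW ρ := by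
  intro d hd
  have inj := h.hy.inj
  have key : ∀ i, ∃ σ : Equiv.Perm (Fin 5), σ 4 = i ∧ Adj51 ρ (d (σ 0)) (d (σ 1)) ∧
      Adj51 ρ (d (σ 2)) (d (σ 3)) := fun i => by
    obtain ⟨g0, h0⟩ := hd.into51 inj S
    obtain ⟨g1, e1, h1⟩ := h.ext ((hd.conj51 g0).ng i)
    have hd' := (hd.conj51 g0).conj51 g1
    have hs : ∀ j, g1 * (g0 * d j * g0⁻¹) * g1⁻¹ ∈ S := fun j => h1 _ (h0 j) ((hd.conj51 g0).comm j i)
    obtain ⟨σ, a0, a1, a2, a3, a4⟩ := h.fr hd' hs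
    have back : ∀ j k, Adj51 ρ (g1 * (g0 * d j * g0⁻¹) * g1⁻¹) (g1 * (g0 * d k * g0⁻¹) * g1⁻¹) →
        Adj51 ρ (d j) (d k) := fun j k e => by simpa [mul_assoc] using (e.conj g1⁻¹).conj g0⁻¹
    refine ⟨σ, hd'.inj (a4.trans e1.symm), back _ _ ?_, back _ _ ?_⟩
    · obtain ⟨ν, -, b, e⟩ := h.swap51 n1 (hs _) a0 a1 (hd'.comm _ _) (hd'.inj.ne (σ.injective.ne (by decide)))
      exact ⟨ν, b.isNg, e⟩
    · obtain ⟨B, hB, f1, -⟩ := h.flip51
      have e1 : N1 (cb ρ B) = N2 ρ := funext fun d => propext (f1 d)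
      obtain ⟨ν, -, b, e⟩ := hB.swap51 (e1 ▸ n2) (hs _) (e1 ▸ a2) (e1 ▸ a3) (hd'.comm _ _)
        (hd'.inj.ne (σ.injective.ne (by decide)))
      exact ⟨ν, ((f1 _).1 b).isNg, e⟩
  intro i j hij
  refine Adj51.edge h.two inj hd hij ?_
  classical
  have tr : ∀ k l, Adj51 ρ (d k) (d l) → i = k ∨ Adj51 ρ (d i) (d k) → i = l ∨ Adj51 ρ (d i) (d l) :=
    fun k l a b => by
      by_cases e1 : i = l
      · exact Or.inl e1
      by_cases e2 : i = k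
      · exact Or.inr (e2 ▸ a)
      by_cases e3 : k = l
      · exact e3 ▸ b
      exact Or.inr (((b.resolve_left e2).symm inj).trans h.two inj a (hd.ng k) (hd.comm _ _) (hd.comm _ _)
        (hd.comm _ _) (hd.inj.ne (Ne.symm e2)) (hd.inj.ne e3) (hd.inj.ne e1))
  let f : Fin 5 → ZMod 2 := fun k => if i = k ∨ Adj51 ρ (d i) (d k) then 1 else 0
  have hf : ∀ k, ∑ l, f l = f k := fun k => by
    obtain ⟨σ, e, a, b⟩ := key k
    have fa : f (σ 0) = f (σ 1) := if_congr ⟨tr _ _ a, tr _ _ (a.symm inj)⟩ rfl rfl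
    have fb : f (σ 2) = f (σ 3) := if_congr ⟨tr _ _ b, tr _ _ (b.symm inj)⟩ rfl rfl
    rw [← Equiv.sum_comp σ f, Fin.sum_univ_five, fa, fb, e, CharTwo.add_self_eq_zero, zero_add,
      CharTwo.add_self_eq_zero, zero_add]
  have := (hf i).symm.trans (hf j)
  by_contra k
  simp [f, hij, k] at this

end CfsgLib.D5
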