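import Cfsg.Agent.Lib.D5.BH

/-!
B51h: calculus of commuting negative reflections (used by B51, B53).  See `plans/D5.md`.
-/

set_option autoImplicit false
set_option linter.unusedSectionVars false

namespace CfsgLib.D5

open Matrix Cfsg Cfsg.Geo CfsgLib.Asch Subgroup
open scoped MatrixGroups Pointwise

variable {G F : Type*} [Group G] [Field F] {ρ : G →* S5 F}

theorem b51_mv (v φ x : V5 F) : vecMulVec v φ *ᵥ x = (φ ⬝ᵥ x) • v := by
  rw [vecMulVec_mulVec, op_smul_eq_smul]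

theorem IsNg.sq51 (h : Function.Injective ρ) {d : G} (hd : IsNg ρ d) : d * d = 1 :=
  let ⟨_, _, k⟩ := hd; k.mul_self h

theorem IsNg.inv51 (h : Function.Injective ρ) {d : G} (hd : IsNg ρ d) : d⁻¹ = d :=
  inv_eq_of_mul_eq_one_right (hd.sq51 h)

/-- distinct commuting negative reflections are orthogonal -/
theorem Ng.orth51 (h2 : (2 : F) ≠ 0) (h : Function.Injective ρ) {a b : G} {v φ w ψ : V5 F}
    (ha : Ng ρ a v φ) (hb : Ng ρ b w ψ) (hc : a * b = b * a) (hne : a ≠ b) : φ ⬝ᵥ w = 0 := by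
  by_contra s
  have e0 := congrArg (mt ρ) hc
  rw [mt_mul, mt_mul, ha.eq, hb.eq] at e0
  have e : vecMulVec v φ * vecMulVec w ψ = vecMulVec w ψ * vecMulVec v φ := by
    linear_combination (norm := noncomm_ring) e0
  rw [vecMulVec_mul_vecMulVec, vecMulVec_mul_vecMulVec, vecMulVec_smul, vecMulVec_smul] at e
  have e1 := congrArg (φ ᵥ* ·) e
  have e2 := congrArg (· *ᵥ w) e
  simp only [vecMul_smul, smul_mulVec, vecMul_vecMulVec, b51_mv, ha.dot, hb.dot] at e1 e2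
  refine hne (mt_inj h ?_)
  rw [ha.eq, hb.eq]
  congr 1
  ext i j
  have a1 := congrFun e1 j
  have a2 := congrFun e2 i
  simp only [Pi.smul_apply, smul_eq_mul] at a1 a2
  refine mul_left_cancel₀ (mul_ne_zero h2 s) ?_
  simp only [vecMulVec_apply]
  linear_combination φ j * a2 - w i * a1

theorem Ng.comm51 (h : Function.Injective ρ) {a b : G} {v φ w ψ : V5 F}
    (ha : Ng ρ a v φ) (hb : Ng ρ b w ψ) (h1 : φ ⬝ᵥ w = 0) (h2 : ψ ⬝ᵥ v = 0) : a * b = b * a := by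
  refine mt_inj h ?_
  have e1 : vecMulVec v φ * vecMulVec w ψ = 0 := by rw [vecMulVec_mul_vecMulVec, h1]; simp
  have e2 : vecMulVec w ψ * vecMulVec v φ = 0 := by rw [vecMulVec_mul_vecMulVec, h2]; simp
  rw [mt_mul, mt_mul, ha.eq, hb.eq]
  linear_combination (norm := noncomm_ring) e1 - e2

/-- the shape of a negative reflection interchanging two orthogonal ones -/
theorem Ng.swap51 (h2 : (2 : F) ≠ 0) (h : Function.Injective ρ) {a b ν : G} {v φ v' φ' w ψ : V5 F}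
    (ha : Ng ρ a v φ) (hb : Ng ρ b v' φ') (hν : Ng ρ ν w ψ) (e : ν * a * ν⁻¹ = b)
    (o1 : φ ⬝ᵥ v' = 0) :
    (ψ ⬝ᵥ v) * (φ ⬝ᵥ w) = 2 ∧ ∃ α β γ δ : F, w = α • v + β • v' ∧ ψ = γ • φ + δ • φ' := by
  have e0 := (ha.conj ν).eq
  rw [e, hb.eq, sub_left_inj, IsNg.inv51 h ⟨_, _, hν⟩, hν.eq, sub_mulVec, vecMul_sub, b51_mv, vecMul_vecMulVec,
    one_mulVec, vecMul_one] at e0
  have e1 := congrArg (· *ᵥ v') e0
  have e2 := congrArg (φ' ᵥ* ·) e0
  simp only [b51_mv, vecMul_vecMulVec, hb.dot] at e1 e2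
  have n1 : ((φ ⬝ᵥ w) • ψ - φ) ⬝ᵥ v' ≠ 0 := fun k => by
    have := congrArg (φ' ⬝ᵥ ·) e1
    simp only [k, zero_smul, dotProduct_smul, hb.dot, dotProduct_zero, smul_eq_mul] at this
    exact mul_ne_zero h2 h2 this
  have n2 : φ' ⬝ᵥ ((ψ ⬝ᵥ v) • w - v) ≠ 0 := fun k => by
    have := congrArg (· ⬝ᵥ v') e2
    simp only [k, zero_smul, smul_dotProduct, hb.dot, zero_dotProduct, smul_eq_mul] at this
    exact mul_ne_zero h2 h2 this
  have k : (ψ ⬝ᵥ v) * (φ ⬝ᵥ w) = 2 := by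
    have := congrArg (φ ⬝ᵥ ·) e1
    simp only [dotProduct_smul, o1, dotProduct_sub, ha.dot, smul_eq_mul, mul_zero] at this
    exact sub_eq_zero.1 ((mul_eq_zero.1 this.symm).resolve_left n1)
  have m1 : ψ ⬝ᵥ v ≠ 0 := fun e => h2 (by rw [← k, e, zero_mul])
  have m2 : φ ⬝ᵥ w ≠ 0 := fun e => h2 (by rw [← k, e, mul_zero])
  refine ⟨k, (ψ ⬝ᵥ v)⁻¹, 2 / ((ψ ⬝ᵥ v) * (((φ ⬝ᵥ w) • ψ - φ) ⬝ᵥ v')), (φ ⬝ᵥ w)⁻¹,
    2 / ((φ ⬝ᵥ w) * (φ' ⬝ᵥ ((ψ ⬝ᵥ v) • w - v))), funext fun i => ?_, funext fun i => ?_⟩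
  · have := congrFun e1 i
    simp only [Pi.smul_apply, Pi.sub_apply, Pi.add_apply, smul_eq_mul] at this ⊢
    field_simp
    linear_combination -this
  · have := congrFun e2 i
    simp only [Pi.smul_apply, Pi.sub_apply, Pi.add_apply, smul_eq_mul] at this ⊢
    field_simp
    linear_combination -this

/-- a negative reflection interchanging `a` and `b` centralises the rest of a frame -/
theorem IsNg.cent51 (h2 : (2 : F) ≠ 0) (h : Function.Injective ρ) {a b e ν : G} (ha : IsNg ρ a) (he : IsNg ρ e)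
    (hν : IsNg ρ ν) (k : ν * a * ν⁻¹ = b) (ab : a * b = b * a) (ae : a * e = e * a) (be : b * e = e * b)
    (nab : a ≠ b) (nae : a ≠ e) (nbe : b ≠ e) : ν * e = e * ν := by
  obtain ⟨v', φ', hb⟩ : IsNg ρ b := k ▸ ha.conj ν
  obtain ⟨v, φ, ha⟩ := ha
  obtain ⟨u, θ, he⟩ := he
  obtain ⟨w, ψ, hν⟩ := hν
  obtain ⟨-, α, β, γ, δ, e1, e2⟩ := ha.swap51 h2 h hb hν k (ha.orth51 h2 h hb ab nab)
  refine hν.comm51 h he ?_ ?_
  · rw [e2, add_dotProduct, smul_dotProduct, smul_dotProduct, ha.orth51 h2 h he ae nae, hb.orth51 h2 h he be nbe]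
    simp
  · rw [e1, dotProduct_add, dotProduct_smul, dotProduct_smul, he.orth51 h2 h ha ae.symm nae.symm,
      he.orth51 h2 h hb be.symm nbe.symm]
    simp

/-- the braid relation -/
theorem IsNg.braid51 (h2 : (2 : F) ≠ 0) (h : Function.Injective ρ) {a b e ν ν' : G} (ha : IsNg ρ a)
    (hν : IsNg ρ ν) (hν' : IsNg ρ ν') (k : ν * a * ν⁻¹ = b) (k' : ν' * a * ν'⁻¹ = e) (ab : a * b = b * a)
    (ae : a * e = e * a) (be : b * e = e * b) (nab : a ≠ b) (nae : a ≠ e) (nbe : b ≠ e) :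
    ν * ν' * ν = ν' * ν * ν' := by
  obtain ⟨v', φ', hb⟩ : IsNg ρ b := k ▸ ha.conj ν
  obtain ⟨u, θ, he⟩ : IsNg ρ e := k' ▸ ha.conj ν'
  obtain ⟨v, φ, ha⟩ := ha
  obtain ⟨w, ψ, hν⟩ := hν
  obtain ⟨w', ψ', hν'⟩ := hν'
  have o1 := ha.orth51 h2 h hb ab nab
  have o2 := hb.orth51 h2 h ha ab.symm nab.symm
  have o3 := ha.orth51 h2 h he ae nae
  have o4 := he.orth51 h2 h ha ae.symm nae.symm
  have o5 := hb.orth51 h2 h he be nbe
  have o6 := he.orth51 h2 h hb be.symm nbe.symm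
  obtain ⟨k1, α, β, γ, δ, e1, e2⟩ := ha.swap51 h2 h hb hν k o1
  obtain ⟨k2, α', β', γ', δ', e1', e2'⟩ := ha.swap51 h2 h he hν' k' o3
  have key : (ψ ⬝ᵥ w') * (ψ' ⬝ᵥ w) = 1 := by
    rw [e1, e2] at k1
    rw [e1', e2'] at k2
    rw [e1, e2, e1', e2']
    simp only [add_dotProduct, dotProduct_add, smul_dotProduct, dotProduct_smul, o1, o2, o3, o4, o5, o6, ha.dot,
      smul_eq_mul] at k1 k2 ⊢
    refine mul_left_cancel₀ (mul_ne_zero h2 h2) ?_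
    linear_combination (γ' * 2 * α' * 2) * k1 + 2 * k2
  have r1 : vecMulVec w ψ * vecMulVec w ψ = 2 * vecMulVec w ψ := by
    rw [vecMulVec_mul_vecMulVec, hν.dot, vecMulVec_smul, two_smul, two_mul]
  have r2 : vecMulVec w' ψ' * vecMulVec w' ψ' = 2 * vecMulVec w' ψ' := by
    rw [vecMulVec_mul_vecMulVec, hν'.dot, vecMulVec_smul, two_smul, two_mul]
  have r3 : vecMulVec w ψ * vecMulVec w' ψ' * vecMulVec w ψ = vecMulVec w ψ := by
    rw [vecMulVec_mul_vecMulVec, vecMulVec_mul_vecMulVec, smul_dotProduct, smul_eq_mul, key, one_smul]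
  have r4 : vecMulVec w' ψ' * vecMulVec w ψ * vecMulVec w' ψ' = vecMulVec w' ψ' := by
    rw [vecMulVec_mul_vecMulVec, vecMulVec_mul_vecMulVec, smul_dotProduct, smul_eq_mul, mul_comm, key, one_smul]
  refine mt_inj h ?_
  rw [mt_mul, mt_mul, mt_mul, mt_mul, hν.eq, hν'.eq]
  linear_combination (norm := noncomm_ring) r3 - r4 - r1 + r2

/-- a negative reflection conjugates `a` to `b` -/
def Adj51 (ρ : G →* S5 F) (a b : G) : Prop := ∃ ν, IsNg ρ ν ∧ ν * a * ν⁻¹ = b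

theorem IsNg.back51 (h : Function.Injective ρ) {a b ν : G} (hν : IsNg ρ ν) (k : ν * a * ν⁻¹ = b) :
    ν * b * ν⁻¹ = a := by
  calc ν * b * ν⁻¹ = ν * ν * a * (ν * ν)⁻¹ := by rw [← k]; group
    _ = a := by rw [hν.sq51 h]; group

theorem Adj51.symm (h : Function.Injective ρ) {a b : G} (k : Adj51 ρ a b) : Adj51 ρ b a :=
  let ⟨ν, hν, e⟩ := k; ⟨ν, hν, hν.back51 h e⟩

theorem Adj51.conj {a b : G} (k : Adj51 ρ a b) (g : G) : Adj51 ρ (g * a * g⁻¹) (g * b * g⁻¹) :=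
  let ⟨ν, hν, e⟩ := k; ⟨_, hν.conj g, by rw [← e]; group⟩

theorem Adj51.trans (h2 : (2 : F) ≠ 0) (h : Function.Injective ρ) {a b e : G} (k : Adj51 ρ a b) (k' : Adj51 ρ a e)
    (ha : IsNg ρ a) (ab : a * b = b * a) (ae : a * e = e * a) (be : b * e = e * b) (nab : a ≠ b) (nae : a ≠ e)
    (nbe : b ≠ e) : Adj51 ρ b e := by
  obtain ⟨ν, hν, k⟩ := k
  have c := ha.cent51 h2 h (by obtain ⟨ν', -, e⟩ := k'; exact e ▸ ha.conj ν') hν k ab ae be nab nae nbe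
  have := k'.conj ν
  rwa [k, c, mul_inv_cancel_right] at this

theorem Adj51.edge (h2 : (2 : F) ≠ 0) (h : Function.Injective ρ) {d : Fin 5 → G} (hd : Fr ρ d) {i j : Fin 5}
    (hij : i ≠ j) (k : Adj51 ρ (d i) (d j)) : Edge ρ d i j := by
  obtain ⟨ν, hν, k⟩ := k
  refine ⟨ν, hν, fun l => ?_⟩
  by_cases h1 : l = i
  · rw [h1, Equiv.swap_apply_left, k]
  by_cases h3 : l = j
  · rw [h3, Equiv.swap_apply_right, hν.back51 h k]
  rw [Equiv.swap_apply_of_ne_of_ne h1 h3, (hd.ng i).cent51 h2 h (hd.ng l) hν k (hd.comm _ _) (hd.comm _ _) (hd.comm _ _)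
    (hd.inj.ne hij) (hd.inj.ne (Ne.symm h1)) (hd.inj.ne (Ne.symm h3)), mul_inv_cancel_right]

theorem Fr.conj51 {d : Fin 5 → G} (hd : Fr ρ d) (g : G) : Fr ρ fun i => g * d i * g⁻¹ :=
  ⟨fun i => (hd.ng i).conj g, fun i j => by rw [conj_mul, conj_mul, hd.comm],
    fun _ _ e => hd.inj (mul_left_cancel (mul_right_cancel e))⟩

variable [Finite G] {S : Sylow 2 G} {c : G}

/-- 2-subgroups are conjugate into `S` -/
theorem b51_conj (S : Sylow 2 G) {Q : Subgroup G} (hQ : IsPGroup 2 Q) : ∃ g : G, ∀ x ∈ Q, g * x * g⁻¹ ∈ S := by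
  obtain ⟨R, hR⟩ := hQ.exists_le_sylow
  obtain ⟨g, rfl⟩ := MulAction.exists_smul_eq G R S
  exact ⟨g, fun x hx => Subgroup.smul_mem_pointwise_smul x (MulAut.conj g) (R : Subgroup G) (hR hx)⟩

/-- an involution together with `S ∩ S^ν` -/
theorem b51_two (S : Sylow 2 G) {ν : G} (hν : ν * ν = 1) :
    ∃ g : G, g * ν * g⁻¹ ∈ S ∧ ∀ x ∈ S, ν * x * ν⁻¹ ∈ S → g * x * g⁻¹ ∈ S := by
  have h1 : ∀ x, ν * (ν * x * ν⁻¹) * ν⁻¹ = x := fun x =>
    calc _ = ν * ν * x * (ν * ν)⁻¹ := by group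
      _ = x := by rw [hν]; group
  have h2 : IsPGroup 2 (zpowers ν) := IsPGroup.of_card_dvd_pow (n := 1) (by
    rw [Nat.card_zpowers]; exact orderOf_dvd_of_pow_eq_one (by rw [pow_one, pow_two, hν]))
  obtain ⟨g, hg⟩ := b51_conj S ((S.isPGroup'.to_le (inf_le_left : (S : Subgroup G) ⊓
    (S : Subgroup G).comap (MulAut.conj ν).toMonoidHom ≤ S)).to_sup_of_normal_left' h2 (zpowers_le.2
      (mem_normalizer_iff.2 fun x => ⟨fun k => ⟨k.2, show ν * (ν * x * ν⁻¹) * ν⁻¹ ∈ _ from (h1 x).symm ▸ k.1⟩,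
        fun k => ⟨h1 x ▸ (show ν * (ν * x * ν⁻¹) * ν⁻¹ ∈ _ from k.2), k.1⟩⟩)))
  exact ⟨g, hg _ (mem_sup_right (mem_zpowers ν)), fun x hx k => hg _ (mem_sup_left ⟨hx, k⟩)⟩

/-- frames are conjugate into `S` -/
theorem Fr.into51 (h : Function.Injective ρ) (S : Sylow 2 G) {d : Fin 5 → G} (hd : Fr ρ d) :
    ∃ g : G, ∀ i, g * d i * g⁻¹ ∈ S := by
  have hc := isMulCommutative_closure (k := Set.range d) (by rintro _ ⟨i, rfl⟩ _ ⟨j, rfl⟩; exact hd.comm i j)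
  have h2 : ∀ x ∈ closure (Set.range d), x * x = 1 := fun x hx => by
    induction hx using closure_induction with
    | mem x hx => obtain ⟨i, rfl⟩ := hx; exact (hd.ng i).sq51 h
    | one => exact mul_one 1
    | mul x y hx hy a b => rw [mul_assoc, ← mul_assoc y, setLike_mul_comm hy hx, mul_assoc, b, mul_one, a]
    | inv x _ a => rw [← _root_.mul_inv_rev, a, inv_one]
  obtain ⟨g, hg⟩ := b51_conj S (Q := closure (Set.range d)) fun x =>
    ⟨1, Subtype.ext (by rw [pow_one, pow_two]; exact h2 x x.2)⟩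
  exact ⟨g, fun i => hg _ (subset_closure ⟨i, rfl⟩)⟩

theorem BS.flip51 (h : BS ρ S c) : ∃ B, BS (cb ρ B) S c ∧ (∀ d, N1 (cb ρ B) d ↔ N2 ρ d) ∧
    (∀ d, N2 (cb ρ B) d ↔ N1 ρ d) ∧
    ∀ g (t : V5 F), mt ρ g = diagonal t → mt (cb ρ B) g = diagonal ![t 2, t 3, t 0, t 1, t 4] := by
  obtain ⟨B, hB⟩ := exists_flip (G := G) (F := F)
  obtain ⟨a1, a2, a3, a4, a5⟩ := hB ρ
  exact ⟨B, ⟨h.hy.cb B, h.two, a4 _ h.mono, h.mem, (a3 c).2 h.eq, fun d hd => h.cls d ((isNg_cb B).1 hd)⟩, a1, a2, a5⟩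

/-- three commuting elements of the first component -/
theorem BS.eq51 (h : BS ρ S c) {x y w : G} (hx : N1 ρ x) (hy : N1 ρ y) (hw : N1 ρ w) (xy : x * y = y * x)
    (xw : x * w = w * x) (nxy : x ≠ y) (nxw : x ≠ w) : y = w := by
  have key : ∀ y, N1 ρ y → x * y = y * x → x ≠ y → mt ρ (x * y) = diagonal ![-1, -1, 1, 1, 1] := fun y hy e n =>
    (hx.eq_of_comm h.two hy e).resolve_left fun k => n (by
      rw [← hx.isNg.inv51 h.hy.inj]; exact inv_eq_of_mul_eq_one_right (mt_inj h.hy.inj (k.trans mt_one.symm)))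
  exact mul_left_cancel (mt_inj h.hy.inj ((key y hy xy nxy).trans (key w hw xw nxw).symm))

/-- the partner of an element of a non-commutative first component -/
theorem BS.partner51 (h : BS ρ S c) (n1 : NC S (N1 ρ)) {x : G} (hs : x ∈ S) (hx : N1 ρ x) :
    ∃ ν ∈ S, N1 ρ ν ∧ N1 ρ (ν * x * ν⁻¹) ∧ x * (ν * x * ν⁻¹) = ν * x * ν⁻¹ * x ∧ x ≠ ν * x * ν⁻¹ := by
  obtain ⟨ν, νS, hν, e⟩ := h.exists_swap n1 hs hx
  obtain ⟨k1, k2⟩ := hx.mul_z e
  have xx := hx.isNg.sq51 h.hy.inj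
  have k3 := mt_inj h.hy.inj k2
  rw [mul_assoc (ν * x * ν⁻¹), xx, mul_one] at k3
  refine ⟨ν, νS, hν, k3 ▸ k1, ?_, fun k => ?_⟩
  · calc _ = x * (ν * x * ν⁻¹ * x) * x := by rw [mul_assoc x, mul_assoc _ x x, xx, mul_one]
      _ = _ := by rw [k3]
  · rw [← k, xx, mt_one] at e
    have := congrFun (congrFun e 0) 0
    simp only [one_apply_eq, diagonal_apply_eq, cons_val_zero] at this
    exact h.two (by linear_combination this)

theorem BS.swap51 (h : BS ρ S c) (n1 : NC S (N1 ρ)) {x y : G} (hs : x ∈ S) (hx : N1 ρ x) (hy : N1 ρ y)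
    (xy : x * y = y * x) (n : x ≠ y) : ∃ ν ∈ S, N1 ρ ν ∧ ν * x * ν⁻¹ = y :=
  let ⟨ν, a, b, d, e, f⟩ := h.partner51 n1 hs hx
  ⟨ν, a, b, h.eq51 hx d hy e xy f n⟩

end CfsgLib.D5
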