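import Cfsg.Agent.Lib.D5.B51h

/-!
B53: normal forms for two non-commutative components.  See `plans/D5.md`.
-/

set_option autoImplicit false
set_option linter.unusedSectionVars false

namespace CfsgLib.D5

open Matrix Cfsg Cfsg.Geo CfsgLib.Asch Subgroup
open scoped MatrixGroups

variable {G F : Type*} [Group G] [Field F] {ρ : G →* S5 F}

theorem b53_sg_inj (h2 : (2 : F) ≠ 0) {i j : Fin 5} (e : sg F i = sg F j) : i = j := by
  by_contra k
  have := congrFun (congrFun e i) i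
  simp only [sg, diagonal_apply_eq, if_true, if_neg k] at this
  exact h2 (by linear_combination this)

theorem b53_comm (h : Function.Injective ρ) {d e : G} {s t : V5 F} (hd : mt ρ d = diagonal s)
    (he : mt ρ e = diagonal t) : d * e = e * d :=
  mt_inj h (by rw [mt_mul, mt_mul, hd, he, diagonal_mul_diagonal, diagonal_mul_diagonal]; simp only [mul_comm])

theorem b53_fr (h2 : (2 : F) ≠ 0) (h : Function.Injective ρ) {d : Fin 5 → G} (hd : ∀ i, mt ρ (d i) = sg F i) :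
    Fr ρ d :=
  ⟨fun i => isNg_sg (hd i), fun i j => b53_comm h (hd i) (hd j), fun i j e => b53_sg_inj h2 (by rw [← hd, e, hd])⟩

theorem b53_norm : ∀ τ : Equiv.Perm (Fin 5), P8 (τ * Equiv.swap 0 1 * τ⁻¹) →
    P8 (τ * (Equiv.swap 0 2 * Equiv.swap 1 3) * τ⁻¹) → P8 τ ∧ P8 τ⁻¹ := by decide +kernel

theorem b53_p8 : ∀ π : Equiv.Perm (Fin 5), P8 π → ∃ a ∈ [1, Equiv.swap 0 1], ∃ b ∈ [1, Equiv.swap 2 3],
    ∃ t ∈ [1, Equiv.swap 0 2 * Equiv.swap 1 3], π = a * b * t := by decide +kernel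

theorem b53_pl : ∀ π : Equiv.Perm (Fin 5), P8 π →
    (∀ j, π.symm j < 2 ↔ j < 2) ∨ ∀ j, π.symm j < 2 ↔ j = 2 ∨ j = 3 := by decide +kernel

variable [Finite G] {S : Sylow 2 G} {c : G}

theorem b53_two {s : G} (hs : s ∈ S) : ∃ n, s ^ 2 ^ n = 1 :=
  (S.isPGroup' ⟨s, hs⟩).imp fun _ e => congrArg Subtype.val e

/-- a Weyl basis adapted to `S` -/
theorem b53_weyl (h2 : (2 : F) ≠ 0) (h : Function.Injective ρ) (hw : AllW ρ) (S : Sylow 2 G) {d : Fin 5 → G}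
    (hd : Fr ρ d) : ∃ (B : GL (Fin 5) F) (e : Fin 5 → G), (∀ i, e i ∈ S) ∧ (∀ i, mt (cb ρ B) (e i) = sg F i) ∧
      (∀ π, ∃ g, mt (cb ρ B) g = pm F π ∧ (P8 π → g ∈ S)) ∧
      (∀ g t (n : ℕ), mt (cb ρ B) g = diagonal t → g ^ 2 ^ n = 1 → g ∈ S) ∧
      ∀ g (n : ℕ), (∀ i, g * d i = d i * g) → g ^ 2 ^ n = 1 → g * g ≠ 1 →
        ∃ g' ∈ S, ∃ t, mt (cb ρ B) g' = diagonal t ∧ g' * g' ≠ 1 := by
  obtain ⟨ν, hν, h1⟩ := hw d hd 0 1 (by decide)
  obtain ⟨ν', hν', h3⟩ := hw d hd 2 3 (by decide)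
  obtain ⟨B, a1, a2, -⟩ := weyl_of_edges h2 h hd (hw d hd) hν hν' h1 h3
  obtain ⟨C, ⟨b1, b2⟩, b3, b4, b5⟩ := exists_weyl_le (cb_injective h B) ⟨fun i => ⟨_, a1 i⟩, a2⟩ S
  rw [cb_cb] at b1 b2 b3 b4 b5
  choose e he using b1
  refine ⟨B * C, e, fun i => b5 _ _ 1 (he i) (by rw [pow_one, pow_two, (isNg_sg (he i)).sq51 (cb_injective h _)]),
    he, fun π => (b2 π).imp fun g k => ⟨k, fun p => b4 g π p k⟩, b5, fun g n k gn g2 => ?_⟩
  obtain ⟨t, ht⟩ := mon_of_perm h2 a1 (g := g) (π := 1) fun i => by rw [k, mul_inv_cancel_right]; rfl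
  rw [mon_one] at ht
  obtain ⟨g', hg'⟩ := b3 g t ht
  have key : ∀ m : ℕ, g' ^ m = 1 ↔ g ^ m = 1 := fun m =>
    ⟨fun q => mt_inj (cb_injective h B) (by rw [mt_pow, ht, ← hg', ← mt_pow, q, mt_one, mt_one]),
      fun q => mt_inj (cb_injective h _) (by rw [mt_pow, hg', ← ht, ← mt_pow, q, mt_one, mt_one])⟩
  exact ⟨g', b5 _ _ n hg' ((key _).2 gn), t, hg', fun q => g2 (by rw [← pow_two, ← key, pow_two, q])⟩

variable [IsAlgClosed F]

theorem BS.tw (h : BS ρ S c) (hw : AllW ρ) (ht : ¬ Thin ρ) : ∃ B, TW (cb ρ B) S := by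
  classical
  simp only [Thin, not_forall] at ht
  obtain ⟨d, hd, g, n, gn, gd, g2⟩ := ht
  obtain ⟨B, e, eS, he, hp, hD, hg⟩ := b53_weyl h.two h.hy.inj hw S hd
  obtain ⟨g, gS, t, gt, g2⟩ := hg g n gd gn g2
  have inj := cb_injective h.hy.inj B
  have pw : ∀ {s u} (m : ℕ), mt (cb ρ B) s = diagonal u → (s ^ m = 1 ↔ ∀ i, u i ^ m = 1) := fun {s u} m k =>
    ⟨fun q i => by
      have := congrFun (congrFun (congrArg (mt (cb ρ B)) q) i) i
      rwa [mt_pow, k, diagonal_pow, diagonal_apply_eq, mt_one, one_apply_eq] at this,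
    fun q => mt_inj inj (by rw [mt_pow, k, diagonal_pow, mt_one, ← diagonal_one]; congr 1; exact funext q)⟩
  have ex : ∃ N : ℕ, ∀ u, Tor (cb ρ B) S u → ∀ i, u i ^ 2 ^ N = 1 := by
    obtain ⟨N, hN⟩ := IsPGroup.iff_card.1 S.isPGroup'
    exact ⟨N, fun u ⟨s, hs, k⟩ => (pw _ k).1 (hN ▸ congrArg Subtype.val (pow_card_eq_one' (x := (⟨s, hs⟩ : S))))⟩
  have N2 : 2 ≤ Nat.find ex := (Nat.le_find_iff ex 2).2 fun m hm k => g2 (by
    have := (pw _ gt).2 (k t ⟨g, gS, gt⟩)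
    interval_cases m
    · rw [show g = 1 by simpa using this, mul_one]
    · rwa [pow_one, pow_two] at this)
  obtain ⟨m, hm⟩ := Nat.exists_eq_add_of_le' N2
  have up := Nat.find_spec ex
  have lo := Nat.find_min ex (m := m + 1) (by omega)
  rw [hm] at up
  push Not at lo
  obtain ⟨v, ⟨s, sS, hs⟩, hv⟩ := lo
  obtain ⟨w, hw5, -⟩ := hp (finRotate 5)
  have full : ∀ u, Tor (cb ρ B) S u ↔ (∀ i, u i ^ 2 ^ (m + 2) = 1) ∧ ∏ i, u i = 1 := fun u =>
    ⟨fun k => ⟨up u k, let ⟨_, _, q⟩ := k; BH.prod_diag q⟩, fun ⟨k, q⟩ =>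
      let ⟨g', hg'⟩ := tor_full hw5 (haveI : Fact (Nat.Prime 5) := ⟨by norm_num⟩
        orderOf_eq_prime (by decide) (by decide)) (m + 1) hs (up v ⟨s, sS, hs⟩) hv u k q
      ⟨g', hD _ _ _ hg' ((pw _ hg').2 k), hg'⟩⟩
  obtain ⟨i, hi⟩ := IsAlgClosed.exists_eq_mul_self (-1 : F)
  have dg : ∀ j, ∃ k, mt ρ (e j) = sg F k := fun j => by
    obtain ⟨r, rS, hr⟩ := (full fun k => if k = j then 1 else i).2 ⟨fun k => by
      split_ifs
      · exact one_pow _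
      · rw [pow_succ', pow_succ', pow_mul, pow_mul, pow_two i, ← hi, neg_one_sq, one_pow], by
      fin_cases j <;> simp [Fin.prod_univ_five] <;> linear_combination (1 - i * i) * hi⟩
    have e1 : e j = r * r := mt_inj inj (by
      rw [he, mt_mul, hr, diagonal_mul_diagonal, sg]; congr 1; funext k; split_ifs <;> simp [hi])
    obtain ⟨π, a, -, ha⟩ := h.mono r rS
    have e2 : ∀ k l b, k ≠ l → mt ρ (e j) ≠ mon (Equiv.swap k l) b := fun k l b kl q => by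
      have := congrArg Equiv.Perm.sign (mon_inj (ne_zero_of_mon q) (q.symm.trans (by rw [e1, mt_mul, ha, mon_mul]))).1
      simp [kl] at this
    rcases h.cases (eS j) ((isNg_cb B).1 (isNg_sg (he j))) with (q | q | ⟨_, -, q⟩) | (q | q | ⟨_, -, q⟩) | q
    exacts [⟨_, q⟩, ⟨_, q⟩, (e2 _ _ _ (by decide) q).elim, ⟨_, q⟩, ⟨_, q⟩, (e2 _ _ _ (by decide) q).elim,
      ⟨4, q ▸ h.eq⟩]
  choose f hf using dg
  have ei := (b53_fr h.two inj he).inj
  let τ : Equiv.Perm (Fin 5) := Equiv.ofBijective f (Finite.injective_iff_bijective.1 fun j k q =>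
    ei (mt_inj h.hy.inj (by rw [hf, hf, q])))
  have act : ∀ s ∈ S, ∃ π, P8 π ∧ ∀ j, s * e j * s⁻¹ = e ((τ⁻¹ * π * τ) j) := fun s hs => by
    obtain ⟨π, a, p, ha⟩ := h.mono s hs
    exact ⟨π, p, fun j => mt_inj h.hy.inj ((mon_conj_sg ha (hf j)).trans ((hf _).trans
      (congrArg _ (τ.apply_symm_apply _))).symm)⟩
  have nτ : ∀ π, P8 π → P8 (τ * π * τ⁻¹) := fun π p => by
    obtain ⟨r, hr, rS⟩ := hp π
    obtain ⟨σ, q, k⟩ := act r (rS p)
    rwa [show π = τ⁻¹ * σ * τ from Equiv.ext fun j => ei ((mt_inj inj ((he _).trans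
      (mon_conj_sg hr (he j)).symm)).trans (k j)), show τ * (τ⁻¹ * σ * τ) * τ⁻¹ = σ by group]
  obtain ⟨t1, t2⟩ := b53_norm τ (nτ _ (by decide)) (nτ _ (by decide))
  refine ⟨B, ⟨fun s hs => ?_, fun π p => let ⟨r, hr, rS⟩ := hp π; ⟨r, rS p, hr⟩⟩, m + 2, by omega, full⟩
  obtain ⟨π, p, k⟩ := act s hs
  obtain ⟨a, ha⟩ := mon_of_perm h.two he k
  exact ⟨_, a, BH.p8_mul (BH.p8_mul t2 p) t1, ha⟩

/-- the rotation of order four in the first component is unique up to inversion -/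
theorem b53_key (h : BS ρ S c) (ht : Thin ρ) {z τ : G} (hz : mt ρ z = diagonal ![-1, -1, 1, 1, 1])
    (hτ : τ * z * τ⁻¹ = z * c) (τS : τ ∈ S) {x y x' y' : G} (xS : x ∈ S) (yS : y ∈ S) (xS' : x' ∈ S)
    (yS' : y' ∈ S) (hx : N1 ρ x) (hy : N1 ρ y) (hx' : N1 ρ x') (hy' : N1 ρ y') (e : x * y * (x * y) = z)
    (e' : x' * y' * (x' * y') = z) : x' * y' = x * y ∨ x' * y' = (x * y)⁻¹ := by
  have inj := h.hy.inj
  by_cases k : ∃ a ∈ S, mt ρ a = sg F 0 ∨ mt ρ a = sg F 1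
  swap
  · have be : ∀ x ∈ S, ∀ y ∈ S, N1 ρ x → N1 ρ y → x * y * (x * y) = z →
        ∃ a : F, a * a = -1 ∧ mt ρ (x * y) = diagonal ![a, a⁻¹, 1, 1, 1] := fun x xS y yS hx hy e => by
      obtain ⟨μ, -, a⟩ := (or_assoc.2 hx).resolve_left fun q => k ⟨x, xS, q⟩
      obtain ⟨ν, -, b⟩ := (or_assoc.2 hy).resolve_left fun q => k ⟨y, yS, q⟩
      have := congrFun (congrFun (congrArg (mt ρ) e) 0) 0
      rw [mt_mul, BN.mt_be_be a b, hz, diagonal_mul_diagonal] at this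
      exact ⟨_, by simpa using this, BN.mt_be_be a b⟩
    obtain ⟨a, a2, ha⟩ := be x xS y yS hx hy e
    obtain ⟨b, b2, hb⟩ := be x' xS' y' yS' hx' hy' e'
    refine (mul_self_eq_mul_self_iff.1 (b2.trans a2.symm)).imp (fun q => mt_inj inj (by rw [ha, hb, q])) fun q =>
      eq_inv_of_mul_eq_one_left (mt_inj inj ?_)
    rw [mt_mul, ha, hb, q, diagonal_mul_diagonal, mt_one, ← diagonal_one]
    congr 1
    funext i
    fin_cases i <;> simp [a2, ← mul_inv]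
  obtain ⟨a, aS, ha⟩ := k
  have zz : z * z = 1 := mt_inj inj (by
    rw [mt_mul, hz, diagonal_mul_diagonal, mt_one, ← diagonal_one]; congr 1; funext i; fin_cases i <;> simp)
  have f01 : ∀ i : Fin 5, ![(-1 : F), -1, 1, 1, 1] i = -1 → ∃ f, mt ρ f = sg F i := fun i q => by
    have s0 : sg F 0 * mt ρ z = sg F 1 := by rw [hz, ← BN.sg0_mul_sg1, ← mul_assoc, BN.sg_mul_self, one_mul]
    have s1 : sg F 1 * mt ρ z = sg F 0 := by
      rw [hz, ← BN.sg0_mul_sg1, BN.sg_comm 0, ← mul_assoc, BN.sg_mul_self, one_mul]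
    fin_cases i
    · exact ha.elim (⟨a, ·⟩) fun k => ⟨a * z, by rw [mt_mul, k, s1]; rfl⟩
    · exact ha.elim (fun k => ⟨a * z, by rw [mt_mul, k, s0]; rfl⟩) (⟨a, ·⟩)
    all_goals exact (BN.neg_one_ne_one h.two (by simpa using q.symm)).elim
  have fr : ∀ i, ∃ f, mt ρ f = sg F i := fun i => by
    obtain ⟨π, b, -, hb⟩ := h.mono τ τS
    have q := congrFun (congrFun (BN.mon_conj_diag hb hz) i) i
    rw [hτ, mt_mul, hz, h.eq, sg, diagonal_mul_diagonal, diagonal_apply_eq, diagonal_apply_eq] at q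
    have k : ![(-1 : F), -1, 1, 1, 1] (π.symm i) = -1 → ∃ f, mt ρ f = sg F i := fun k =>
      let ⟨f, hf⟩ := f01 _ k
      ⟨_, (mon_conj_sg hb hf).trans (congrArg _ (π.apply_symm_apply i))⟩
    fin_cases i
    exacts [f01 _ rfl, f01 _ rfl, k (by rw [← q]; simp), k (by rw [← q]; simp), ⟨c, h.eq⟩]
  choose f hf using fr
  have z1 : z ≠ 1 := fun q => by
    have := congrFun (congrFun hz 0) 0
    rw [q, mt_one] at this
    exact BN.neg_one_ne_one h.two (by simpa using this.symm)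
  have sq : ∀ x y, N1 ρ x → N1 ρ y → (x * y = y * x ↔ x * y * (x * y) = 1) := fun x y hx hy => by
    rw [mul_eq_one_iff_eq_inv, _root_.mul_inv_rev, hx.isNg.inv51 inj, hy.isNg.inv51 inj]
  let D : G → Prop := fun a => mt ρ a = sg F 0 ∨ mt ρ a = sg F 1
  have hc : ∀ x ∈ S, ∀ y ∈ S, N1 ρ x → N1 ρ y → (D x ↔ D y) → x * y = y * x := fun x xS y yS hx hy q => by
    by_cases dx : D x
    · obtain ⟨i, hi⟩ : ∃ i, mt ρ x = sg F i := dx.elim (⟨_, ·⟩) (⟨_, ·⟩)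
      obtain ⟨j, hj⟩ : ∃ i, mt ρ y = sg F i := (q.1 dx).elim (⟨_, ·⟩) (⟨_, ·⟩)
      exact b53_comm inj hi hj
    obtain ⟨μ, -, a⟩ := (or_assoc.2 hx).resolve_left dx
    obtain ⟨ν, -, b⟩ := (or_assoc.2 hy).resolve_left fun k => dx (q.2 k)
    obtain ⟨n, hn⟩ := b53_two (mul_mem xS yS)
    exact (sq x y hx hy).2 (ht f (b53_fr h.two inj hf) _ n hn fun i => b53_comm inj (BN.mt_be_be a b) (hf i))
  have pm : ∀ x ∈ S, ∀ y ∈ S, N1 ρ x → N1 ρ y → (D x ↔ D y) → y = x ∨ y = x * z := fun x xS y yS hx hy q =>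
    (hx.eq_of_comm h.two hy (hc x xS y yS hx hy q)).imp
      (fun k => by rw [← hx.isNg.inv51 inj]; exact eq_inv_of_mul_eq_one_right (mt_inj inj (k.trans mt_one.symm)))
      fun k => by rw [← mt_inj inj (k.trans hz.symm), ← mul_assoc, hx.isNg.sq51 inj, one_mul]
  have pr : ∀ {x y u v}, N1 ρ y → u = x ∨ u = x * z → v = y ∨ v = y * z → u * v = x * y ∨ u * v = x * y * z := by
    have zc : ∀ {y}, N1 ρ y → z * y = y * z := fun hy => (mt_inj inj (hy.mul_z hz).2).symm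
    rintro x y u v hy (rfl | rfl) (rfl | rfl)
    · exact Or.inl rfl
    · exact Or.inr (mul_assoc _ _ _).symm
    · exact Or.inr (by rw [mul_assoc, zc hy, mul_assoc])
    · exact Or.inl (by rw [mul_assoc, ← mul_assoc z, zc hy, mul_assoc, zz, mul_one])
  have i1 : x * y * z = (x * y)⁻¹ := eq_inv_of_mul_eq_one_right (by rw [← mul_assoc, e, zz])
  have i2 : y * x = (x * y)⁻¹ := by rw [_root_.mul_inv_rev, hx.isNg.inv51 inj, hy.isNg.inv51 inj]
  have n1 : ¬ (D x ↔ D y) := fun q => z1 (e ▸ (sq x y hx hy).1 (hc x xS y yS hx hy q))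
  have n2 : ¬ (D x' ↔ D y') := fun q => z1 (e' ▸ (sq x' y' hx' hy').1 (hc x' xS' y' yS' hx' hy' q))
  by_cases q : D x ↔ D x'
  · exact i1 ▸ pr hy (pm x xS x' xS' hx hx' q) (pm y yS y' yS' hy hy' (by tauto))
  · refine (pr hx (pm y yS x' xS' hy hx' (by tauto)) (pm x xS y' yS' hx hy' (by tauto))).symm.imp
      (fun k => ?_) fun k => k.trans i2
    rw [k, i2, ← i1, mul_assoc, zz, mul_one]

/-- the eigenbasis of the two rotations -/
def b53U (h2 : (2 : F) ≠ 0) {i : F} (hi : i * i = -1) : GL (Fin 5) F :=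
  have k : (!![1, 1, 0, 0, 0; -i, i, 0, 0, 0; 0, 0, 1, 1, 0; 0, 0, -i, i, 0; 0, 0, 0, 0, 1] : M5 F) *
      !![2⁻¹, i / 2, 0, 0, 0; 2⁻¹, -i / 2, 0, 0, 0; 0, 0, 2⁻¹, i / 2, 0; 0, 0, 2⁻¹, -i / 2, 0; 0, 0, 0, 0, 1] = 1 := by
    ext k l
    fin_cases k <;> fin_cases l <;> simp [mul_apply, Fin.sum_univ_five] <;> field_simp <;>
      first | ring1 | linear_combination (-2) * hi
  ⟨_, _, k, mul_eq_one_comm.1 k⟩

theorem b53U_cb (h2 : (2 : F) ≠ 0) {i : F} (hi : i * i = -1) {g : G} {A : M5 F}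
    (e : mt ρ g * !![1, 1, 0, 0, 0; -i, i, 0, 0, 0; 0, 0, 1, 1, 0; 0, 0, -i, i, 0; 0, 0, 0, 0, 1] =
      !![1, 1, 0, 0, 0; -i, i, 0, 0, 0; 0, 0, 1, 1, 0; 0, 0, -i, i, 0; 0, 0, 0, 0, 1] * A) :
    mt (cb ρ (b53U h2 hi)) g = A := by
  rw [mt_cb, mul_assoc]
  exact (congrArg _ e).trans (Units.inv_mul_cancel_left (b53U h2 hi) A)

theorem b53_std {ρ' : G →* S5 F} (h : BS ρ S c) (ht : Thin ρ) (inj' : Function.Injective ρ') {e : Fin 5 → G}
    (eS : ∀ i, e i ∈ S) (he : ∀ i, mt ρ' (e i) = sg F i) (e4 : e 4 = c) {r τ : G} (rS : r ∈ S) (τS : τ ∈ S)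
    (hr : mt ρ' r = pm F (Equiv.swap 0 1)) (hτ : mt ρ' τ = pm F (Equiv.swap 0 2 * Equiv.swap 1 3))
    (n0 : N1 ρ (e 0)) (n1 : N1 ρ (e 1)) (nr : N1 ρ r) : ∃ B, mt (cb ρ' B) c = sg F 4 ∧ Std (cb ρ' B) S ∧
      ∃ i : F, i * i = -1 ∧ Tor (cb ρ' B) S ![i, -i, 1, 1, 1] := by
  have inj := h.hy.inj
  obtain ⟨i, hi⟩ := IsAlgClosed.exists_eq_mul_self (-1 : F)
  replace hi := hi.symm
  have cj : ∀ {g π a}, mt ρ' g = mon π a → ∀ j, g * e j * g⁻¹ = e (π j) := fun k j =>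
    mt_inj inj' ((mon_conj_sg k (he j)).trans (he _).symm)
  have hz : mt ρ (e 0 * e 1) = diagonal ![-1, -1, 1, 1, 1] :=
    (n0.eq_of_comm h.two n1 (b53_comm inj' (he 0) (he 1))).resolve_left fun k =>
      absurd ((b53_fr h.two inj' he).inj ((n0.isNg.inv51 inj).symm.trans
        (inv_eq_of_mul_eq_one_right (mt_inj inj (k.trans mt_one.symm))))) (by decide)
  have τz : τ * (e 0 * e 1) * τ⁻¹ = e 0 * e 1 * c := by
    rw [← conj_mul, cj hτ, cj hτ, ← e4]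
    refine mt_inj inj' ?_
    simp only [mt_mul, he, sg, diagonal_mul_diagonal]
    congr 1; funext j; fin_cases j <;> simp [Equiv.swap_apply_def]
  have ττ : τ * τ = 1 := mt_inj inj' (by
    rw [mt_mul, hτ, BH.pm_mul, mt_one, ← BH.pm_one]; exact congrArg _ (by decide))
  have cc : e 0 * r * (e 0 * r) = e 0 * e 1 := by
    rw [show e 1 = r * e 0 * r⁻¹ from (cj hr 0).symm, nr.isNg.inv51 inj]; group
  -- the action of `S` on the rotation
  have key : ∀ s ∈ S, s * (e 0 * e 1) * s⁻¹ = e 0 * e 1 →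
      s * (e 0 * r) * s⁻¹ = e 0 * r ∨ s * (e 0 * r) * s⁻¹ = (e 0 * r)⁻¹ := fun s sS k => by
    have cS : ∀ x ∈ S, s * x * s⁻¹ ∈ S := fun x xS => mul_mem (mul_mem sS xS) (inv_mem sS)
    have m0 : N1 ρ (s * e 0 * s⁻¹) := (h.cases (cS _ (eS 0)) (n0.isNg.conj s)).resolve_right fun q => by
      have t0 := (n0.isNg.conj s).tr
      have t1 := (n1.isNg.conj s).tr
      rw [show s * e 1 * s⁻¹ = s * e 0 * s⁻¹ * (e 0 * e 1) by
        rw [← k, conj_mul, ← mul_assoc (e 0), n0.isNg.sq51 inj, one_mul], tr, mt_mul, hz] at t1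
      have : mt ρ (s * e 0 * s⁻¹) 0 0 = -1 ∧ mt ρ (s * e 0 * s⁻¹) 1 1 = -1 :=
        q.elim (fun q => ⟨(BN.n2_entries q).1, (BN.n2_entries q).2.1⟩) fun q => by rw [q, h.eq]; simp [sg]
      simp only [tr, Matrix.trace, diag_apply, mul_diagonal, Fin.sum_univ_five, this.1, this.2, cons_val] at t0 t1
      exact mul_ne_zero h.two h.two (by linear_combination t1 - t0)
    have c' : s * e 0 * s⁻¹ * (s * r * s⁻¹) * (s * e 0 * s⁻¹ * (s * r * s⁻¹)) = e 0 * e 1 := by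
      rw [conj_mul, conj_mul, cc, k]
    have mr : N1 ρ (s * r * s⁻¹) := (h.cases (cS _ rS) (nr.isNg.conj s)).resolve_right fun q => by
      have : s * e 0 * s⁻¹ * (s * r * s⁻¹) = s * r * s⁻¹ * (s * e 0 * s⁻¹) :=
        q.elim (m0.comm inj) fun q => q ▸ h.comm (cS _ (eS 0))
      rw [conj_mul, conj_mul, mul_left_inj, mul_right_inj] at this
      exact absurd ((b53_fr h.two inj' he).inj ((cj hr 0).symm.trans (by rw [← this, mul_inv_cancel_right])))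
        (by decide)
    rw [← conj_mul]
    exact b53_key h ht hz τz τS (eS 0) rS (cS _ (eS 0)) (cS _ rS) n0 nr m0 mr cc c'
  have zs : ∀ s ∈ S, s * (e 0 * e 1) * s⁻¹ = e 0 * e 1 ∨ s * (e 0 * e 1) * s⁻¹ = e 0 * e 1 * c := fun s sS => by
    obtain ⟨π, a, p, ha⟩ := h.mono s sS
    have := BN.mon_conj_diag ha hz
    have zv : ∀ j : Fin 5, ![(-1 : F), -1, 1, 1, 1] j = if j < 2 then -1 else 1 := fun j => by fin_cases j <;> rfl
    refine (b53_pl π p).imp (fun q => mt_inj inj (this.trans ?_)) fun q => mt_inj inj (this.trans ?_)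
    · simp only [hz, zv, q, funext zv]
    · simp only [mt_mul (e 0 * e 1), hz, h.eq, sg, diagonal_mul_diagonal, zv, q]
      congr 1; funext j; fin_cases j <;> simp
  -- the new basis
  set ρ₂ := cb ρ' (b53U h.two hi)
  have inj₂ : Function.Injective ρ₂ := cb_injective inj' _
  have u1 : mt ρ₂ (e 1) = pm F (Equiv.swap 0 1) := b53U_cb _ _ (by
    rw [he]; ext k l
    fin_cases k <;> fin_cases l <;> simp [sg, pm, BH.mul_mon_apply, Equiv.swap_apply_def])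
  have u3 : mt ρ₂ (e 3) = pm F (Equiv.swap 2 3) := b53U_cb _ _ (by
    rw [he]; ext k l
    fin_cases k <;> fin_cases l <;> simp [sg, pm, BH.mul_mon_apply, Equiv.swap_apply_def])
  have u4 : mt ρ₂ (e 4) = sg F 4 := b53U_cb _ _ (by
    rw [he]; ext k l
    fin_cases k <;> fin_cases l <;> simp [sg])
  have uτ : mt ρ₂ τ = pm F (Equiv.swap 0 2 * Equiv.swap 1 3) := b53U_cb _ _ (by
    rw [hτ]; ext k l
    fin_cases k <;> fin_cases l <;> simp [pm, mon, mul_apply, Fin.sum_univ_five, Equiv.swap_apply_def])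
  have uc : mt ρ₂ (e 0 * r) = diagonal ![i, -i, 1, 1, 1] := b53U_cb _ _ (by
    rw [mt_mul, he, hr, sg, pm, ← mon_one, mon_mul]; ext k l
    fin_cases k <;> fin_cases l <;> simp [mon, mul_apply, Fin.sum_univ_five, Equiv.swap_apply_def, hi])
  have ud : mt ρ₂ (τ * (e 0 * r) * τ⁻¹) = diagonal ![1, 1, i, -i, 1] := (BN.mon_conj_diag uτ uc).trans (by
    congr 1; funext j; fin_cases j <;> rfl)
  have a1 : e 1 * (e 0 * r) * (e 1)⁻¹ = (e 0 * r)⁻¹ := eq_inv_of_mul_eq_one_left (mt_inj inj₂ (by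
    rw [mt_mul, BN.mon_conj_diag u1 uc, uc, diagonal_mul_diagonal, mt_one, ← diagonal_one]
    congr 1; funext j; fin_cases j <;> simp [Equiv.swap_apply_def, hi]))
  have b1 : e 3 * (e 0 * r) * (e 3)⁻¹ = e 0 * r := mt_inj inj₂ (by
    rw [BN.mon_conj_diag u3 uc, uc]
    congr 1; funext j; fin_cases j <;> simp [Equiv.swap_apply_def])
  have τ1 : τ * e 1 * τ⁻¹ = e 3 := cj hτ 1
  have τi : τ⁻¹ = τ := inv_eq_of_mul_eq_one_right ττ
  have κS := mul_mem (eS 0) rS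
  generalize e 0 * r = κ at *
  generalize e 0 * e 1 = z at *
  let Q : G → Prop := fun s => ∃ π a, P8 π ∧ mt ρ₂ s = mon π a
  have Qm : ∀ {r s π}, mt ρ₂ r = pm F π → P8 π → Q (r⁻¹ * s) → Q s := fun {r s π} k p ⟨σ, a, q, l⟩ =>
    ⟨_, _, BH.p8_mul p q, (congrArg _ (mul_inv_cancel_left r s)).symm.trans ((mt_mul _ _).trans
      ((congrArg₂ _ k l).trans (mon_mul _ _ _ _)))⟩
  have ni : ∀ a b : F, a * a = -1 → b = -a ∨ b = 1 → a ≠ b := by
    rintro a b q (rfl | rfl) k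
    · exact one_ne_zero (by rw [(mul_eq_zero.1 (show 2 * a = 0 by linear_combination k)).resolve_left h.two] at q
                            linear_combination q)
    · exact h.two (by rw [k] at q; linear_combination q)
  have G0 : ∀ s, s * κ * s⁻¹ = κ → s * (τ * κ * τ⁻¹) * s⁻¹ = τ * κ * τ⁻¹ → Q s := fun s k l => by
    have k' := congrArg (mt ρ₂) (mul_inv_eq_iff_eq_mul.1 k)
    have l' := congrArg (mt ρ₂) (mul_inv_eq_iff_eq_mul.1 l)
    rw [mt_mul, mt_mul, uc] at k'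
    rw [mt_mul, mt_mul _ s, ud] at l'
    have i1 := ni i _ hi (Or.inl rfl)
    have i2 := ni i _ hi (Or.inr rfl)
    have i3 := ni (-i) _ (by rw [neg_mul_neg, hi]) (Or.inr rfl)
    refine ⟨1, fun j => mt ρ₂ s j j, BH.p8_one, ?_⟩
    rw [mon_one]
    ext a b
    by_cases ab : a = b
    · rw [ab, diagonal_apply_eq]
    rw [diagonal_apply_ne _ ab]
    by_contra q
    have q1 := of_not_not fun n => q (BH.entry_eq_zero k' n)
    have q2 := of_not_not fun n => q (BH.entry_eq_zero l' n)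
    fin_cases a <;> fin_cases b <;> simp [i1, i2, i3, i1.symm, i2.symm, i3.symm] at ab q1 q2
  have G1 : ∀ s, s * κ * s⁻¹ = κ → s * (τ * κ * τ⁻¹) * s⁻¹ = τ * κ * τ⁻¹ ∨
      s * (τ * κ * τ⁻¹) * s⁻¹ = (τ * κ * τ⁻¹)⁻¹ → Q s := fun s k l => l.elim (G0 s k) fun l =>
    Qm u3 (by decide) (G0 _ (by
      calc _ = (e 3)⁻¹ * (s * κ * s⁻¹) * e 3 := by group
        _ = (e 3)⁻¹ * (e 3 * κ * (e 3)⁻¹) * e 3 := by rw [k, b1]
        _ = κ := by group) (by
      calc _ = (e 3)⁻¹ * (s * (τ * κ * τ⁻¹) * s⁻¹) * e 3 := by group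
        _ = (e 3)⁻¹ * (τ * κ⁻¹ * τ⁻¹) * e 3 := by rw [l]; group
        _ = _ := by rw [← a1, ← τ1]; group))
  have G3 : ∀ s ∈ S, s * z * s⁻¹ = z → Q s := fun s sS k => by
    have l : ∀ s ∈ S, s * z * s⁻¹ = z → s * (τ * κ * τ⁻¹) * s⁻¹ = τ * κ * τ⁻¹ ∨
        s * (τ * κ * τ⁻¹) * s⁻¹ = (τ * κ * τ⁻¹)⁻¹ := fun s sS k => by
      refine (key (τ⁻¹ * s * τ) (mul_mem (mul_mem (inv_mem τS) sS) τS) ?_).imp (fun q => ?_) fun q => ?_
      · calc _ = τ⁻¹ * (s * (τ * z * τ⁻¹) * s⁻¹) * τ := by group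
          _ = τ⁻¹ * (s * z * s⁻¹ * (s * c * s⁻¹)) * τ := by rw [τz]; group
          _ = τ⁻¹ * (τ * z * τ⁻¹) * τ := by rw [k, h.comm sS, mul_inv_cancel_right, τz]
          _ = z := by group
      · conv_rhs => rw [← q]
        group
      · calc _ = τ * (τ⁻¹ * s * τ * κ * (τ⁻¹ * s * τ)⁻¹) * τ⁻¹ := by group
          _ = _ := by rw [q]; group
    refine (key s sS k).elim (fun q => G1 s q (l s sS k)) fun q => Qm u1 (by decide) (G1 _ ?_
      (l _ (mul_mem (inv_mem (eS 1)) sS) ?_))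
    · calc _ = (e 1)⁻¹ * (s * κ * s⁻¹) * e 1 := by group
        _ = _ := by rw [q, ← a1]; group
    · calc _ = (e 1)⁻¹ * (s * z * s⁻¹) * e 1 := by group
        _ = _ := by rw [k, mul_assoc, ← mt_inj inj (n1.mul_z hz).2, inv_mul_cancel_left]
  refine ⟨_, e4 ▸ u4, ⟨fun s sS => (zs s sS).elim (G3 s sS) fun q => Qm uτ (by decide)
    (G3 _ (mul_mem (inv_mem τS) sS) ?_), fun π p => ?_⟩, i, hi, κ, κS, uc⟩
  · calc _ = τ⁻¹ * (s * z * s⁻¹) * τ := by group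
      _ = _ := by rw [q, ← τz]; group
  · obtain ⟨a, ha, b, hb, t, ht, rfl⟩ := b53_p8 π p
    have : ∀ {π x g}, π ∈ [1, x] → g ∈ S → mt ρ₂ g = pm F x → ∃ s ∈ S, mt ρ₂ s = pm F π := fun k gS hg => by
      simp only [List.mem_cons, List.not_mem_nil, or_false] at k
      rcases k with rfl | rfl
      exacts [⟨1, one_mem _, mt_one.trans BH.pm_one.symm⟩, ⟨_, gS, hg⟩]
    obtain ⟨x, xS, hx⟩ := this ha (eS 1) u1
    obtain ⟨y, yS, hy⟩ := this hb (eS 3) u3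
    obtain ⟨w, wS, hw⟩ := this ht τS uτ
    exact ⟨x * y * w, mul_mem (mul_mem xS yS) wS, by rw [mt_mul, mt_mul, hx, hy, hw, BH.pm_mul, BH.pm_mul]⟩

theorem BS.std (h : BS ρ S c) (h1 : Two S (N1 ρ)) (h2 : Two S (N2 ρ)) (hw : AllW ρ)
    (ht : Thin ρ) : ∃ B, BS (cb ρ B) S c ∧ Std (cb ρ B) S ∧
      ∃ i : F, i * i = -1 ∧ Tor (cb ρ B) S ![i, -i, 1, 1, 1] := by
  have inj := h.hy.inj
  obtain ⟨C, hC, f1, f2, -⟩ := h.flip51
  have two : ∀ {ρ : G →* S5 F}, BS ρ S c → Two S (N1 ρ) → ∃ a ∈ S, ∃ b ∈ S, N1 ρ a ∧ N1 ρ b ∧ a ≠ b ∧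
      a * b = b * a := fun {ρ} h h1 => by
    obtain ⟨z, zS, hz⟩ := h.exists_z h1
    obtain ⟨a, aS, -, -, ha, -⟩ := h1
    refine ⟨a, aS, _, mul_mem aS zS, ha, (ha.mul_z hz).1, fun q => ?_, by
      rw [mul_assoc, mt_inj h.hy.inj (ha.mul_z hz).2]⟩
    have := congrFun (congrFun hz 0) 0
    rw [left_eq_mul.1 q, mt_one] at this
    exact BN.neg_one_ne_one h.two (by simpa using this.symm)
  obtain ⟨a, aS, a', aS', ha, ha', na, ca⟩ := two h h1
  obtain ⟨b, bS, b', bS', hb, hb', nb, cb'⟩ := two hC ((funext fun d => propext (f1 d) : N1 _ = N2 ρ) ▸ h2)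
  rw [f1] at hb hb'
  have n12 : ∀ {x y}, N1 ρ x → N2 ρ y → x ≠ y := fun p q e => p.not_N2 h.two (e ▸ q)
  have n1c : ∀ {x}, N1 ρ x → x ≠ c := fun p e => p.ne_sg h.two (e ▸ h.eq)
  have n2c : ∀ {x}, N2 ρ x → x ≠ c := fun p e => p.ne_sg h.two (e ▸ h.eq)
  have hd : Fr ρ ![a, a', b, b', c] := by
    refine ⟨fun i => ?_, fun i j => ?_, fun i j => ?_⟩
    · fin_cases i
      exacts [ha.isNg, ha'.isNg, hb.isNg, hb'.isNg, isNg_sg h.eq]
    · have := ha.comm inj hb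
      have := ha.comm inj hb'
      have := ha'.comm inj hb
      have := ha'.comm inj hb'
      have := h.comm aS
      have := h.comm aS'
      have := h.comm bS
      have := h.comm bS'
      fin_cases i <;> fin_cases j <;> first | rfl | assumption | (symm; assumption)
    · have := n12 ha hb
      have := n12 ha hb'
      have := n12 ha' hb
      have := n12 ha' hb'
      have := n1c ha
      have := n1c ha'
      have := n2c hb
      have := n2c hb'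
      fin_cases i <;> fin_cases j <;> intro q <;>
        first | rfl | exact absurd q (by assumption) | exact absurd q.symm (by assumption)
  obtain ⟨B, e, eS, he, hp, -⟩ := b53_weyl h.two inj hw S hd
  have inj' := cb_injective inj B
  have fe := b53_fr h.two inj' he
  obtain ⟨r, hr, rS⟩ := hp (Equiv.swap 0 1)
  obtain ⟨τ, hτ, τS⟩ := hp (Equiv.swap 0 2 * Equiv.swap 1 3)
  replace rS := rS (by decide)
  replace τS := τS (by decide)
  have cj : ∀ {g π a}, mt (cb ρ B) g = mon π a → ∀ j, g * e j * g⁻¹ = e (π j) := fun k j =>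
    mt_inj inj' ((mon_conj_sg k (he j)).trans (he _).symm)
  have e4 : e 4 = c := by
    obtain ⟨σ, -, -, -, -, k⟩ := h.fr ((fr_cb B).1 fe) eS
    have := fe.inj ((cj hτ (σ 4)).symm.trans (by rw [k, h.comm τS, mul_inv_cancel_right]))
    rw [← k]
    generalize σ 4 = j at this
    exact congrArg e (by revert j; decide)
  have rN : IsNg ρ r := (isNg_cb B).1 (isNg_pm (by decide) hr)
  have nc : ∀ j, Equiv.swap 0 1 j ≠ j → r * e j ≠ e j * r := fun j q k =>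
    q (fe.inj ((cj hr j).symm.trans (by rw [k, mul_inv_cancel_right])))
  have ty : ∀ {ρ : G →* S5 F}, BS ρ S c → N1 ρ r → ∀ j, IsNg ρ (e j) → Equiv.swap 0 1 j ≠ j → N1 ρ (e j) :=
    fun h p j q k => (h.cases (eS j) q).resolve_right fun l =>
      nc j k (l.elim (p.comm h.hy.inj) fun l => l ▸ h.comm rS)
  obtain ⟨B', k1, k2⟩ : ∃ B', mt (cb (cb ρ B) B') c = sg F 4 ∧ Std (cb (cb ρ B) B') S ∧
      ∃ i : F, i * i = -1 ∧ Tor (cb (cb ρ B) B') S ![i, -i, 1, 1, 1] := by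
    have en : ∀ j, IsNg ρ (e j) := ((fr_cb B).1 fe).ng
    rcases h.cases rS rN with p | p | p
    · exact b53_std h ht inj' eS he e4 rS τS hr hτ (ty h p 0 (en 0) (by decide)) (ty h p 1 (en 1) (by decide)) p
    · rw [← f1] at p
      exact b53_std hC ((thin_cb C).2 ht) inj' eS he e4 rS τS hr hτ (ty hC p 0 ((isNg_cb C).2 (en 0)) (by decide))
        (ty hC p 1 ((isNg_cb C).2 (en 1)) (by decide)) p
    · exact absurd (p ▸ (h.comm (eS 0)).symm) (nc 0 (by decide))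
  rw [cb_cb] at k1 k2
  exact ⟨_, ⟨h.hy.cb _, h.two, k2.1.mono, h.mem, k1, fun d hd => h.cls d ((isNg_cb _).1 hd)⟩, k2⟩

end CfsgLib.D5
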