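import Cfsg.Agent.Lib.D5.BH

/-!
B54: thin frames.  See `plans/D5.md`.
-/

set_option autoImplicit false

namespace CfsgLib.D5

open Matrix Cfsg Cfsg.Geo CfsgLib.Asch Subgroup
open scoped MatrixGroups

variable {G F : Type*} [Group G] [Field F] {ρ : G →* S5 F}

namespace B54

open BH

theorem supp (h2 : (2 : F) ≠ 0) {d : G} {i : Fin 5} (hd : mt ρ d = sg F i) {v φ : V5 F}
    (h : Ng ρ d v φ) : (∀ k, k ≠ i → v k = 0) ∧ (∀ k, k ≠ i → φ k = 0) ∧ v i * φ i = 2 := by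
  have e := fun k l => congrFun (congrFun (hd.symm.trans h.eq) k) l
  have e1 : v i * φ i = 2 := by
    have := e i i
    simp [sg, vecMulVec_apply] at this
    linear_combination -this
  refine ⟨fun k hk => ?_, fun k hk => ?_, e1⟩
  · have := e k i
    simp [sg, vecMulVec_apply, hk] at this
    exact this.resolve_right fun z => h2 (by rw [← e1, z, mul_zero])
  · have := e i k
    simp [sg, vecMulVec_apply, hk.symm] at this
    exact this.resolve_left fun z => h2 (by rw [← e1, z, zero_mul])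

theorem cross (h2 : (2 : F) ≠ 0) {d g : G} {i : Fin 5} (hd : mt ρ d = sg F i) (c : g * d = d * g)
    {k : Fin 5} (hk : k ≠ i) : mt ρ g k i = 0 ∧ mt ρ g i k = 0 := by
  have e := congrArg (mt ρ) c
  rw [mt_mul, mt_mul, hd, sg] at e
  have : (-1 : F) ≠ 1 := fun z => h2 (by linear_combination -z)
  exact ⟨entry_eq_zero e (by simpa [hk] using this), entry_eq_zero e (by simpa [hk] using this.symm)⟩

theorem eig (h2 : (2 : F) ≠ 0) {d g : G} {i : Fin 5} (hd : mt ρ d = sg F i) {v φ : V5 F}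
    (h : Ng ρ d v φ) {a : F} (ha : mt ρ g *ᵥ v = a • v) : mt ρ g i i = a ∧ a ≠ 0 := by
  obtain ⟨h1, -, h3⟩ := supp h2 hd h
  refine ⟨?_, fun e => mulVec_ne (ρ := ρ) (s := g) (ng_v_ne h2 h) (by rw [ha, e, zero_smul])⟩
  have := congrFun ha i
  rw [mulVec, dotProduct, Finset.sum_eq_single i (fun k _ hk => by rw [h1 k hk, mul_zero])
    (by simp)] at this
  exact mul_right_cancel₀ (fun z => h2 (by rw [← h3, z, zero_mul])) this

theorem comm_of_diag (h : Function.Injective ρ) {x y : G} {s t : V5 F} (hx : mt ρ x = diagonal s)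
    (hy : mt ρ y = diagonal t) : x * y = y * x :=
  mt_inj h (by rw [mt_mul, mt_mul, hx, hy, diagonal_mul_diagonal, diagonal_mul_diagonal]
               simp only [mul_comm])

theorem key_std (h2 : (2 : F) ≠ 0) (h : Function.Injective ρ) (hw : AllW ρ) (ht : Thin ρ)
    {d : Fin 5 → G} (hd : Fr ρ d) (hB : ∀ k, mt ρ (d k) = sg F k) {i j : Fin 5} (hij : i ≠ j)
    {g : G} (ci : g * d i = d i * g) (cj : g * d j = d j * g) {a b : F} (ha : mt ρ g i i = a)
    (hb : mt ρ g j j = b) (a0 : a ≠ 0) (b0 : b ≠ 0) {n : ℕ} (hn : a ^ 2 ^ n = b ^ 2 ^ n) :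
    a ^ 2 = b ^ 2 := by
  obtain ⟨ν, hν, e⟩ := hw d hd i j hij
  obtain ⟨m, hm⟩ := mon_of_perm h2 hB e
  obtain ⟨m1, m2⟩ := ng_swap hν hij hm
  have zi := fun k (hk : k ≠ i) => cross h2 (hB i) ci hk
  have zj := fun k (hk : k ≠ j) => cross h2 (hB j) cj hk
  let m' : V5 F := fun k => if k = i then b / a * m i else if k = j then a / b * m j else -1
  have c1 : mt ρ g * mon (Equiv.swap i j) m = mon (Equiv.swap i j) m' * mt ρ g := by
    ext k l
    obtain ⟨k, rfl⟩ := (Equiv.swap i j).surjective k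
    rw [mul_mon_apply, mon_mul_apply]
    by_cases ki : k = i
    · subst ki
      by_cases li : l = k
      · subst li
        simp only [Equiv.swap_apply_left, m', if_true, ha, hb]
        field_simp
      · rw [(zi l li).2, Equiv.swap_apply_left, (zj _ ?_).2, zero_mul, mul_zero]
        rwa [Ne, Equiv.swap_apply_eq_iff, Equiv.swap_apply_right]
    by_cases kj : k = j
    · subst kj
      by_cases lj : l = k
      · subst lj
        simp only [Equiv.swap_apply_right, m', if_true, ha, hb, ki, if_false]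
        field_simp
      · rw [(zj l lj).2, Equiv.swap_apply_right, (zi _ ?_).2, zero_mul, mul_zero]
        rwa [Ne, Equiv.swap_apply_eq_iff, Equiv.swap_apply_left]
    rw [Equiv.swap_apply_of_ne_of_ne ki kj]
    by_cases li : l = i
    · rw [li, Equiv.swap_apply_left, (zi k ki).1, (zj k kj).1, zero_mul, mul_zero]
    by_cases lj : l = j
    · rw [lj, Equiv.swap_apply_right, (zi k ki).1, (zj k kj).1, zero_mul, mul_zero]
    rw [Equiv.swap_apply_of_ne_of_ne li lj, m2 l li lj]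
    simp [m', ki, kj]
  let t : V5 F := fun k => if k = i then b / a else if k = j then a / b else 1
  have c2 : mt ρ (ν * (g * ν * g⁻¹)) = diagonal t := by
    rw [mt_mul, mt_mul, mt_mul, hm, c1, Matrix.mul_assoc, mt_mul_inv, Matrix.mul_one, mon_mul,
      Equiv.swap_mul_self, mon_one]
    congr 1
    funext k
    by_cases ki : k = i
    · subst ki
      simp only [Equiv.swap_apply_left, m', t, if_true]
      linear_combination b / a * m1
    by_cases kj : k = j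
    · subst kj
      simp only [Equiv.swap_apply_right, m', t, if_true, ki, if_false]
      linear_combination a / b * m1
    simp [Equiv.swap_apply_of_ne_of_ne ki kj, m', t, ki, kj, m2 k ki kj]
  have c3 := ht d hd _ n (mt_inj h (by
    rw [mt_pow, c2, diagonal_pow, mt_one, ← diagonal_one]
    congr 1
    funext k
    simp only [Pi.pow_apply, t]
    split_ifs
    · rw [div_pow, hn, div_self (pow_ne_zero _ b0)]
    · rw [div_pow, hn, div_self (pow_ne_zero _ b0)]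
    · exact one_pow _)) fun k => comm_of_diag h c2 (hB k)
  have c4 := congrFun (congrFun (congrArg (mt ρ) c3) i) i
  rw [mt_mul, c2, mt_one] at c4
  simp only [diagonal_mul_diagonal, diagonal_apply_eq, one_apply_eq, t, if_true] at c4
  field_simp at c4
  linear_combination -c4

/-- the negative reflections interchanging `e 0` and `e 2` -/
def nu (ξ : V5 F) (μ : F) : M5 F := mon (Equiv.swap 0 2) ![μ * ξ 0, -1, μ⁻¹ * ξ 2, -1, -1]

theorem nu_mul {ξ : V5 F} (hξ : ξ 0 * ξ 2 = 1) (μ μ' : F) :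
    nu ξ μ' * nu ξ μ = diagonal ![μ * μ'⁻¹, 1, μ⁻¹ * μ', 1, 1] := by
  rw [nu, nu, mon_mul, Equiv.swap_mul_self, mon_one]
  congr 1
  funext k
  fin_cases k <;> simp [Equiv.swap_apply_def]
  · linear_combination μ * μ'⁻¹ * hξ
  · linear_combination μ⁻¹ * μ' * hξ

theorem nu_diag (ξ : V5 F) (μ a : F) :
    nu ξ μ * diagonal ![a, 1, a⁻¹, 1, 1] = nu ξ (μ * a) := by
  rw [nu, nu, ← mon_one, mon_mul, mul_one]
  congr 1
  funext k
  fin_cases k <;> simp <;> ring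

theorem sw_std [Finite G] (h2 : (2 : F) ≠ 0) (h : Function.Injective ρ) (hw : AllW ρ)
    (ht : Thin ρ) {d : Fin 5 → G} (hd : Fr ρ d) (hB : ∀ k, mt ρ (d k) = sg F k) {x : G}
    (hx : x * x = 1) {ξ : V5 F} (hξ : mt ρ x = mon (Equiv.swap 0 2 * Equiv.swap 1 3) ξ) :
    ξ 0 * ξ 2 = 1 ∧ ∃ ν, mt ρ ν = nu ξ (-1) := by
  have x2 := congrArg (mt ρ) hx
  rw [mt_mul, hξ, mon_mul, mt_one] at x2
  have x0 : ξ 0 * ξ 2 = 1 := by
    simpa [mon, Equiv.swap_apply_def, mul_comm] using congrFun (congrFun x2 0) 0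
  have x1 : ξ 1 * ξ 3 = 1 := by
    simpa [mon, Equiv.swap_apply_def, mul_comm] using congrFun (congrFun x2 1) 1
  have x4 : ξ 4 = 1 := by
    have := det_mt (ρ := ρ) x
    rw [hξ, det_mon, Fin.prod_univ_five] at this
    simp at this
    linear_combination this - ξ 4 * ξ 1 * ξ 3 * x0 - ξ 4 * x1
  refine ⟨x0, ?_⟩
  obtain ⟨ν, hν, e⟩ := hw d hd 0 2 (by decide)
  obtain ⟨m, hm⟩ := mon_of_perm h2 hB e
  obtain ⟨m1, m2⟩ := ng_swap hν (by decide) hm
  obtain ⟨μ, μ0, hμ⟩ : ∃ μ, μ ≠ 0 ∧ mt ρ ν = nu ξ μ := by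
    refine ⟨m 0 * ξ 2, mul_ne_zero (ne_zero_of_mon hm 0) (ne_zero_of_mon hξ 2), hm.trans ?_⟩
    rw [nu]
    congr 1
    funext k
    have := ne_zero_of_mon hm 0
    have := ne_zero_of_mon hξ 2
    fin_cases k <;> simp
    · linear_combination (-m 0) * x0
    · exact m2 1 (by decide) (by decide)
    · field_simp; linear_combination m1
    · exact m2 3 (by decide) (by decide)
    · exact m2 4 (by decide) (by decide)
  have cj : mt ρ (x * ν * x) = nu ξ μ⁻¹ := by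
    rw [mt_mul, mt_mul, hξ, hμ, nu, nu, mon_mul, mon_mul, inv_inv]
    congr 1
    · decide
    funext k
    fin_cases k <;> simp [Equiv.swap_apply_def]
    · exact Or.inl (by linear_combination μ⁻¹ * x0)
    · linear_combination x1
    · exact Or.inl (by linear_combination μ * x0)
    · linear_combination x1
    · rw [x4, one_mul]
  have hy : ∀ k : ℕ, mt ρ ((x * ν * x * ν) ^ k) =
      diagonal ![μ ^ (2 * k), 1, (μ ^ (2 * k))⁻¹, 1, 1] := fun k => by
    rw [mt_pow, mt_mul, cj, hμ, nu_mul x0, diagonal_pow]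
    congr 1
    funext l
    fin_cases l <;> simp [pow_mul, pow_two, mul_pow]
  obtain ⟨s, o, ho, hso⟩ := Nat.exists_eq_two_pow_mul_odd (orderOf_pos (x * ν * x * ν)).ne'
  obtain ⟨k, rfl⟩ := ho
  have hord : (μ * μ ^ (2 * k)) ^ 2 ^ (s + 1) = 1 := by
    have := congrFun (congrFun (hy (orderOf (x * ν * x * ν))) 0) 0
    rw [pow_orderOf_eq_one, mt_one, hso] at this
    simp only [one_apply_eq, diagonal_apply_eq, cons_val_zero] at this
    rw [← pow_succ', ← pow_mul, this]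
    congr 1
    ring
  obtain ⟨ν', hν'⟩ : ∃ ν', mt ρ ν' = nu ξ (μ * μ ^ (2 * k)) :=
    ⟨ν * (x * ν * x * ν) ^ k, by rw [mt_mul, hμ, hy, nu_diag]⟩
  have μ1 : μ * μ ^ (2 * k) ≠ 0 := mul_ne_zero μ0 (pow_ne_zero _ μ0)
  generalize μ * μ ^ (2 * k) = l at hord hν' μ1
  have hg : mt ρ (x * ν') = mon (Equiv.swap 1 3) ![l, -ξ 1, l⁻¹, -ξ 3, -1] := by
    rw [mt_mul, hξ, hν', nu, mon_mul]
    congr 1
    · decide
    funext k
    fin_cases k <;> simp [Equiv.swap_apply_def]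
    · linear_combination l * x0
    · linear_combination l⁻¹ * x0
    · exact x4
  have cm : ∀ i, Equiv.swap (1 : Fin 5) 3 i = i → x * ν' * d i = d i * (x * ν') := fun i hi => by
    rw [← mul_inv_eq_iff_eq_mul]
    exact mt_inj h (by rw [mon_conj_sg hg (hB i), hi, hB])
  have := key_std h2 h hw ht hd hB (i := 0) (j := 4) (by decide) (cm 0 (by decide))
    (cm 4 (by decide)) (a := l) (b := -1) (by simp [hg, mon, Equiv.swap_apply_def])
    (by simp [hg, mon, Equiv.swap_apply_def]) μ1 (by simp) (n := s + 1)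
    (by rw [hord, pow_succ', pow_mul, neg_one_sq, one_pow])
  rw [neg_one_sq, pow_two, mul_self_eq_one_iff] at this
  rcases this with rfl | rfl
  · refine ⟨ν' * (d 0 * d 2), ?_⟩
    have : sg F 0 * sg F 2 = diagonal ![-1, 1, (-1)⁻¹, 1, 1] := by
      rw [sg, sg, diagonal_mul_diagonal]
      congr 1
      funext k
      fin_cases k <;> simp
    rw [mt_mul, mt_mul, hν', hB, hB, this, nu_diag, one_mul]
  · exact ⟨ν', hν'⟩

theorem be_mul (μ μ' : F) : be μ' * be μ = diagonal ![μ * μ'⁻¹, μ⁻¹ * μ', 1, 1, 1] := by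
  rw [be, be, mon_mul, Equiv.swap_mul_self, mon_one]
  congr 1
  funext k
  fin_cases k <;> simp [Equiv.swap_apply_def, mul_comm]

theorem be_diag (μ a : F) : be μ * diagonal ![a, a⁻¹, 1, 1, 1] = be (μ * a) := by
  rw [be, be, ← mon_one, mon_mul, mul_one]
  congr 1
  funext k
  fin_cases k <;> simp [mul_comm]

theorem pm01 : pm F (Equiv.swap 0 1) = be (-1) := by
  rw [pm, be]
  congr 1
  funext k
  fin_cases k <;> simp

theorem tau_be (μ : F) : pm F (Equiv.swap 0 2 * Equiv.swap 1 3) * be μ =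
    ga μ * pm F (Equiv.swap 0 2 * Equiv.swap 1 3) := by
  rw [pm, be, ga, mon_mul, mon_mul]
  congr 1
  · decide
  funext k
  fin_cases k <;> simp [Equiv.swap_apply_def]

theorem be_neg (μ : F) : be μ * be (-μ) = be (-μ) * be μ := by
  simp [be_mul, inv_neg, mul_comm]

theorem be_cj {i μ : F} (hi : i * i = -1) (hμ : μ ≠ 0) :
    be (i * μ) * be μ = be (-μ) * be (i * μ) ∧ be (i * μ) * be (-μ) = be μ * be (i * μ) ∧
      be μ * be (i * μ) = diagonal ![i, -i, 1, 1, 1] := by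
  have e : i⁻¹ = -i := inv_eq_of_mul_eq_one_right (by linear_combination -hi)
  have e1 : μ * (μ⁻¹ * i) = i := by field_simp
  have e2 : μ⁻¹ * (i * μ) = i := by field_simp
  have e3 : i * μ * μ⁻¹ = i := by field_simp
  have e4 : μ⁻¹ * i * μ = i := by field_simp
  simp [be_mul, inv_neg, e, e1, e2, e3, e4]

theorem be_inj {μ μ' : F} (h : be μ = be μ') : μ = μ' := by
  simpa [be, mon] using congrFun (congrFun h 1) 0

theorem ga_inj {μ μ' : F} (h : ga μ = ga μ') : μ = μ' := by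
  simpa [ga, mon] using congrFun (congrFun h 3) 2

end B54

open BH B54

variable [Finite G]

theorem key (h2 : (2 : F) ≠ 0) (h : Function.Injective ρ) (hw : AllW ρ) (ht : Thin ρ)
    {d : Fin 5 → G} (hd : Fr ρ d) {i j : Fin 5} (hij : i ≠ j) {v φ w ψ : V5 F}
    (hi : Ng ρ (d i) v φ) (hj : Ng ρ (d j) w ψ) {g : G} (ci : g * d i = d i * g)
    (cj : g * d j = d j * g) {a b : F} (ha : mt ρ g *ᵥ v = a • v) (hb : mt ρ g *ᵥ w = b • w)
    {n : ℕ} (hn : a ^ 2 ^ n = b ^ 2 ^ n) : a ^ 2 = b ^ 2 := by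
  obtain ⟨B, hB⟩ := hd.exists_std h2 h
  have tr : ∀ {u : V5 F} {c : F}, mt ρ g *ᵥ u = c • u →
      mt (cb ρ B) g *ᵥ (((B⁻¹ : GL (Fin 5) F) : M5 F) *ᵥ u) =
        c • (((B⁻¹ : GL (Fin 5) F) : M5 F) *ᵥ u) := fun {u c} e => by
    rw [mt_cb, mulVec_mulVec, Matrix.mul_assoc, Units.mul_inv, Matrix.mul_one, ← mulVec_mulVec, e,
      mulVec_smul]
  obtain ⟨a1, a0⟩ := eig h2 (hB i) (hi.cb B) (tr ha)
  obtain ⟨b1, b0⟩ := eig h2 (hB j) (hj.cb B) (tr hb)
  exact key_std h2 (cb_injective h B) ((allW_cb B).2 hw) ((thin_cb B).2 ht) (hd.cb B) hB hij ci cj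
    a1 b1 a0 b0 hn

theorem sw (h2 : (2 : F) ≠ 0) (h : Function.Injective ρ) (hw : AllW ρ) (ht : Thin ρ)
    {d : Fin 5 → G} (hd : Fr ρ d) {x : G} (hx : x * x = 1)
    (hp : ∀ k, x * d k * x⁻¹ = d ((Equiv.swap 0 2 * Equiv.swap 1 3 : Equiv.Perm (Fin 5)) k))
    {v φ : V5 F} (h0 : Ng ρ (d 0) v φ) :
    ∃ ν, Ng ρ ν ((2 : F)⁻¹ • (v - mt ρ x *ᵥ v)) (φ - φ ᵥ* mt ρ x) := by
  obtain ⟨B, hB⟩ := hd.exists_std h2 h
  obtain ⟨ξ, hξ⟩ := mon_of_perm h2 hB hp
  obtain ⟨x0, ν, hν⟩ := sw_std h2 (cb_injective h B) ((allW_cb B).2 hw) ((thin_cb B).2 ht)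
    (hd.cb B) hB hx hξ
  have h1 := h0.cb B
  obtain ⟨s1, s2, s3⟩ := supp h2 (hB 0) h1
  have key : ∀ v φ : V5 F, (∀ k, k ≠ 0 → v k = 0) → (∀ k, k ≠ 0 → φ k = 0) → v 0 * φ 0 = 2 →
      Ng (cb ρ B) ν ((2 : F)⁻¹ • (v - mt (cb ρ B) x *ᵥ v)) (φ - φ ᵥ* mt (cb ρ B) x) := by
    intro v φ s1 s2 s3
    have e1 : (2 : F)⁻¹ • (v - mt (cb ρ B) x *ᵥ v) =
        ![2⁻¹ * v 0, 0, -(2⁻¹ * v 0 * ξ 0), 0, 0] := by
      funext k
      fin_cases k <;> simp [hξ, mon, mulVec, dotProduct, Fin.sum_univ_five, Equiv.swap_apply_def,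
        s1 1, s1 2, s1 3, s1 4]
      ring
    have e2 : φ - φ ᵥ* mt (cb ρ B) x = ![φ 0, 0, -(φ 0 * ξ 2), 0, 0] := by
      funext k
      fin_cases k <;> simp [hξ, mon, vecMul, dotProduct, Fin.sum_univ_five, Equiv.swap_apply_def,
        s2 1, s2 2, s2 3, s2 4]
    rw [e1, e2]
    refine ⟨hν.trans ?_, ?_⟩
    · ext k l
      fin_cases k <;> fin_cases l <;> simp [nu, mon, vecMulVec_apply, Equiv.swap_apply_def] <;>
        field_simp
      · linear_combination -s3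
      · linear_combination -ξ 2 * s3
      · linear_combination -ξ 0 * s3
      · linear_combination -s3 - v 0 * φ 0 * x0
    · simp [dotProduct, Fin.sum_univ_five]
      field_simp
      linear_combination 2 * s3 + v 0 * φ 0 * x0
  have h3 := (key _ _ s1 s2 s3).cb B⁻¹
  rw [cb_cb, mul_inv_cancel, cb_one] at h3
  refine ⟨ν, ?_⟩
  convert h3 using 1
  · simp [mt_cb, mulVec_smul, mulVec_sub, Matrix.mul_assoc]
  · simp [mt_cb, sub_vecMul, Matrix.mul_assoc]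

variable {S : Sylow 2 G} {c : G}

theorem BS.mix (h : BS ρ S c) (hs : Std ρ S) (hw : AllW ρ) {i : F} (hi : i * i = -1)
    (hc : Tor ρ S ![i, -i, 1, 1, 1]) : ∃ t, Tor ρ S t ∧
      ∀ a : F, Tor ρ S ![a, a⁻¹, 1, 1, 1] → t 0 ≠ a ^ 2 * t 1 := by
  have inj := h.hy.inj
  have m1 : (-1 : F) ≠ 1 := fun z => h.two (by linear_combination -z)
  let C : F → Prop := fun a => Tor ρ S ![a, a⁻¹, 1, 1, 1]
  have C0 : ∀ a, C a → a ≠ 0 := by
    rintro a ⟨s, -, e⟩
    exact ne_zero_of_mon (e.trans (mon_one _).symm) 0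
  have Cm : ∀ a b, C a → C b → C (a * b) := by
    rintro a b ⟨s, hs, e⟩ ⟨t, ht, e'⟩
    refine ⟨s * t, mul_mem hs ht, ?_⟩
    rw [mt_mul, e, e', diagonal_mul_diagonal]
    congr 1
    funext k
    fin_cases k <;> simp [mul_comm]
  have C1 : C 1 := ⟨1, one_mem _, by
    rw [mt_one, ← diagonal_one]
    congr 1
    funext k
    fin_cases k <;> simp⟩
  have Cp : ∀ a, C a → ∀ k : ℕ, C (a ^ k) := fun a ha k => by
    induction k with
    | zero => simpa using C1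
    | succ k ih => rw [pow_succ]; exact Cm _ _ ih ha
  obtain ⟨N, hN⟩ := S.isPGroup'.exists_card_eq
  have CN : ∀ a, C a → a ^ 2 ^ N = 1 := by
    rintro a ⟨s, hs, e⟩
    have h1 : s ^ 2 ^ N = 1 := by
      rw [← hN]
      exact congrArg Subtype.val (pow_card_eq_one' (x := (⟨s, hs⟩ : (S : Subgroup G))))
    have h2 := mt_pow (ρ := ρ) s (2 ^ N)
    rw [h1, mt_one, e, diagonal_pow] at h2
    simpa using (congrFun (congrFun h2 0) 0).symm
  have Cv : ∀ a, C a → C a⁻¹ := fun a ha => by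
    have := Cp a ha (2 ^ N - 1)
    rwa [← inv_eq_of_mul_eq_one_right (show a * a ^ (2 ^ N - 1) = 1 by
      rw [← pow_succ', Nat.sub_add_cancel Nat.one_le_two_pow, CN a ha])] at this
  have Ci : C i := by
    rwa [← inv_eq_of_mul_eq_one_right (show i * -i = 1 by linear_combination -hi)] at hc
  have Cn : ∀ a, C a → C (-a) := fun a ha => by
    have := Cm _ _ (Cm _ _ Ci Ci) ha
    rwa [hi, neg_one_mul] at this
  obtain ⟨ζ, Cζ, hζ⟩ : ∃ ζ, C ζ ∧ ∀ a, C a → ζ ≠ a ^ 2 := by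
    by_contra hn
    push Not at hn
    have : ∀ n : ℕ, ∃ a, C a ∧ -1 = a ^ 2 ^ n := fun n => by
      induction n with
      | zero => exact ⟨-1, Cn 1 C1, by simp⟩
      | succ n ih =>
        obtain ⟨a, ha, e⟩ := ih
        obtain ⟨b, hb, rfl⟩ := hn a ha
        exact ⟨b, hb, by rw [e, ← pow_mul, ← pow_succ']⟩
    obtain ⟨a, ha, e⟩ := this N
    exact m1 (e.trans (CN a ha))
  have exB : ∀ μ, C μ → ∃ b ∈ S, mt ρ b = be μ := fun μ hμ => by
    obtain ⟨p, hp, e⟩ := hs.pm (Equiv.swap 0 1) (by decide)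
    obtain ⟨s, hs', e'⟩ := Cn μ hμ
    exact ⟨p * s, mul_mem hp hs', by rw [mt_mul, e, e', pm01, be_diag, neg_mul_neg, one_mul]⟩
  obtain ⟨τ, hτ, eτ⟩ := hs.pm (Equiv.swap 0 2 * Equiv.swap 1 3) (by decide)
  have τi : τ⁻¹ = τ := inv_eq_of_mul_eq_one_left (mt_inj inj (by
    rw [mt_mul, eτ, pm_mul, mt_one, ← pm_one]
    congr 1
    decide))
  have toG : ∀ {b : G} {μ : F}, mt ρ b = be μ → mt ρ (τ * b * τ⁻¹) = ga μ := fun e => by
    rw [mt_mul, mt_mul, eτ, e, tau_be, ← eτ, Matrix.mul_assoc, mt_mul_inv, Matrix.mul_one]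
  have n1 : ∀ {b : G} {μ : F}, C μ → mt ρ b = be μ → N1 ρ b := fun hμ e =>
    Or.inr (Or.inr ⟨_, C0 _ hμ, e⟩)
  have n2 : ∀ {b : G} {μ : F}, C μ → mt ρ b = be μ → N2 ρ (τ * b * τ⁻¹) := fun hμ e =>
    Or.inr (Or.inr ⟨_, C0 _ hμ, toG e⟩)
  have tri : ∀ μ, C μ → ∃ x ∈ S, ∃ y ∈ S, ∃ z ∈ S, mt ρ x = be μ ∧ mt ρ y = be (-μ) ∧
      mt ρ z = be (i * μ) ∧ x * y = y * x ∧ x ≠ y ∧ z * x * z⁻¹ = y ∧ z * y * z⁻¹ = x ∧
      mt ρ (x * z) = diagonal ![i, -i, 1, 1, 1] := fun μ hμ => by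
    obtain ⟨x, hx, ex⟩ := exB μ hμ
    obtain ⟨y, hy, ey⟩ := exB _ (Cn μ hμ)
    obtain ⟨z, hz, ez⟩ := exB _ (Cm _ _ Ci hμ)
    obtain ⟨a1, a2, a3⟩ := be_cj hi (C0 μ hμ)
    refine ⟨x, hx, y, hy, z, hz, ex, ey, ez, mt_inj inj ?_, fun e => ?_,
      mul_inv_eq_iff_eq_mul.2 (mt_inj inj ?_), mul_inv_eq_iff_eq_mul.2 (mt_inj inj ?_), ?_⟩
    · rw [mt_mul, mt_mul, ex, ey, be_neg]
    · have := be_inj (ex.symm.trans (e ▸ ey))
      exact mul_ne_zero h.two (C0 μ hμ) (by linear_combination this)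
    · rw [mt_mul, mt_mul, ex, ey, ez, a1]
    · rw [mt_mul, mt_mul, ex, ey, ez, a2]
    · rw [mt_mul, ex, ez, a3]
  obtain ⟨x, hx, y, hy, z, hz, ex, ey, ez, c1, d1, p1, q1, r1⟩ := tri 1 C1
  obtain ⟨x', hx', y', hy', z', hz', ex', ey', ez', c2, d2, p2, q2, r2⟩ := tri ζ Cζ
  have nx := n1 C1 ex
  have ny := n1 (Cn _ C1) ey
  have nz := n1 (Cm _ _ Ci C1) ez
  have nx' := n2 Cζ ex'
  have ny' := n2 (Cn _ Cζ) ey'
  have nz' := n2 (Cm _ _ Ci Cζ) ez'
  have mx' := mul_mem (mul_mem hτ hx') (inv_mem hτ)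
  have my' := mul_mem (mul_mem hτ hy') (inv_mem hτ)
  have mz' := mul_mem (mul_mem hτ hz') (inv_mem hτ)
  have c2' : τ * x' * τ⁻¹ * (τ * y' * τ⁻¹) = τ * y' * τ⁻¹ * (τ * x' * τ⁻¹) := by
    simp only [conj_mul, c2]
  have ne12 : ∀ {a b : G}, N1 ρ a → N2 ρ b → a ≠ b := fun ha hb e => ha.not_N2 h.two (e ▸ hb)
  have ne1 : ∀ {a : G}, N1 ρ a → a ≠ c := fun ha e => ha.ne_sg h.two (e ▸ h.eq)
  have ne2 : ∀ {a : G}, N2 ρ a → a ≠ c := fun ha e => ha.ne_sg h.two (e ▸ h.eq)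
  have d2' : τ * x' * τ⁻¹ ≠ τ * y' * τ⁻¹ := fun e => d2 (by simpa using e)
  have fr : Fr ρ ![x, y, τ * x' * τ⁻¹, τ * y' * τ⁻¹, c] := by
    refine ⟨fun k => ?_, fun k l => ?_, fun k l e => ?_⟩
    · fin_cases k
      exacts [nx.isNg, ny.isNg, nx'.isNg, ny'.isNg, isNg_sg h.eq]
    · fin_cases k <;> fin_cases l
      exacts [rfl, c1, nx.comm inj nx', nx.comm inj ny', h.comm hx, c1.symm, rfl, ny.comm inj nx',
        ny.comm inj ny', h.comm hy, (nx.comm inj nx').symm, (ny.comm inj nx').symm, rfl, c2',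
        h.comm mx', (nx.comm inj ny').symm, (ny.comm inj ny').symm, c2'.symm, rfl, h.comm my',
        (h.comm hx).symm, (h.comm hy).symm, (h.comm mx').symm, (h.comm my').symm, rfl]
    · by_contra hne
      fin_cases k <;> fin_cases l
      exacts [hne rfl, d1 e, ne12 nx nx' e, ne12 nx ny' e, ne1 nx e, d1 e.symm, hne rfl,
        ne12 ny nx' e, ne12 ny ny' e, ne1 ny e, ne12 nx nx' e.symm, ne12 ny nx' e.symm, hne rfl,
        d2' e, ne2 nx' e, ne12 nx ny' e.symm, ne12 ny ny' e.symm, d2' e.symm, hne rfl, ne2 ny' e,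
        ne1 nx e.symm, ne1 ny e.symm, ne2 nx' e.symm, ne2 ny' e.symm, hne rfl]
  obtain ⟨B, hB, hpm, eν, eν'⟩ := weyl_of_edges h.two inj fr (hw _ fr) nz.isNg nz'.isNg
    (fun k => by
      fin_cases k
      exacts [p1, q1, mul_inv_eq_iff_eq_mul.2 (nz.comm inj nx'),
        mul_inv_eq_iff_eq_mul.2 (nz.comm inj ny'), mul_inv_eq_iff_eq_mul.2 (h.comm hz)])
    (fun k => by
      fin_cases k
      · exact mul_inv_eq_iff_eq_mul.2 (nx.comm inj nz').symm
      · exact mul_inv_eq_iff_eq_mul.2 (ny.comm inj nz').symm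
      · show τ * z' * τ⁻¹ * (τ * x' * τ⁻¹) * (τ * z' * τ⁻¹)⁻¹ = τ * y' * τ⁻¹
        rw [← p2]; group
      · show τ * z' * τ⁻¹ * (τ * y' * τ⁻¹) * (τ * z' * τ⁻¹)⁻¹ = τ * x' * τ⁻¹
        rw [← q2]; group
      · exact mul_inv_eq_iff_eq_mul.2 (h.comm mz'))
  obtain ⟨σ, eσ⟩ := hpm (Equiv.swap 0 2 * Equiv.swap 1 3)
  have inj' := cb_injective inj B
  have s1 : σ * x * σ⁻¹ = τ * x' * τ⁻¹ := mt_inj inj' ((mon_conj_sg eσ (hB 0)).trans (hB 2).symm)
  have s2 : σ * (τ * x' * τ⁻¹) * σ⁻¹ = x := mt_inj inj' ((mon_conj_sg eσ (hB 2)).trans (hB 0).symm)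
  have s3 : σ * z * σ⁻¹ = τ * z' * τ⁻¹ := mul_inv_eq_iff_eq_mul.2 (mt_inj inj' (by
    rw [mt_mul, mt_mul _ σ, eσ, eν, eν', pm_mul, pm_mul]
    congr 1
    decide))
  have s4 : σ * (τ * z' * τ⁻¹) * σ⁻¹ = z := mul_inv_eq_iff_eq_mul.2 (mt_inj inj' (by
    rw [mt_mul, mt_mul _ σ, eσ, eν, eν', pm_mul, pm_mul]
    congr 1
    decide))
  have g1 : τ⁻¹ * σ * x = x' * (τ⁻¹ * σ) := by
    rw [mul_assoc, mul_inv_eq_iff_eq_mul.1 s1]; group
  have g2 : τ⁻¹ * σ * (x * z) = x' * z' * (τ⁻¹ * σ) := by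
    rw [← mul_assoc, g1, mul_assoc, mul_assoc, mul_inv_eq_iff_eq_mul.1 s3]; group
  have g3 : τ⁻¹ * σ * (τ⁻¹ * (x' * z') * τ) = τ⁻¹ * (x * z) * τ * (τ⁻¹ * σ) := by
    have e : τ⁻¹ * (x' * z') * τ = τ * (x' * z') * τ⁻¹ := by rw [τi]
    rw [e, ← s2, ← s4]
    group
  generalize τ⁻¹ * σ = g at g1 g2 g3
  have k1 := congrArg (mt ρ) g1
  have k2 := congrArg (mt ρ) g2
  have k3 := congrArg (mt ρ) g3
  rw [mt_mul, mt_mul, ex, ex'] at k1
  rw [mt_mul, mt_mul _ g, r1, r2] at k2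
  rw [mt_mul, mt_mul _ g, conj_diag eτ r1, conj_diag eτ r2] at k3
  have i1 : i ≠ 1 := fun e => m1 (by rw [← hi, e, one_mul])
  have i2 : -i ≠ 1 := fun e => m1 (by linear_combination -hi + (1 - i) * e)
  have i3 : i ≠ -i := fun e => mul_ne_zero h.two (C0 i Ci) (by linear_combination e)
  have hg : mt ρ g = diagonal fun k => mt ρ g k k := by
    ext k l
    by_cases e : k = l
    · simp [e]
    rw [diagonal_apply_ne _ e]
    by_contra hn
    have a1 := fun a => hn (entry_eq_zero k2 a)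
    have a2 := fun a => hn (entry_eq_zero k3 a)
    fin_cases k <;> fin_cases l <;>
      simp [Equiv.swap_apply_def, i1, i2, i3, i1.symm, i2.symm, i3.symm] at e a1 a2
  generalize (fun k => mt ρ g k k) = t at hg
  have ht : t 1 = ζ * t 0 := by
    rw [hg] at k1
    simpa [be, mon] using congrFun (congrFun k1 1) 0
  obtain ⟨s, o, ⟨k, rfl⟩, hso⟩ := Nat.exists_eq_two_pow_mul_odd (orderOf_pos g).ne'
  have hg' : mt ρ (g ^ (2 * k + 1)) = diagonal (t ^ (2 * k + 1)) := by rw [mt_pow, hg, diagonal_pow]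
  refine ⟨_, ⟨_, tor_mem inj (fun s hs' => ?_) hg' (n := s) ?_, hg'⟩, fun a ha e => ?_⟩
  · obtain ⟨π, a, -, e⟩ := h.mono s hs'
    exact ⟨π, a, e⟩
  · rw [← pow_mul, mul_comm, ← hso, pow_orderOf_eq_one]
  · refine hζ _ (Cv _ (Cm _ _ ha (Cp _ Cζ k))) ?_
    have t0 : t 0 ^ (2 * k + 1) ≠ 0 := pow_ne_zero _ (ne_zero_of_mon (hg.trans (mon_one _).symm) 0)
    simp only [Pi.pow_apply, ht, mul_pow] at e
    rw [inv_pow]
    refine eq_inv_of_mul_eq_one_left (mul_right_cancel₀ t0 ?_)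
    linear_combination -e

end CfsgLib.D5
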