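import Cfsg.Agent.Lib.D5.B56

/-!
B55: the diagonal part of the Sylow subgroup.  See `plans/D5.md`.
-/

set_option autoImplicit false
set_option linter.unusedSectionVars false

namespace CfsgLib.D5

open Matrix Cfsg Cfsg.Geo CfsgLib.Asch Subgroup
open scoped MatrixGroups

variable {G F : Type*} [Group G] [Field F] {ρ : G →* S5 F}

namespace B55

/-- `diag (a, b, c, d, e)` belongs to `S` -/
def T (ρ : G →* S5 F) (S : Subgroup G) (a b c d e : F) : Prop := Tor ρ S ![a, b, c, d, e]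

/-- `diag (a, a⁻¹, 1, 1, 1)` belongs to `S` -/
def C (ρ : G →* S5 F) (S : Subgroup G) (a : F) : Prop := T ρ S a a⁻¹ 1 1 1

section basic
variable {S : Subgroup G} {a b c d e a' b' c' d' e' : F}

theorem vec_eta (t : V5 F) : t = ![t 0, t 1, t 2, t 3, t 4] := by
  funext j; fin_cases j <;> rfl

theorem T.of {t : V5 F} (h : Tor ρ S t) : T ρ S (t 0) (t 1) (t 2) (t 3) (t 4) := by
  rw [T, ← vec_eta]; exact h

theorem T.congr (h : T ρ S a b c d e) (ha : a = a') (hb : b = b') (hc : c = c') (hd : d = d')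
    (he : e = e') : T ρ S a' b' c' d' e' := by
  subst ha hb hc hd he; exact h

theorem T.mul (h : T ρ S a b c d e) (h' : T ρ S a' b' c' d' e') :
    T ρ S (a * a') (b * b') (c * c') (d * d') (e * e') := by
  obtain ⟨s, hs, es⟩ := h
  obtain ⟨r, hr, er⟩ := h'
  refine ⟨s * r, mul_mem hs hr, ?_⟩
  rw [mt_mul, es, er, diagonal_mul_diagonal]
  congr 1
  funext j; fin_cases j <;> rfl

theorem T.one : T ρ S 1 1 1 1 1 := by
  refine ⟨1, one_mem _, ?_⟩
  rw [mt_one, ← diagonal_one]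
  congr 1
  funext j; fin_cases j <;> rfl

theorem T.pow (h : T ρ S a b c d e) (n : ℕ) : T ρ S (a ^ n) (b ^ n) (c ^ n) (d ^ n) (e ^ n) := by
  induction n with
  | zero => simpa using T.one
  | succ n ih => simpa only [pow_succ] using ih.mul h

theorem T.det (h : T ρ S a b c d e) : a * b * c * d * e = 1 := by
  obtain ⟨s, -, es⟩ := h
  simpa [Fin.prod_univ_five] using BH.prod_diag es

theorem T.ne (h : T ρ S a b c d e) : a ≠ 0 ∧ b ≠ 0 ∧ c ≠ 0 ∧ d ≠ 0 ∧ e ≠ 0 := by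
  have := h.det
  refine ⟨?_, ?_, ?_, ?_, ?_⟩ <;> rintro rfl <;> simp at this

theorem T.inv (h : T ρ S a b c d e) : T ρ S a⁻¹ b⁻¹ c⁻¹ d⁻¹ e⁻¹ := by
  obtain ⟨h0, h1, h2, h3, h4⟩ := h.ne
  obtain ⟨s, hs, es⟩ := h
  refine ⟨s⁻¹, inv_mem hs, BN.mt_inv_eq ?_⟩
  rw [es, diagonal_mul_diagonal, ← diagonal_one]
  congr 1
  funext j; fin_cases j <;> simp [*]

theorem tor_perm (hs : Std ρ S) {π : Equiv.Perm (Fin 5)} (hπ : P8 π) {t : V5 F}
    (h : Tor ρ S t) : Tor ρ S fun i => t (π i) := by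
  obtain ⟨s, hs', es⟩ := h
  obtain ⟨n, hn, en⟩ := hs.pm π hπ
  exact ⟨n⁻¹ * s * n, mul_mem (mul_mem (inv_mem hn) hs') hn, BH.conj_diag en es⟩

theorem T.sw (hs : Std ρ S) (h : T ρ S a b c d e) : T ρ S b a c d e := by
  have := T.of (tor_perm hs (π := Equiv.swap 0 1) (by decide) h)
  simpa [Equiv.swap_apply_def] using this

theorem T.fl (hs : Std ρ S) (h : T ρ S a b c d e) : T ρ S c d a b e := by
  have := T.of (tor_perm hs (π := Equiv.swap 0 2 * Equiv.swap 1 3) (by decide) h)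
  simpa [Equiv.swap_apply_def] using this

theorem C.ne (h : C ρ S a) : a ≠ 0 := (T.ne h).1

theorem C.mul (h : C ρ S a) (h' : C ρ S b) : C ρ S (a * b) :=
  (T.mul h h').congr rfl (mul_inv _ _).symm (mul_one _) (mul_one _) (mul_one _)

theorem C.inv (h : C ρ S a) : C ρ S a⁻¹ :=
  (T.inv h).congr rfl rfl inv_one inv_one inv_one

theorem C.pow (h : C ρ S a) (n : ℕ) : C ρ S (a ^ n) :=
  (T.pow h n).congr rfl (inv_pow _ _) (one_pow _) (one_pow _) (one_pow _)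

theorem C.two (hs : Std ρ S) (h : C ρ S a) (h' : C ρ S b) : T ρ S a a⁻¹ b b⁻¹ 1 :=
  (T.mul h (T.fl hs h')).congr (mul_one _) (mul_one _) (one_mul _) (one_mul _) (mul_one _)

theorem T.ratio (hs : Std ρ S) (h : T ρ S a b c d e) : C ρ S (a * b⁻¹) := by
  obtain ⟨h0, h1, h2, h3, h4⟩ := h.ne
  refine (h.mul (h.sw hs).inv).congr rfl ?_ ?_ ?_ ?_ <;> field_simp

end basic

/-- the permutations of the frame -/
def fp : Fin 5 → Equiv.Perm (Fin 5) :=
  ![Equiv.swap 0 1, Equiv.swap 0 1, Equiv.swap 2 3, Equiv.swap 2 3, 1]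

/-- the signs of the frame -/
def fa : Fin 5 → Fin 5 → ℤ :=
  ![![1, 1, -1, -1, -1], ![-1, -1, -1, -1, -1], ![-1, -1, 1, 1, -1], ![-1, -1, -1, -1, -1],
    ![-1, -1, -1, -1, 1]]

theorem fp_comm : ∀ i j, fp i * fp j = fp j * fp i ∧
    ∀ k, fa i (fp j k) * fa j k = fa j (fp i k) * fa i k := by decide

theorem fp_inj : ∀ i j, fp i = fp j → i = j ∨ ∃ k, fa i k = -fa j k ∧ fa i k * fa i k = 1 := by
  decide

theorem fa_ne : ∀ i k, fa i k * fa i k = 1 := by decide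

variable [Finite G] {S : Sylow 2 G} {c : G}

theorem exists_fr (h : BS ρ S c) (hs : Std ρ S) (hz : C ρ S (-1)) :
    ∃ d : Fin 5 → G, Fr ρ d ∧ (∀ i, mt ρ (d i) = mon (fp i) fun k => (fa i k : F)) ∧
      mt ρ (d 2) = ga 1 ∧ mt ρ (d 4) = sg F 4 := by
  obtain ⟨b, -, eb⟩ := hs.pm (Equiv.swap 0 1) (by decide)
  obtain ⟨g, -, eg⟩ := hs.pm (Equiv.swap 2 3) (by decide)
  obtain ⟨y, -, ey⟩ := T.fl hs hz
  obtain ⟨z, -, ez⟩ := hz
  have s01 : Equiv.Perm.sign (Equiv.swap (0 : Fin 5) 1) = -1 := by decide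
  have s23 : Equiv.Perm.sign (Equiv.swap (2 : Fin 5) 3) = -1 := by decide
  have e1 : mt ρ b = be (-1) := by
    rw [eb, pm, be, s01]
    refine BN.mon_congr rfl fun j => ?_
    fin_cases j <;> simp
  have e3 : mt ρ g = ga (-1) := by
    rw [eg, pm, ga, s23]
    refine BN.mon_congr rfl fun j => ?_
    fin_cases j <;> simp
  have e0 : mt ρ (b * z) = be 1 := by
    rw [mt_mul, e1, ez, BN.be_mul_diag]; simp
  have e2 : mt ρ (g * y) = ga 1 := by
    rw [mt_mul, e3, ey, ga, ga, ← mon_one, mon_mul]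
    refine BN.mon_congr (by decide) fun j => ?_
    fin_cases j <;> simp
  have key : ∀ i, mt ρ (![b * z, b, g * y, g, c] i) = mon (fp i) fun k => (fa i k : F) := by
    intro i
    fin_cases i
    · refine e0.trans (BN.mon_congr rfl fun j => ?_); fin_cases j <;> simp [fa]
    · refine e1.trans (BN.mon_congr rfl fun j => ?_); fin_cases j <;> simp [fa]
    · refine e2.trans (BN.mon_congr rfl fun j => ?_); fin_cases j <;> simp [fa]
    · refine e3.trans (BN.mon_congr rfl fun j => ?_); fin_cases j <;> simp [fa]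
    · refine (h.eq.trans (BN.sg_eq_mon 4)).trans (BN.mon_congr rfl fun j => ?_)
      fin_cases j <;> simp [fa]
  refine ⟨![b * z, b, g * y, g, c], ⟨fun i => ?_, fun i j => mt_inj h.hy.inj ?_, fun i j e => ?_⟩,
    key, e2, h.eq⟩
  · fin_cases i
    · exact N1.isNg (Or.inr (Or.inr ⟨1, one_ne_zero, e0⟩))
    · exact N1.isNg (Or.inr (Or.inr ⟨-1, by simp, e1⟩))
    · exact N2.isNg (Or.inr (Or.inr ⟨1, one_ne_zero, e2⟩))
    · exact N2.isNg (Or.inr (Or.inr ⟨-1, by simp, e3⟩))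
    · exact isNg_sg h.eq
  · rw [mt_mul, mt_mul, key, key, mon_mul, mon_mul]
    refine BN.mon_congr (fp_comm i j).1 fun k => ?_
    exact_mod_cast congrArg (Int.cast : ℤ → F) ((fp_comm i j).2 k)
  · have e' := congrArg (mt ρ) e
    rw [key, key] at e'
    have hne : ∀ k, (fa i k : F) ≠ 0 := fun k e0 => by
      have : ((fa i k * fa i k : ℤ) : F) = 1 := by rw [fa_ne]; simp
      rw [Int.cast_mul, e0, zero_mul] at this
      exact zero_ne_one this
    obtain ⟨p1, p2⟩ := mon_inj hne e'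
    rcases fp_inj i j p1 with r | ⟨k, r, -⟩
    · exact r
    · have := congrFun p2 k
      rw [r, Int.cast_neg] at this
      have h3 : (2 : F) * (fa j k : F) = 0 := by linear_combination -this
      have h4 := hne k
      rw [r, Int.cast_neg, neg_ne_zero] at h4
      exact absurd h3 (mul_ne_zero h.two h4)

theorem comm_fr (h : BS ρ S c) {d : Fin 5 → G}
    (hd : ∀ i, mt ρ (d i) = mon (fp i) fun k => (fa i k : F)) {g : G} {t : V5 F}
    (hg : mt ρ g = diagonal t) {i : Fin 5} (ht : ∀ k, t (fp i k) = t k) : g * d i = d i * g := by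
  refine mt_inj h.hy.inj ?_
  rw [mt_mul, mt_mul, hd, hg, ← mon_one, mon_mul, mon_mul]
  refine BN.mon_congr (by rw [one_mul, mul_one]) fun k => ?_
  simp [ht, mul_comm]

theorem exists_exp (S : Sylow 2 G) : ∃ N : ℕ, ∀ s ∈ S, s ^ 2 ^ N = 1 := by
  obtain ⟨N, hN⟩ := IsPGroup.iff_card.1 S.2
  refine ⟨N, fun s hs => ?_⟩
  have := pow_card_eq_one' (G := S) (x := ⟨s, hs⟩)
  rw [hN] at this
  exact congrArg Subtype.val this

theorem T.exp {N : ℕ} (hN : ∀ s ∈ S, s ^ 2 ^ N = 1) {a b c d e : F} (h : T ρ S a b c d e) :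
    a ^ 2 ^ N = 1 ∧ c ^ 2 ^ N = 1 ∧ e ^ 2 ^ N = 1 := by
  obtain ⟨s, hs, es⟩ := h
  have := mt_pow (ρ := ρ) s (2 ^ N)
  rw [hN s hs, mt_one, es, diagonal_pow, ← diagonal_one] at this
  have h1 := diagonal_injective this
  exact ⟨(congrFun h1 0).symm, (congrFun h1 2).symm, (congrFun h1 4).symm⟩

/-- scalars on both planes are signs -/
theorem thin_sc (h : BS ρ S c) (hs : Std ρ S) (ht : Thin ρ) (hz : C ρ S (-1)) {x y e : F}
    (hx : T ρ S x x y y e) : x * x = 1 ∧ y * y = 1 ∧ e = 1 := by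
  obtain ⟨d, hd, ed, -⟩ := exists_fr h hs hz
  obtain ⟨N, hN⟩ := exists_exp S
  have hdet := hx.det
  obtain ⟨s, hs', es⟩ := hx
  have := ht d hd s N (hN s hs') fun i => comm_fr h ed es fun k => by
    fin_cases i <;> fin_cases k <;> simp [fp, Equiv.swap_apply_def]
  have h1 := congrArg (mt ρ) this
  rw [mt_mul, es, diagonal_mul_diagonal, mt_one, ← diagonal_one] at h1
  have h2 := diagonal_injective h1
  have a0 : x * x = 1 := congrFun h2 0
  have a2 : y * y = 1 := congrFun h2 2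
  refine ⟨a0, a2, ?_⟩
  linear_combination hdet - y * y * e * a0 - e * a2

/-- a scalar on the second plane agrees with the last entry up to sign -/
theorem key_sc (h : BS ρ S c) (hs : Std ρ S) (hw : AllW ρ) (ht : Thin ρ) (hz : C ρ S (-1))
    {a b y e : F} (hx : T ρ S a b y y e) : y ^ 2 = e ^ 2 := by
  obtain ⟨d, hd, ed, e2, e4⟩ := exists_fr h hs hz
  obtain ⟨N, hN⟩ := exists_exp S
  have hexp := hx.exp hN
  obtain ⟨s, hs', es⟩ := hx
  have n2 : Ng ρ (d 2) ![0, 0, 1, 1, 0] ![0, 0, 1, 1, 0] := by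
    refine ⟨?_, ?_⟩
    · rw [e2]
      ext i j
      fin_cases i <;> fin_cases j <;> simp [ga, mon, vecMulVec, Equiv.swap_apply_def]
    · simp [dotProduct, Fin.sum_univ_five]; norm_num
  have n4 : Ng ρ (d 4) ![0, 0, 0, 0, 1] ![0, 0, 0, 0, 2] := by
    refine ⟨?_, ?_⟩
    · rw [e4]
      ext i j
      fin_cases i <;> fin_cases j <;> simp [sg, vecMulVec] <;> norm_num
    · simp [dotProduct, Fin.sum_univ_five]
  refine key h.two h.hy.inj hw ht hd (i := 2) (j := 4) (by decide) n2 n4 (g := s)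
    (comm_fr h ed es fun k => ?_) (comm_fr h ed es fun k => ?_) ?_ ?_ (n := N)
    (hexp.2.1.trans hexp.2.2.symm)
  · fin_cases k <;> simp [fp, Equiv.swap_apply_def]
  · fin_cases k <;> simp [fp]
  · rw [es]; funext k; fin_cases k <;> simp [mulVec_diagonal]
  · rw [es]; funext k; fin_cases k <;> simp [mulVec_diagonal]

/-- `C` is cyclic of order `2 ^ (m + 2)` -/
theorem exists_gen {i : F} (h2 : (2 : F) ≠ 0) (hi : i * i = -1) (hc : C ρ S i) :
    ∃ (m : ℕ) (ζ : F), IsPrimitiveRoot ζ (2 ^ (m + 2)) ∧ ∀ a, C ρ S a ↔ a ^ 2 ^ (m + 2) = 1 := by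
  classical
  obtain ⟨N, hN⟩ := exists_exp S
  have hP : ∀ a, C ρ S a → ∃ k ≤ N, IsPrimitiveRoot a (2 ^ k) := fun a ha => by
    obtain ⟨k, hk, e⟩ := (Nat.dvd_prime_pow Nat.prime_two).1
      (orderOf_dvd_of_pow_eq_one (T.exp hN ha).1)
    exact ⟨k, hk, e ▸ IsPrimitiveRoot.orderOf a⟩
  set P : ℕ → Prop := fun k => ∃ a, C ρ S a ∧ IsPrimitiveRoot a (2 ^ k) with hPd
  obtain ⟨k, hk, ek⟩ := hP i hc
  have hk2 : 2 ≤ k := by
    by_contra hlt
    have : i ^ 2 = 1 := by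
      have h1 : k = 0 ∨ k = 1 := by omega
      rcases h1 with rfl | rfl
      · have := ek.pow_eq_one
        simp at this; simp [this]
      · simpa using ek.pow_eq_one
    exact BN.neg_one_ne_one h2 (by rw [← hi, ← pow_two, this])
  have hle : ∀ k ≤ N, P k → k ≤ Nat.findGreatest P N := fun k hk hp => Nat.le_findGreatest hk hp
  obtain ⟨ζ, hζ, pζ⟩ : P (Nat.findGreatest P N) := Nat.findGreatest_spec hk ⟨i, hc, ek⟩
  obtain ⟨m, hm⟩ : ∃ m, Nat.findGreatest P N = m + 2 :=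
    ⟨Nat.findGreatest P N - 2, by have := hle k hk ⟨i, hc, ek⟩; omega⟩
  rw [hm] at pζ hle
  refine ⟨m, ζ, pζ, fun a => ⟨fun ha => ?_, fun ha => ?_⟩⟩
  · obtain ⟨l, hl, el⟩ := hP a ha
    obtain ⟨r, hr⟩ := Nat.exists_eq_add_of_le (hle l hl ⟨a, ha, el⟩)
    rw [hr, pow_add, pow_mul, el.pow_eq_one, one_pow]
  · obtain ⟨j, -, rfl⟩ := pζ.eq_pow_of_pow_eq_one ha
    exact hζ.pow j

theorem prim_of {α : F} (h2 : (2 : F) ≠ 0) {n : ℕ} (h : α ^ 2 ^ n = -1) :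
    IsPrimitiveRoot α (2 ^ (n + 1)) := by
  have : orderOf α = 2 ^ (n + 1) := orderOf_eq_prime_pow
    (by rw [h]; exact BN.neg_one_ne_one h2) (by rw [pow_succ, pow_mul, h]; simp)
  exact this ▸ IsPrimitiveRoot.orderOf α

theorem neg_pow_q (a : F) (m : ℕ) : (-a) ^ 2 ^ (m + 1) = a ^ 2 ^ (m + 1) :=
  Even.neg_pow (by simp [Nat.even_pow]) a

theorem sq_pow_q (a : F) (m : ℕ) : (a ^ 2) ^ 2 ^ m = a ^ 2 ^ (m + 1) := by
  rw [← pow_mul, ← pow_succ']

variable [IsAlgClosed F] {m : ℕ}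

theorem exists_sqrt (hC : ∀ a, C ρ S a ↔ a ^ 2 ^ (m + 2) = 1) {a : F} (h : a ^ 2 ^ (m + 1) = 1) :
    ∃ u, C ρ S u ∧ a = u ^ 2 := by
  obtain ⟨u, rfl⟩ := IsAlgClosed.exists_pow_nat_eq a (n := 2) two_pos
  exact ⟨u, (hC u).2 (by rw [← sq_pow_q, h]), rfl⟩

theorem pm_of (hC : ∀ a, C ρ S a ↔ a ^ 2 ^ (m + 2) = 1) {a : F} (h : C ρ S a) :
    a ^ 2 ^ (m + 1) = 1 ∨ a ^ 2 ^ (m + 1) = -1 := by
  have := (hC a).1 h
  rw [pow_succ, pow_mul, pow_two] at this
  exact mul_self_eq_one_iff.1 this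

/-- both ratios are squares -/
theorem both (h : BS ρ S c) (hs : Std ρ S) (ht : Thin ρ)
    (hC : ∀ a, C ρ S a ↔ a ^ 2 ^ (m + 2) = 1) {a b x y e : F} (hx : T ρ S a b x y e)
    (h1 : (a * b⁻¹) ^ 2 ^ (m + 1) = 1) (h2 : (x * y⁻¹) ^ 2 ^ (m + 1) = 1) :
    b = a⁻¹ ∧ y = x⁻¹ ∧ e = 1 ∧ C ρ S a ∧ C ρ S x := by
  have hz : C ρ S (-1) := (hC _).2 (by rw [neg_pow_q, one_pow])
  obtain ⟨u, hu, eu⟩ := exists_sqrt hC h1
  obtain ⟨v, hv, ev⟩ := exists_sqrt hC h2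
  obtain ⟨h0, hb, h2', hy, -⟩ := hx.ne
  have hu0 := hu.ne
  have hv0 := hv.ne
  have ea : a = u ^ 2 * b := by rw [← eu]; field_simp
  have ex : x = v ^ 2 * y := by rw [← ev]; field_simp
  have h3 : T ρ S (b * u) (b * u) (y * v) (y * v) e :=
    (hx.mul (C.two hs hu.inv hv.inv)).congr (by rw [ea]; field_simp) (by rw [inv_inv])
      (by rw [ex]; field_simp) (by rw [inv_inv]) (mul_one _)
  obtain ⟨p1, p2, p3⟩ := thin_sc h hs ht hz h3
  have aux : ∀ {a b u : F}, a = u ^ 2 * b → b * u * (b * u) = 1 → C ρ S u →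
      b = a⁻¹ ∧ C ρ S a := fun {a b u} ea p hu => by
    refine ⟨eq_inv_of_mul_eq_one_left (by rw [ea]; linear_combination p), ?_⟩
    rcases mul_self_eq_one_iff.1 p with r | r
    · have : a = u := by rw [ea]; linear_combination u * r
      exact this ▸ hu
    · have : a = -1 * u := by rw [ea]; linear_combination u * r
      exact this ▸ hz.mul hu
  exact ⟨(aux ea p1 hu).1, (aux ex p2 hv).1, p3, (aux ea p1 hu).2, (aux ex p2 hv).2⟩

theorem sq_last (h : BS ρ S c) (hs : Std ρ S) (ht : Thin ρ)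
    (hC : ∀ a, C ρ S a ↔ a ^ 2 ^ (m + 2) = 1) {a b x y e : F} (hx : T ρ S a b x y e) :
    e ^ 2 = 1 ∧ (a * b) ^ 2 = 1 := by
  obtain ⟨h0, -⟩ := hx.ne
  obtain ⟨p1, -, p3, -⟩ := both h hs ht hC (hx.pow 2)
    (by rw [← inv_pow, ← mul_pow, sq_pow_q]; exact (hC _).1 (hx.ratio hs))
    (by rw [← inv_pow, ← mul_pow, sq_pow_q]; exact (hC _).1 ((hx.fl hs).ratio hs))
  exact ⟨p3, by rw [mul_pow, p1]; field_simp⟩

theorem exists_pow (h2 : (2 : F) ≠ 0) (hC : ∀ a, C ρ S a ↔ a ^ 2 ^ (m + 2) = 1) {α : F}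
    (hα : α ^ 2 ^ (m + 2) = -1) {a : F} (ha : C ρ S a) : ∃ k, a = α ^ (2 * k) := by
  obtain ⟨k, -, e⟩ := (prim_of (α := α ^ 2) (n := m + 1) h2
    (by rw [sq_pow_q, hα])).eq_pow_of_pow_eq_one ((hC a).1 ha)
  exact ⟨k, by rw [pow_mul, e]⟩

/-- an element with exactly one non-square ratio -/
theorem tq (h : BS ρ S c) (hs : Std ρ S) (hw : AllW ρ) (ht : Thin ρ)
    (hC : ∀ a, C ρ S a ↔ a ^ 2 ^ (m + 2) = 1) {a b x y e : F} (hx : T ρ S a b x y e)
    (h1 : (a * b⁻¹) ^ 2 ^ (m + 1) = -1) (h2 : (x * y⁻¹) ^ 2 ^ (m + 1) = 1) : TQ ρ S := by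
  have hz : C ρ S (-1) := (hC _).2 (by rw [neg_pow_q, one_pow])
  have h1' : C ρ S 1 := (hC _).2 (one_pow _)
  obtain ⟨v, hv, ev⟩ := exists_sqrt hC h2
  obtain ⟨h0, hb, hx0, hy, -⟩ := hx.ne
  have hv0 := hv.ne
  have ex : x = v ^ 2 * y := by rw [← ev]; field_simp
  have h3 : T ρ S a b (y * v) (y * v) e :=
    (hx.mul (C.two hs h1' hv.inv)).congr (mul_one _) (by simp)
      (by rw [ex]; field_simp) (by rw [inv_inv]) (mul_one _)
  have e2 := (sq_last h hs ht hC hx).1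
  have k1 := (key_sc h hs hw ht hz h3).trans e2
  have hμ : C ρ S (y * v) := (hC _).2 (by rw [← sq_pow_q, k1, one_pow])
  have h4 : T ρ S a b 1 1 e :=
    (h3.mul (C.two hs h1' hμ)).congr (mul_one _) (by simp) (by rw [← pow_two, k1])
      (mul_inv_cancel₀ hμ.ne) (mul_one _)
  have hdet := h4.det
  have he : e = -1 := by
    rcases sq_eq_one_iff.1 e2 with r | r
    · exfalso
      have eb : b = a⁻¹ := eq_inv_of_mul_eq_one_right (by rw [r] at hdet; linear_combination hdet)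
      have : C ρ S a := h4.congr rfl eb rfl rfl r
      rw [eb, inv_inv, ← pow_two, sq_pow_q, (hC a).1 this] at h1
      exact BN.neg_one_ne_one h.two h1.symm
    · exact r
  have eb : b = -a⁻¹ := by
    rw [he] at hdet
    field_simp
    linear_combination -hdet
  have hα : a ^ 2 ^ (m + 2) = -1 := by
    rw [eb, inv_neg, inv_inv, mul_neg, neg_pow_q, ← pow_two, sq_pow_q] at h1
    exact h1
  have hX : T ρ S a (-a⁻¹) 1 1 (-1) := h4.congr rfl eb rfl rfl he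
  have step : ∀ {p q r s t : F}, T ρ S p q r s t → ∃ (ε : ℕ) (p' q' t' : F), T ρ S p' q' r s t' ∧
      (p' * q'⁻¹) ^ 2 ^ (m + 1) = 1 ∧ p = a ^ ε * p' ∧ q = (-a⁻¹) ^ ε * q' ∧ t = (-1) ^ ε * t' := by
    intro p q r s t hp
    rcases pm_of hC (hp.ratio hs) with r1 | r1
    · exact ⟨0, p, q, t, hp, r1, by simp, by simp, by simp⟩
    · refine ⟨1, p * a⁻¹, q * (-a⁻¹)⁻¹, t * (-1)⁻¹,
        (hp.mul hX.inv).congr rfl rfl (by simp) (by simp) rfl, ?_, by field_simp, by field_simp,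
        by field_simp⟩
      have : p * a⁻¹ * (q * (-a⁻¹)⁻¹)⁻¹ = p * q⁻¹ * (a * b⁻¹)⁻¹ := by
        rw [eb]; field_simp
      rw [this, mul_pow, inv_pow, r1, h1]
      simp
  refine ⟨hs, m + 2, a, by omega, prim_of h.two hα, fun t => ⟨fun h5 => ?_, ?_⟩⟩
  · obtain ⟨ε, p', q', t', g1, g2, g3, g4, g5⟩ := step (T.of h5)
    obtain ⟨δ, r', s', t'', f1, f2, f3, f4, f5⟩ := step (g1.fl hs)
    obtain ⟨u1, u2, u3, u4, u5⟩ := both h hs ht hC f1 f2 g2
    obtain ⟨k, ek⟩ := exists_pow h.two hC hα u5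
    obtain ⟨l, el⟩ := exists_pow h.two hC hα u4
    have ev : ∀ k : ℕ, (a ^ (2 * k))⁻¹ = (-a⁻¹) ^ (2 * k) := fun k => by
      rw [Even.neg_pow (even_two_mul k), inv_pow]
    refine ⟨ε + 2 * k, δ + 2 * l, (vec_eta t).trans ?_⟩
    rw [g3, g4, f3, f4, g5, f5, u1, u2, u3, ek, el, ev, ev, ← pow_add, ← pow_add, ← pow_add,
      ← pow_add, mul_one, ← pow_add]
    have : (-1 : F) ^ (ε + 2 * k + (δ + 2 * l)) = (-1) ^ (ε + δ) := by
      rw [show ε + 2 * k + (δ + 2 * l) = ε + δ + 2 * (k + l) by ring, pow_add, pow_mul]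
      simp
    rw [this]
  · rintro ⟨k, l, rfl⟩
    exact ((hX.pow k).mul ((hX.fl hs).pow l)).congr (by simp) (by simp) (by simp) (by simp)
      (pow_add _ _ _).symm

/-- both ratios are non-squares -/
theorem neither (h : BS ρ S c) (hs : Std ρ S) (ht : Thin ρ)
    (hC : ∀ a, C ρ S a ↔ a ^ 2 ^ (m + 2) = 1) {a b x y e : F} (hx : T ρ S a b x y e)
    (h1 : (a * b⁻¹) ^ 2 ^ (m + 1) = -1) (h2 : (x * y⁻¹) ^ 2 ^ (m + 1) = -1) :
    e = 1 ∧ T ρ S a b a b 1 := by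
  obtain ⟨h0, hb, hx0, hy, he⟩ := hx.ne
  have h1' : C ρ S 1 := (hC _).2 (one_pow _)
  obtain ⟨p1, -, -, p4, -⟩ := both h hs ht hC (hx.mul (hx.fl hs).inv)
    (by rw [show a * x⁻¹ * (b * y⁻¹)⁻¹ = a * b⁻¹ * (x * y⁻¹)⁻¹ by field_simp, mul_pow, inv_pow,
      h1, h2]; simp)
    (by rw [show x * a⁻¹ * (y * b⁻¹)⁻¹ = x * y⁻¹ * (a * b⁻¹)⁻¹ by field_simp, mul_pow, inv_pow,
      h1, h2]; simp)
  have q1 : a * b = x * y := by
    field_simp at p1
    linear_combination p1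
  have q2 := (sq_last h hs ht hC hx).2
  have q3 : e = 1 := by
    have := hx.det
    linear_combination this - e * q2 + a * b * e * q1
  refine ⟨q3, (hx.mul (C.two hs h1' p4)).congr (mul_one _) (by simp) (by field_simp) ?_
    (by rw [q3, mul_one])⟩
  field_simp
  linear_combination -q1

theorem tp (h : BS ρ S c) (hs : Std ρ S) (ht : Thin ρ)
    (hC : ∀ a, C ρ S a ↔ a ^ 2 ^ (m + 2) = 1)
    (hq : ∀ a b x y e : F, T ρ S a b x y e →
      (a * b⁻¹) ^ 2 ^ (m + 1) = (x * y⁻¹) ^ 2 ^ (m + 1))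
    {a : F} (hX : T ρ S a a⁻¹ a a⁻¹ 1) (hα : a ^ 2 ^ (m + 2) = -1) : TP ρ S := by
  have h0 := hX.ne.1
  have hA : C ρ S (a ^ 2) := (hC _).2 (by rw [← pow_mul, mul_comm, pow_mul, hα]; simp)
  refine ⟨hs, m + 2, a, by omega, prim_of h.two hα, fun t => ⟨fun h5 => ?_, ?_⟩⟩
  · have h6 := T.of h5
    rcases pm_of hC (h6.ratio hs) with r1 | r1
    · obtain ⟨u1, u2, u3, u4, u5⟩ := both h hs ht hC h6 r1 (hq _ _ _ _ _ h6 ▸ r1)
      obtain ⟨k, ek⟩ := exists_pow h.two hC hα u4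
      obtain ⟨l, el⟩ := exists_pow h.two hC hα u5
      refine ⟨2 * k, 2 * l, ⟨k + l, by ring⟩, (vec_eta t).trans ?_⟩
      rw [u1, u2, u3, ek, el, inv_pow, inv_pow]
    · have aux : ∀ p q : F, (p * q⁻¹) ^ 2 ^ (m + 1) = -1 →
          (p * a⁻¹ * (q * a⁻¹⁻¹)⁻¹) ^ 2 ^ (m + 1) = 1 := fun p q r => by
        rw [show p * a⁻¹ * (q * a⁻¹⁻¹)⁻¹ = p * q⁻¹ * (a ^ 2)⁻¹ by field_simp, mul_pow, inv_pow, r,
          sq_pow_q, hα]
        simp
      obtain ⟨u1, u2, u3, u4, u5⟩ := both h hs ht hC (h6.mul hX.inv) (aux _ _ r1)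
        (aux _ _ (hq _ _ _ _ _ h6 ▸ r1))
      obtain ⟨k, ek⟩ := exists_pow h.two hC hα u4
      obtain ⟨l, el⟩ := exists_pow h.two hC hα u5
      refine ⟨2 * k + 1, 2 * l + 1, ⟨k + l + 1, by ring⟩, (vec_eta t).trans ?_⟩
      have aux2 : ∀ (p q : F) (k : ℕ), q * a⁻¹⁻¹ = (p * a⁻¹)⁻¹ → p * a⁻¹ = a ^ (2 * k) →
          p = a ^ (2 * k + 1) ∧ q = a⁻¹ ^ (2 * k + 1) := fun p q k e1 e2 => by
        refine ⟨by rw [pow_succ, ← e2]; field_simp, ?_⟩
        rw [pow_succ, inv_pow, ← e2, ← e1]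
        field_simp
      rw [← (aux2 _ _ k u1 ek).1, ← (aux2 _ _ k u1 ek).2, ← (aux2 _ _ l u2 el).1,
        ← (aux2 _ _ l u2 el).2, show t 4 = 1 by simpa using u3]
  · rintro ⟨k, l, hkl, rfl⟩
    rcases Nat.even_or_odd' k with ⟨k, rfl | rfl⟩
    · obtain ⟨l, rfl⟩ : ∃ j, l = 2 * j := by
        obtain ⟨r, hr⟩ := hkl
        exact ⟨r - k, by omega⟩
      exact (C.two hs (hA.pow k) (hA.pow l)).congr (pow_mul _ _ _).symm
        (by rw [inv_pow, pow_mul]) (pow_mul _ _ _).symm (by rw [inv_pow, pow_mul]) rfl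
    · obtain ⟨l, rfl⟩ : ∃ j, l = 2 * j + 1 := by
        obtain ⟨r, hr⟩ := hkl
        exact ⟨r - k - 1, by omega⟩
      exact ((C.two hs (hA.pow k) (hA.pow l)).mul hX).congr (by rw [← pow_mul, ← pow_succ])
        (by rw [← pow_mul, ← inv_pow, ← pow_succ]) (by rw [← pow_mul, ← pow_succ])
        (by rw [← pow_mul, ← inv_pow, ← pow_succ]) (mul_one _)

end B55

open B55

variable [Finite G] [IsAlgClosed F] {S : Sylow 2 G} {c : G}

theorem BS.tp_or_tq (h : BS ρ S c) (hs : Std ρ S) (hw : AllW ρ) (ht : Thin ρ) {i : F}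
    (hi : i * i = -1) (hc : Tor ρ S ![i, -i, 1, 1, 1]) : TP ρ S ∨ TQ ρ S := by
  have hi' : -i = i⁻¹ := eq_inv_of_mul_eq_one_right (by linear_combination -hi)
  have hci : C ρ S i := T.congr hc rfl hi' rfl rfl rfl
  obtain ⟨m, -, -, hC⟩ := exists_gen h.two hi hci
  by_cases hq : ∀ a b x y e : F, T ρ S a b x y e →
      (a * b⁻¹) ^ 2 ^ (m + 1) = (x * y⁻¹) ^ 2 ^ (m + 1)
  · left
    obtain ⟨t, ht1, ht2⟩ := h.mix hs hw hi hc
    have h6 := T.of ht1
    have h0 := h6.ne.1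
    have h1 := h6.ne.2.1
    have r1 : (t 0 * (t 1)⁻¹) ^ 2 ^ (m + 1) = -1 := by
      refine (pm_of hC (h6.ratio hs)).resolve_left fun r => ?_
      obtain ⟨u, hu, eu⟩ := exists_sqrt hC r
      exact ht2 u hu (by rw [← eu]; field_simp)
    obtain ⟨-, hX⟩ := neither h hs ht hC h6 r1 (hq _ _ _ _ _ h6 ▸ r1)
    rcases sq_eq_one_iff.1 (sq_last h hs ht hC h6).2 with r | r
    · have eb : t 1 = (t 0)⁻¹ := eq_inv_of_mul_eq_one_right r
      rw [eb, inv_inv, ← pow_two, sq_pow_q] at r1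
      exact tp h hs ht hC hq (hX.congr rfl eb rfl eb rfl) r1
    · exfalso
      have eb : t 1 = -(t 0)⁻¹ := by field_simp; linear_combination r
      rw [eb, inv_neg, inv_inv, mul_neg, neg_pow_q, ← pow_two, sq_pow_q] at r1
      have hA : C ρ S (t 0 ^ 2) := (hC _).2 (by rw [← pow_mul, mul_comm, pow_mul, r1]; simp)
      have h1' : C ρ S 1 := (hC _).2 (one_pow _)
      refine h.not_twist hs hw ht hi hc (α := t 0)
        ((hX.mul (C.two hs h1' hA.inv)).congr (mul_one _) (by simp [eb]) (by field_simp)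
          (by rw [eb]; field_simp) (mul_one _)) (fun e => ?_) fun u hu => ?_
      · rw [← sq_pow_q, e, one_pow] at r1
        exact BN.neg_one_ne_one h.two r1.symm
      · have h7 := T.of hu
        rcases pm_of hC (h7.ratio hs) with r2 | r2
        · exact (both h hs ht hC h7 r2 (hq _ _ _ _ _ h7 ▸ r2)).2.2.1
        · exact (neither h hs ht hC h7 r2 (hq _ _ _ _ _ h7 ▸ r2)).1
  · right
    push Not at hq
    obtain ⟨a, b, x, y, e, hx, hne⟩ := hq
    rcases pm_of hC (hx.ratio hs) with r1 | r1 <;>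
      rcases pm_of hC ((hx.fl hs).ratio hs) with r2 | r2
    · exact absurd (r1.trans r2.symm) hne
    · exact tq h hs hw ht hC (hx.fl hs) r2 r1
    · exact tq h hs hw ht hC hx r1 r2
    · exact absurd (r1.trans r2.symm) hne

end CfsgLib.D5
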