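import Cfsg.Agent.Lib.D5.B54

/-!
B56: the twisted type does not occur.  See `plans/D5.md`.
-/

set_option autoImplicit false

namespace CfsgLib.D5

open Matrix Cfsg Cfsg.Geo CfsgLib.Asch Subgroup
open scoped MatrixGroups

variable {G F : Type*} [Group G] [Field F] {ρ : G →* S5 F}

namespace B56

/-- dual systems of centres and axes give a frame -/
theorem fr_of_dual (h2 : (2 : F) ≠ 0) (h : Function.Injective ρ) {d : Fin 5 → G}
    {v φ : Fin 5 → V5 F} (hd : ∀ i, Ng ρ (d i) (v i) (φ i))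
    (ho : ∀ i j, i ≠ j → φ i ⬝ᵥ v j = 0) : Fr ρ d where
  ng i := ⟨_, _, hd i⟩
  comm i j := by
    by_cases e : i = j
    · rw [e]
    · refine mt_inj h ?_
      rw [mt_mul, mt_mul, (hd i).eq, (hd j).eq]
      simp only [sub_mul, mul_sub, vecMulVec_mul_vecMulVec, ho i j e, ho j i (Ne.symm e),
        zero_smul, vecMulVec_zero, one_mul, mul_one]
      abel
  inj i j e := by
    by_contra hne
    have h1 : vecMulVec (v i) (φ i) = vecMulVec (v j) (φ j) := by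
      have := (hd i).eq
      rw [e, (hd j).eq] at this
      exact (sub_left_inj.1 this).symm
    have h3 := congrArg (fun M => φ i ⬝ᵥ (M *ᵥ v i)) h1
    simp only [vecMulVec_mulVec, (hd i).dot, ho j i (Ne.symm hne), dotProduct_smul,
      MulOpposite.smul_eq_mul_unop, MulOpposite.unop_op, ho i j hne, zero_mul] at h3
    exact mul_ne_zero h2 h2 h3

theorem fr5 (h2 : (2 : F) ≠ 0) (h : Function.Injective ρ) {d0 d1 d2 d3 d4 : G}
    {v0 v1 v2 v3 v4 φ0 φ1 φ2 φ3 φ4 : V5 F} (h0 : Ng ρ d0 v0 φ0) (h1 : Ng ρ d1 v1 φ1)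
    (h2' : Ng ρ d2 v2 φ2) (h3 : Ng ρ d3 v3 φ3) (h4 : Ng ρ d4 v4 φ4)
    (ho : ∀ i j, i ≠ j → ![φ0, φ1, φ2, φ3, φ4] i ⬝ᵥ ![v0, v1, v2, v3, v4] j = 0) :
    Fr ρ ![d0, d1, d2, d3, d4] :=
  fr_of_dual h2 h (fun k => by
    fin_cases k
    exacts [h0, h1, h2', h3, h4]) ho

/-- the plane interchange -/
def Y (a b a' b' : F) : M5 F :=
  !![0, 0, a', 0, 0; 0, 0, 0, b', 0; a, 0, 0, 0, 0; 0, b, 0, 0, 0; 0, 0, 0, 0, 1]

theorem Y_mulVec (a b a' b' v0 v1 v2 v3 v4 : F) :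
    Y a b a' b' *ᵥ ![v0, v1, v2, v3, v4] = ![a' * v2, b' * v3, a * v0, b * v1, v4] := by
  ext i
  fin_cases i <;> simp [Y, mulVec, dotProduct, Fin.sum_univ_five]

theorem vecMul_Y (a b a' b' v0 v1 v2 v3 v4 : F) :
    ![v0, v1, v2, v3, v4] ᵥ* Y a b a' b' = ![v2 * a, v3 * b, v0 * a', v1 * b', v4] := by
  ext i
  fin_cases i <;> simp [Y, vecMul, dotProduct, Fin.sum_univ_five]

theorem Y_mul_Y {a b a' b' : F} (ha : a * a' = 1) (hb : b * b' = 1) :
    Y a b a' b' * Y a b a' b' = 1 := by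
  ext i j
  fin_cases i <;> fin_cases j <;>
    simp [Y, mul_apply, Fin.sum_univ_five, ha, hb, mul_comm a', mul_comm b']

theorem pm_tau : pm F (Equiv.swap 0 2 * Equiv.swap 1 3) = Y 1 1 1 1 := by
  have hs : Equiv.Perm.sign (Equiv.swap (0 : Fin 5) 2 * Equiv.swap 1 3) = 1 := by decide
  ext i j
  fin_cases i <;> fin_cases j <;> simp [pm, hs, mon, Y, Equiv.swap_apply_def]

theorem diag_mul_Y (a b a' b' : F) : diagonal ![a', b', a, b, 1] * Y 1 1 1 1 = Y a b a' b' := by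
  ext i j
  fin_cases i <;> fin_cases j <;> simp [Y]

theorem Y_conj (t0 t1 t2 t3 t4 : F) :
    Y 1 1 1 1 * diagonal ![t0, t1, t2, t3, t4] * Y 1 1 1 1 = diagonal ![t2, t3, t0, t1, t4] := by
  ext i j
  rw [mul_apply]
  fin_cases i <;> fin_cases j <;> simp [Y, Fin.sum_univ_five]

theorem ng_c {c : G} (hc : mt ρ c = sg F 4) : Ng ρ c ![0, 0, 0, 0, 1] ![0, 0, 0, 0, 2] where
  eq := by
    rw [hc]
    ext i j
    fin_cases i <;> fin_cases j <;> simp [sg, vecMulVec_apply] <;> norm_num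
  dot := by simp [dotProduct, Fin.sum_univ_five]

theorem inv_eq {x : G} (hx : x * x = 1) : x⁻¹ = x := inv_eq_of_mul_eq_one_right hx

theorem mt_inv_diag {e : G} {t u : V5 F} (he : mt ρ e = diagonal t) (htu : ∀ i, t i * u i = 1) :
    mt ρ e⁻¹ = diagonal u := by
  have h1 : diagonal t * diagonal u = 1 := by
    rw [diagonal_mul_diagonal, ← diagonal_one]; congr 1; exact funext htu
  calc mt ρ e⁻¹ = mt ρ e⁻¹ * (mt ρ e * diagonal u) := by rw [he, h1, mul_one]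
    _ = diagonal u := by rw [← mul_assoc, mt_inv_mul, one_mul]

theorem diag_mulVec (t0 t1 t2 t3 t4 v0 v1 v2 v3 v4 : F) :
    diagonal ![t0, t1, t2, t3, t4] *ᵥ ![v0, v1, v2, v3, v4] =
      ![t0 * v0, t1 * v1, t2 * v2, t3 * v3, t4 * v4] := by
  ext i
  fin_cases i <;> simp [mulVec_diagonal]

theorem vecMul_diag (t0 t1 t2 t3 t4 v0 v1 v2 v3 v4 : F) :
    ![v0, v1, v2, v3, v4] ᵥ* diagonal ![t0, t1, t2, t3, t4] =
      ![v0 * t0, v1 * t1, v2 * t2, v3 * t3, v4 * t4] := by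
  ext i
  fin_cases i <;> simp [vecMul_diagonal]

/-- the frame spanned by `d` under `e` and `y` -/
theorem frame (h2 : (2 : F) ≠ 0) (h : Function.Injective ρ) {c e y d : G} {i a b a' b' : F}
    (hi : i * i = -1) (ha : a * a' = 1) (hb : b * b' = 1) (hc : mt ρ c = sg F 4)
    (he : mt ρ e = diagonal ![i, -i, -i, i, 1]) (hy : mt ρ y = Y a b a' b')
    {v0 v1 v2 v3 f0 f1 f2 f3 : F} (hd : Ng ρ d ![v0, v1, v2, v3, 0] ![f0, f1, f2, f3, 0])
    (hA : f0 * v0 - f1 * v1 - f2 * v2 + f3 * v3 = 0)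
    (hB : f0 * a' * v2 + f1 * b' * v3 + f2 * a * v0 + f3 * b * v1 = 0)
    (hC : f0 * a' * v2 - f1 * b' * v3 - f2 * a * v0 + f3 * b * v1 = 0) :
    Fr ρ ![d, e * d * e⁻¹, y * d * y⁻¹, y * (e * d * e⁻¹) * y⁻¹, c] := by
  have hyy : y * y = 1 := mt_inj h (by rw [mt_mul, hy, Y_mul_Y ha hb, mt_one])
  have he' : mt ρ e⁻¹ = diagonal ![-i, i, i, -i, 1] :=
    mt_inv_diag he fun k => by fin_cases k <;> simp [hi]
  have h1 := hd.conj e
  have h3 := h1.conj y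
  have h2' := hd.conj y
  rw [he, he', diag_mulVec, vecMul_diag] at h1 h3
  rw [inv_eq hyy, hy, Y_mulVec, vecMul_Y] at h3 h2'
  rw [inv_eq hyy]
  refine fr5 h2 h hd h1 h2' h3 (ng_c hc) fun k l hkl => ?_
  fin_cases k <;> fin_cases l <;> first
    | exact absurd rfl hkl
    | simp [dotProduct, Fin.sum_univ_five]; done
    | (simp [dotProduct, Fin.sum_univ_five]; grind)

/-- the reflection interchanging `d` and `y d y` -/
theorem sw1 [Finite G] (h2 : (2 : F) ≠ 0) (h : Function.Injective ρ) (hw : AllW ρ) (ht : Thin ρ)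
    {c e y d : G} {i a b a' b' r : F} (hr : 2 * r = 1)
    (hi : i * i = -1) (ha : a * a' = 1) (hb : b * b' = 1) (hc : mt ρ c = sg F 4)
    (he : mt ρ e = diagonal ![i, -i, -i, i, 1]) (hy : mt ρ y = Y a b a' b') (hyc : y * c = c * y)
    {v0 v1 v2 v3 f0 f1 f2 f3 : F} (hd : Ng ρ d ![v0, v1, v2, v3, 0] ![f0, f1, f2, f3, 0])
    (hA : f0 * v0 - f1 * v1 - f2 * v2 + f3 * v3 = 0)
    (hB : f0 * a' * v2 + f1 * b' * v3 + f2 * a * v0 + f3 * b * v1 = 0)
    (hC : f0 * a' * v2 - f1 * b' * v3 - f2 * a * v0 + f3 * b * v1 = 0) :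
    ∃ ν, Ng ρ ν ![r * (v0 - a' * v2), r * (v1 - b' * v3), r * (v2 - a * v0), r * (v3 - b * v1), 0]
      ![f0 - f2 * a, f1 - f3 * b, f2 - f0 * a', f3 - f1 * b', 0] := by
  have hyy : y * y = 1 := mt_inj h (by rw [mt_mul, hy, Y_mul_Y ha hb, mt_one])
  have k1 : ∀ g, y * (y * g * y⁻¹) * y⁻¹ = g := fun g => by
    rw [inv_eq hyy]
    calc _ = (y * y) * g * (y * y) := by group
      _ = g := by rw [hyy, one_mul, mul_one]
  obtain ⟨ν, hν⟩ := sw h2 h hw ht (frame h2 h hi ha hb hc he hy hd hA hB hC) hyy (fun k => by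
    fin_cases k
    exacts [rfl, rfl, k1 _, k1 _, by show y * c * y⁻¹ = c; rw [hyc, mul_inv_cancel_right]]) hd
  refine ⟨ν, ?_⟩
  rw [hy, Y_mulVec, vecMul_Y, ← eq_inv_of_mul_eq_one_right hr] at hν
  convert hν using 1 <;> ext k <;> fin_cases k <;> simp

/-- `ε + U M Uᵀ` -/
def emb (a b c d ε : F) : M5 F :=
  !![ε + a, b, -a, -b, 0; c, ε + d, -c, -d, 0; -a, -b, ε + a, b, 0; -c, -d, c, ε + d, 0;
    0, 0, 0, 0, ε]

theorem emb_mul (a b c d ε a' b' c' d' ε' : F) : emb a b c d ε * emb a' b' c' d' ε' =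
    emb (ε * a' + ε' * a + 2 * (a * a' + b * c')) (ε * b' + ε' * b + 2 * (a * b' + b * d'))
      (ε * c' + ε' * c + 2 * (c * a' + d * c')) (ε * d' + ε' * d + 2 * (c * b' + d * d'))
      (ε * ε') := by
  ext i j
  fin_cases i <;> fin_cases j <;> simp [emb, mul_apply, Fin.sum_univ_five] <;> ring

theorem emb_sub (a b c d ε x : F) : emb a b c d ε - x • 1 = emb a b c d (ε - x) := by
  ext i j
  fin_cases i <;> fin_cases j <;> simp [emb] <;> ring

theorem emb_zero : emb (0 : F) 0 0 0 0 = 0 := by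
  ext i j
  fin_cases i <;> fin_cases j <;> simp [emb]

theorem emb_ng {d : G} {v0 v1 v2 v3 f0 f1 f2 f3 : F}
    (hd : Ng ρ d ![v0, v1, v2, v3, 0] ![f0, f1, f2, f3, 0]) (e0 : v2 = -v0) (e1 : v3 = -v1)
    (e2 : f2 = -f0) (e3 : f3 = -f1) :
    mt ρ d = emb (v0 * f0) (v0 * f1) (v1 * f0) (v1 * f1) (-1) := by
  rw [hd.eq, e0, e1, e2, e3]
  ext i j
  fin_cases i <;> fin_cases j <;> simp [emb, vecMulVec_apply] <;> ring

theorem emb_sg (a b c d ε : F) : emb a b c d ε * sg F 4 = sg F 4 * emb a b c d ε := by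
  ext i j
  fin_cases i <;> fin_cases j <;> simp [emb, sg]

theorem emb_line (a b c d : F) : emb a b c d 0 * (1 + sg F 4) = 0 := by
  ext i j
  fin_cases i <;> fin_cases j <;> simp [emb, sg, mul_add, vecMul_diagonal]

theorem pow_eq_one {K : M5 F} {a b c : F} (h : (K - a • 1) * (K - b • 1) * (K - c • 1) = 0)
    (hab : a ≠ b) (hac : a ≠ c) (hbc : b ≠ c) {n : ℕ} (ha : a ^ n = 1) (hb : b ^ n = 1)
    (hc : c ^ n = 1) : K ^ n = 1 := by
  open Polynomial in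
  have r : ∀ x : F, x ^ n = 1 → X - C x ∣ (X ^ n - 1 : F[X]) := fun x hx =>
    dvd_iff_isRoot.2 (by simp [hx])
  open Polynomial in
  have cp : ∀ x y : F, x ≠ y → IsCoprime (X - C x) (X - C y : F[X]) := fun x y hxy =>
    isCoprime_X_sub_C_of_isUnit_sub (sub_ne_zero.2 hxy).isUnit
  obtain ⟨q, hq⟩ := (((cp a c hac).mul_left (cp b c hbc)).mul_dvd
    ((cp a b hab).mul_dvd (r a ha) (r b hb)) (r c hc))
  have := congrArg (Polynomial.aeval K) hq
  simp only [map_sub, map_pow, map_one, map_mul, Polynomial.aeval_X, Polynomial.aeval_C,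
    Algebra.algebraMap_eq_smul_one, h, zero_mul] at this
  exact sub_eq_zero.1 this

/-- a 2-element centralising `c` is conjugate into `S` by an element centralising `c` -/
theorem conj_cent [Finite G] (S : Sylow 2 G) {c k : G} (hc : ∀ s ∈ S, s * c = c * s)
    (hk : k * c = c * k) {n : ℕ} (hn : k ^ 2 ^ n = 1) :
    ∃ g, g * c = c * g ∧ g * k * g⁻¹ ∈ S := by
  have hS : (S : Subgroup G) ≤ centralizer {c} := fun s hs =>
    mem_centralizer_singleton_iff.2 (hc s hs)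
  let k' : centralizer {c} := ⟨k, mem_centralizer_singleton_iff.2 hk⟩
  have hp : IsPGroup 2 (zpowers k') := by
    rintro ⟨_, z, rfl⟩
    refine ⟨n, Subtype.ext (Subtype.ext ?_)⟩
    show (k ^ z) ^ 2 ^ n = 1
    rw [← _root_.zpow_natCast, ← _root_.zpow_mul, mul_comm, _root_.zpow_mul,
      _root_.zpow_natCast, hn, _root_.one_zpow]
  obtain ⟨Q, hQ⟩ := hp.exists_le_sylow
  obtain ⟨g, hg⟩ := MulAction.exists_smul_eq (centralizer {c}) Q (S.subtype hS)
  refine ⟨g, mem_centralizer_singleton_iff.1 g.2, ?_⟩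
  have : g * k' * g⁻¹ ∈ (S.subtype hS : Subgroup _) := by
    rw [← hg, Sylow.coe_subgroup_smul]
    exact Subgroup.smul_mem_pointwise_smul _ (MulAut.conj g) _ (hQ (mem_zpowers k'))
  exact this

theorem p8_odd : ∀ π, P8 π → π 4 = 4 ∧ P8 π⁻¹ ∧ (Equiv.Perm.sign π = 1 ∨
    (∃ j, π j ≠ j ∧ π (π j) = j) ∨ π 0 ≠ 0 ∧ π (π 0) ≠ 0 ∧ π (π (π 0)) ≠ 0) := by
  decide +kernel

theorem mon_apply (π : Equiv.Perm (Fin 5)) (a : V5 F) (i j : Fin 5) :
    mon π a i j = if i = π j then a j else 0 := rfl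

/-- the final contradiction -/
theorem fin [Finite G] {S : Sylow 2 G} {c : G} (h : BS ρ S c) (hs : Std ρ S)
    (h4 : ∀ t, Tor ρ S t → t 4 = 1) {k : G} (hk : k * c = c * k) {a b : F}
    (h1 : (mt ρ k - (-1 : F) • 1) * (1 + sg F 4) = 0)
    (h3 : (mt ρ k - (-1 : F) • 1) * (mt ρ k - a • 1) * (mt ρ k - b • 1) = 0) (hab : a * b = -1)
    (hs' : a + b ≠ 0) (hne : a ≠ b) (ha : -1 ≠ a) (hb : -1 ≠ b) {n : ℕ} (han : a ^ 2 ^ (n + 1) = 1)
    (hbn : b ^ 2 ^ (n + 1) = 1) : False := by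
  have hn : k ^ 2 ^ (n + 1) = 1 := mt_inj h.hy.inj (by
    rw [mt_pow, mt_one]
    exact pow_eq_one h3 ha hb hne (by rw [pow_succ', pow_mul]; simp) han hbn)
  obtain ⟨g, hg, hS⟩ := conj_cent S (fun s hs => h.comm hs) hk hn
  obtain ⟨π, t, hπ, e⟩ := h.mono _ hS
  have cj : ∀ x : F, mon π t - x • 1 = mt ρ g * (mt ρ k - x • 1) * mt ρ g⁻¹ := fun x => by
    rw [← e, mt_mul, mt_mul, mul_sub, sub_mul, Matrix.mul_smul, mul_one, Matrix.smul_mul,
      mt_mul_inv]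
  have can : ∀ A B : M5 F, mt ρ g * A * mt ρ g⁻¹ * (mt ρ g * B * mt ρ g⁻¹) =
      mt ρ g * (A * B) * mt ρ g⁻¹ := fun A B => by
    calc _ = mt ρ g * A * (mt ρ g⁻¹ * mt ρ g) * B * mt ρ g⁻¹ := by simp only [mul_assoc]
      _ = _ := by rw [mt_inv_mul]; simp only [mul_assoc, one_mul]
  have e1 : (mon π t - (-1 : F) • 1) * (1 + sg F 4) = 0 := by
    have : 1 + sg F 4 = mt ρ g * (1 + sg F 4) * mt ρ g⁻¹ := by
      rw [mul_add, add_mul, mul_one, mt_mul_inv, ← h.eq, ← mt_mul, ← mt_mul, hg,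
        mul_inv_cancel_right]
    rw [this, cj, can, h1, mul_zero, zero_mul]
  have e3 : (mon π t - (-1 : F) • 1) * (mon π t - a • 1) * (mon π t - b • 1) = 0 := by
    rw [cj, cj, cj, can, can, h3, mul_zero, zero_mul]
  have e3' : mon π t * mon π t * mon π t + (1 - (a + b)) • (mon π t * mon π t) -
      (1 + (a + b)) • mon π t - 1 = 0 := by
    rw [← e3]
    simp only [mul_sub, sub_mul, Matrix.mul_smul, Matrix.smul_mul, mul_one, one_mul, smul_smul]
    match_scalars <;> grind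
  obtain ⟨p4, pi, hp⟩ := p8_odd π hπ
  have t4 : t 4 = -1 := by
    have := congrFun (congrFun e1 4) 4
    rw [mul_add, mul_one, sg, Matrix.add_apply, mul_diagonal] at this
    simp only [Matrix.sub_apply, mon_apply, p4, if_true, Matrix.smul_apply, one_apply_eq,
      Matrix.zero_apply, smul_eq_mul] at this
    have h2 := h.two
    grind
  obtain ⟨s, hsS, es⟩ := hs.pm _ pi
  have sgn := h4 _ ⟨_, mul_mem hS hsS, by rw [mt_mul, e, es, pm, mon_mul, mul_inv_cancel, mon_one]⟩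
  have p4' : π⁻¹ 4 = 4 := by rw [Equiv.Perm.inv_eq_iff_eq, p4]
  simp only [p4', t4, Equiv.Perm.sign_inv] at sgn
  simp only [mon_mul] at e3'
  rcases hp with hp | ⟨j, j1, j2⟩ | ⟨j1, j2, j3⟩
  · rw [hp] at sgn
    have h2 := h.two
    simp only [Units.val_one, Int.cast_one] at sgn
    grind
  · have a1 := congrFun (congrFun e3' j) j
    have a2 := congrFun (congrFun e3' (π j)) j
    have a3 := ne_zero_of_mon e j
    simp [mon_apply, j1, j1.symm, j2] at a1 a2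
    grind
  · have a1 := congrFun (congrFun e3' 0) 0
    simp [mon_apply, j1.symm, j2.symm, j3.symm] at a1

theorem pm01 : pm F (Equiv.swap 0 1) = vecMulVec ![1, -1, 0, 0, 0] ![1, -1, 0, 0, 0] - 1 := by
  ext i j
  fin_cases i <;> fin_cases j <;> simp [pm, mon, Equiv.swap_apply_def, vecMulVec_apply]

theorem pm01_mul {i : F} (hi : i * i = -1) : pm F (Equiv.swap 0 1) * diagonal ![i, -i, 1, 1, 1] =
    vecMulVec ![1, -i, 0, 0, 0] ![1, i, 0, 0, 0] - 1 := by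
  ext k l
  fin_cases k <;> fin_cases l <;> simp [pm, mon, Equiv.swap_apply_def, vecMulVec_apply, hi]

theorem pm01_comm (a b c d : F) : diagonal ![a, a, b, c, d] * pm F (Equiv.swap 0 1) =
    pm F (Equiv.swap 0 1) * diagonal ![a, a, b, c, d] := by
  ext k l
  fin_cases k <;> fin_cases l <;> simp [pm, mon, Equiv.swap_apply_def]

end B56

open B56

variable [Finite G] [IsAlgClosed F] {S : Sylow 2 G} {c : G}

theorem BS.not_twist (h : BS ρ S c) (hs : Std ρ S) (hw : AllW ρ) (ht : Thin ρ) {i α : F}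
    (hi : i * i = -1) (hc : Tor ρ S ![i, -i, 1, 1, 1])
    (hα : Tor ρ S ![α, -α⁻¹, α⁻¹, -α, 1]) (hα' : α ^ 2 ≠ 1) (h4 : ∀ t, Tor ρ S t → t 4 = 1) :
    False := by
  have h2 := h.two
  have inj := h.hy.inj
  obtain ⟨s, hsS, es⟩ := hc
  obtain ⟨δ, hδ, eδ⟩ := hα
  obtain ⟨τ, hτ, eτ⟩ := hs.pm (Equiv.swap 0 2 * Equiv.swap 1 3) (by decide)
  obtain ⟨b, hb, eb⟩ := hs.pm (Equiv.swap 0 1) (by decide)
  rw [pm_tau] at eτ
  have α0 : α ≠ 0 := by simpa using ne_zero_of_mon (eδ.trans (mon_one _).symm) 0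
  obtain ⟨β, hβ⟩ : ∃ β, β = α⁻¹ := ⟨_, rfl⟩
  rw [← hβ] at eδ
  have αβ : α * β = 1 := by rw [hβ, mul_inv_cancel₀ α0]
  obtain ⟨r, hr⟩ : ∃ r : F, 2 * r = 1 := ⟨2⁻¹, mul_inv_cancel₀ h2⟩
  obtain ⟨n, hn⟩ := S.isPGroup' ⟨δ, hδ⟩
  have hn' : δ ^ 2 ^ n = 1 := congrArg Subtype.val hn
  have αn : α ^ 2 ^ n = 1 := by
    have := congrFun (congrFun (congrArg (mt ρ) hn') 0) 0
    rw [mt_pow, eδ, diagonal_pow, mt_one] at this
    simpa using this
  have βn : β ^ 2 ^ n = 1 := by rw [hβ, inv_pow, αn, inv_one]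
  have ee : mt ρ (s * (τ * s⁻¹ * τ)) = diagonal ![i, -i, -i, i, 1] := by
    have : mt ρ s⁻¹ = diagonal ![-i, i, 1, 1, 1] :=
      mt_inv_diag es fun k => by fin_cases k <;> simp [hi]
    rw [mt_mul, mt_mul, mt_mul, this, eτ, Y_conj, es, diagonal_mul_diagonal]
    congr 1
    ext k
    fin_cases k <;> simp
  have ex : mt ρ (δ * τ) = Y β (-α) α (-β) := by rw [mt_mul, eδ, eτ, diag_mul_Y]
  have nb : Ng ρ b ![1, -1, 0, 0, 0] ![1, -1, 0, 0, 0] :=
    ⟨eb.trans pm01, by simp [dotProduct, Fin.sum_univ_five]; norm_num⟩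
  have nb' : Ng ρ (b * s) ![1, -i, 0, 0, 0] ![1, i, 0, 0, 0] :=
    ⟨by rw [mt_mul, eb, es, pm01_mul hi], by simp [dotProduct, Fin.sum_univ_five, hi]; norm_num⟩
  have o1 : (1 : F) * 1 = 1 := one_mul 1
  by_cases hq : α * α = -1
  · have hβα : -β = α := by grind
    refine hα' ?_
    have fr := frame h2 inj hi o1 o1 h.eq ee eτ nb (by ring) (by ring) (by ring)
    have := key h2 inj hw ht fr (i := 0) (j := 4) (by decide) nb (ng_c h.eq) (g := δ)
      (mt_inj inj (by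
        show mt ρ (δ * b) = mt ρ (b * δ)
        rw [mt_mul, mt_mul, eδ, eb, hβα, pm01_comm])) (h.comm hδ) (a := α) (b := 1)
      (by rw [eδ, diag_mulVec, hβα]; ext k; fin_cases k <;> simp)
      (by rw [eδ, diag_mulVec]; ext k; fin_cases k <;> simp) (n := n) (by rw [αn, one_pow])
    rwa [one_pow] at this
  obtain ⟨ν₁, n1⟩ := sw1 h2 inj hw ht hr hi o1 o1 h.eq ee eτ (h.comm hτ) nb
    (by ring) (by ring) (by ring)
  obtain ⟨ν₂, n2⟩ := sw1 h2 inj hw ht hr hi o1 o1 h.eq ee eτ (h.comm hτ) nb'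
    (by grind) (by ring) (by ring)
  obtain ⟨ν₃, n3⟩ := sw1 h2 inj hw ht hr hi (by grind) (by grind) h.eq ee ex
    (h.comm (mul_mem hδ hτ)) nb (by ring) (by ring) (by ring)
  obtain ⟨ν₄, n4⟩ := sw1 h2 inj hw ht hr hi o1 o1 h.eq ee eτ (h.comm hτ) n3
    (by grind) (by grind) (by grind)
  have m1 := emb_ng n1 (by ring) (by ring) (by ring) (by ring)
  have m2 := emb_ng n2 (by ring) (by ring) (by ring) (by ring)
  have m4 := emb_ng n4 (by ring) (by ring) (by ring) (by ring)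
  have m12 : mt ρ (ν₁ * ν₂) = emb (r * (i - 1)) 0 0 (r * (-i - 1)) 1 := by
    rw [mt_mul, m1, m2, emb_mul]
    congr 1 <;> grind
  have mk : mt ρ (ν₁ * ν₂ * ν₄) = emb (r * (1 + r * i * (α + β))) (r * r * i * (β * β - 1))
      (r * r * i * (1 - α * α)) (r * (1 + r * i * (α + β))) (-1) := by
    rw [mt_mul, m12, m4, emb_mul]
    congr 1 <;> grind
  have i4 : i ^ 2 ^ (n + 1 + 1) = 1 := by
    rw [pow_succ', pow_mul, pow_two, hi, pow_succ', pow_mul]; simp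
  have up : ∀ x : F, x ^ 2 ^ n = 1 → (i * x) ^ 2 ^ (n + 1 + 1) = 1 := fun x hx => by
    rw [mul_pow, i4, one_mul, pow_succ, pow_succ, pow_mul, pow_mul, hx, one_pow, one_pow]
  refine fin h hs h4 (k := ν₁ * ν₂ * ν₄) (a := i * α) (b := i * β)
    (mt_inj inj (by rw [mt_mul, mt_mul (ρ := ρ) c, mk, h.eq, emb_sg])) ?_ ?_ (by grind) (by grind)
    (by grind) (by grind) (by grind) (up α αn) (up β βn)
  · rw [mk, emb_sub, sub_self, emb_line]
  · rw [mk, emb_sub, emb_sub, emb_sub, emb_mul, emb_mul, ← emb_zero]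
    congr 1 <;> grind

end CfsgLib.D5
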