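import Cfsg.Agent.Lib.D5.B50a

/-!
Toolkit for B50: monomial matrices, the frame group, conjugation into the Sylow subgroup.
-/

set_option autoImplicit false
set_option linter.unusedSectionVars false

namespace CfsgLib.D5

open Matrix Cfsg Cfsg.Geo CfsgLib.Asch Subgroup
open scoped MatrixGroups

variable {G F : Type*} [Group G] [Field F] {ρ : G →* S5 F}

namespace B5T

theorem mt_mon_mul {g k : G} {π σ : Equiv.Perm (Fin 5)} {a b : V5 F} (hg : mt ρ g = mon π a)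
    (hk : mt ρ k = mon σ b) : mt ρ (g * k) = mon (π * σ) fun j => a (σ j) * b j := by
  rw [mt_mul, hg, hk, mon_mul]

theorem mt_mon_diag {g k : G} {π : Equiv.Perm (Fin 5)} {a b : V5 F} (hg : mt ρ g = mon π a)
    (hk : mt ρ k = diagonal b) : mt ρ (g * k) = mon π fun j => a j * b j := by
  rw [mt_mon_mul hg (hk.trans (mon_one b).symm), mul_one]; rfl

theorem mt_diag_mul {g k : G} {a b : V5 F} (hg : mt ρ g = diagonal a)
    (hk : mt ρ k = diagonal b) : mt ρ (g * k) = diagonal fun j => a j * b j := by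
  rw [mt_mul, hg, hk, diagonal_mul_diagonal]

theorem mon_sq {g : G} {π : Equiv.Perm (Fin 5)} {a : V5 F} (hg : mt ρ g = mon π a)
    (h : g * g = 1) : π * π = 1 ∧ ∀ j, a (π j) * a j = 1 := by
  have e := mt_mon_mul hg hg
  rw [h, mt_one, ← diagonal_one, ← mon_one] at e
  obtain ⟨e1, e2⟩ := mon_inj (fun _ => one_ne_zero) e
  exact ⟨e1.symm, fun j => (congrFun e2 j).symm⟩

theorem mon_conj {k w : G} {κ ψ : Equiv.Perm (Fin 5)} {α β : V5 F} (hk : mt ρ k = mon κ α)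
    (hw : mt ρ w = mon ψ β) : mt ρ (k * w * k⁻¹) =
      mon (κ * ψ * κ⁻¹) fun j => α (ψ (κ⁻¹ j)) * β (κ⁻¹ j) * (α (κ⁻¹ j))⁻¹ := by
  have : mt ρ (k * w) =
      mon (κ * ψ * κ⁻¹) (fun j => α (ψ (κ⁻¹ j)) * β (κ⁻¹ j) * (α (κ⁻¹ j))⁻¹) * mt ρ k := by
    rw [mt_mon_mul hk hw, hk, mon_mul, inv_mul_cancel_right]
    congr 1
    funext j
    have := ne_zero_of_mon hk j
    simp only [Equiv.Perm.coe_inv, Equiv.symm_apply_apply]
    field_simp
  rw [mt_mul, this, mul_assoc, mt_mul_inv, mul_one]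

theorem mon_unique {g : G} {π σ : Equiv.Perm (Fin 5)} {a b : V5 F} (h : mt ρ g = mon π a)
    (h' : mt ρ g = mon σ b) : π = σ ∧ a = b :=
  mon_inj (ne_zero_of_mon h) (h.symm.trans h')

theorem p8_of_mono {S : Subgroup G} (hS : Mono ρ S) {s : G} (hs : s ∈ S) {π : Equiv.Perm (Fin 5)}
    {a : V5 F} (h : mt ρ s = mon π a) : P8 π := by
  obtain ⟨σ, b, hσ, e⟩ := hS s hs
  rwa [(mon_unique h e).1]

theorem det_of_mon {g : G} {π : Equiv.Perm (Fin 5)} {a : V5 F} (h : mt ρ g = mon π a) :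
    ((Equiv.Perm.sign π : ℤ) : F) * (a 0 * a 1 * a 2 * a 3 * a 4) = 1 := by
  have := det_mt (ρ := ρ) g
  rwa [h, det_mon, Fin.prod_univ_five] at this

theorem tr_mon {g : G} {π : Equiv.Perm (Fin 5)} {a : V5 F} (h : mt ρ g = mon π a)
    (h4 : ∀ m, π m = m ↔ m = 4) : tr ρ g = a 4 := by
  rw [tr, h, Matrix.trace, Finset.sum_eq_single 4]
  · simp [mon, (h4 4).2 rfl]
  · intro m _ hm
    have : ¬ m = π m := fun e => hm ((h4 m).1 e.symm)
    simp [mon, this]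
  · simp

/-- even sign vectors are products of the frame elements -/
theorem e_mem {M : Submonoid G} (hE : ∀ i, ∃ d ∈ M, mt ρ d = sg F i) {e : V5 F}
    (he : ∀ i, e i * e i = 1) (hp : e 0 * e 1 * e 2 * e 3 * e 4 = 1) :
    ∃ s ∈ M, mt ρ s = diagonal e := by
  have key : ∀ k, ∃ s ∈ M, mt ρ s = diagonal fun j => if j = k then 1 else e k := fun k => by
    rcases mul_self_eq_one_iff.1 (he k) with h | h
    · exact ⟨1, one_mem _, by rw [mt_one, h]; simp⟩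
    · rw [h]; exact hE k
  choose s hs e1 using key
  refine ⟨s 0 * s 1 * s 2 * s 3 * s 4,
    mul_mem (mul_mem (mul_mem (mul_mem (hs 0) (hs 1)) (hs 2)) (hs 3)) (hs 4), ?_⟩
  rw [mt_diag_mul (mt_diag_mul (mt_diag_mul (mt_diag_mul (e1 0) (e1 1)) (e1 2)) (e1 3)) (e1 4)]
  congr 1
  funext j
  fin_cases j <;> simp
  · linear_combination e 0 * hp - e 1 * e 2 * e 3 * e 4 * he 0
  · linear_combination e 1 * hp - e 0 * e 2 * e 3 * e 4 * he 1
  · linear_combination e 2 * hp - e 0 * e 1 * e 3 * e 4 * he 2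
  · linear_combination e 3 * hp - e 0 * e 1 * e 2 * e 4 * he 3
  · linear_combination e 4 * hp - e 0 * e 1 * e 2 * e 3 * he 4

theorem ent {Y : M5 F} {e e' : V5 F} (h : Y * diagonal e = diagonal e' * Y) {p q : Fin 5}
    (hY : Y p q ≠ 0) : e q = e' p := by
  have := congrFun (congrFun h p) q
  rw [mul_diagonal, diagonal_mul, mul_comm] at this
  exact mul_right_cancel₀ hY this

theorem of_ent {Y : M5 F} {e e' : V5 F} (h : ∀ p q, Y p q ≠ 0 → e q = e' p) :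
    Y * diagonal e = diagonal e' * Y := by
  ext p q
  rw [mul_diagonal, diagonal_mul, mul_comm]
  by_cases k : Y p q = 0
  · rw [k, mul_zero, mul_zero]
  · rw [h p q k]

theorem ent' {y u v : G} {e e' : V5 F} (hu : mt ρ u = diagonal e) (hv : mt ρ v = diagonal e')
    (h : y * u = v * y) {p q : Fin 5} (hY : mt ρ y p q ≠ 0) : e q = e' p :=
  ent (by rw [← hu, ← hv, ← mt_mul, ← mt_mul, h]) hY

theorem bool_dec : ∀ b : Fin 5 → Bool, (b 0 ^^ b 1 ^^ b 2 ^^ b 3 ^^ b 4) = false →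
    (∀ i, b i = false) ∨ (∃ m, ∀ i, b i = decide (i ≠ m)) ∨
      ∃ m n, m ≠ n ∧ ∀ i, b i = decide (i = m ∨ i = n) := by
  decide +kernel

/-- a diagonal involution of trace one -/
theorem two_of_tr (h2 : (2 : F) ≠ 0) {w : G} {e : V5 F} (hw : mt ρ w = diagonal e)
    (he : ∀ i, e i * e i = 1) (ht : tr ρ w = 1) :
    ∃ m n, m ≠ n ∧ ∀ i, e i = if i = m ∨ i = n then -1 else 1 := by
  have h4 : (4 : F) ≠ 0 := by rw [show (4 : F) = 2 * 2 by norm_num]; exact mul_ne_zero h2 h2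
  obtain ⟨b, rfl⟩ := BH.exists_sgn (t := e) (funext fun i => by simpa [pow_two] using he i)
  rcases bool_dec b (BH.par_of_prod (fun k => h2 (by linear_combination -k)) (BH.prod_diag hw)) with
    k | ⟨m, k⟩ | ⟨m, n, k, k'⟩
  · exfalso
    rw [tr, hw, trace_diagonal, Fin.sum_univ_five] at ht
    simp only [BH.sgn, k, Bool.false_eq_true, if_false] at ht
    exact h4 (by linear_combination ht)
  · exfalso
    have : mt ρ w = sg F m := hw.trans (congrArg _ (funext fun i => by by_cases e : i = m <;> simp [BH.sgn, k, e]))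
    have := (isNg_sg this).tr
    exact h4 (by linear_combination this - ht)
  · exact ⟨m, n, k, fun i => by simp [BH.sgn, k']⟩

theorem pz {x : G} {k : ℕ} (h : x ^ 2 ^ k = 1) : IsPGroup 2 (zpowers x) := by
  rintro ⟨_, m, rfl⟩
  refine ⟨k, Subtype.ext ?_⟩
  change (x ^ m) ^ 2 ^ k = 1
  rw [← zpow_natCast, ← _root_.zpow_mul, mul_comm, _root_.zpow_mul, zpow_natCast, h, _root_.one_zpow]

theorem be_eq (a : V5 F) (h : a 0 * a 1 = 1) (h2 : a 2 = -1) (h3 : a 3 = -1) (h4 : a 4 = -1) :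
    mon (Equiv.swap 0 1) a = be (a 0) := by
  rw [be]
  congr 1
  funext j
  fin_cases j <;> simp [h2, h3, h4]
  exact eq_inv_of_mul_eq_one_right h

theorem ga_eq (a : V5 F) (h : a 2 * a 3 = 1) (h0 : a 0 = -1) (h1 : a 1 = -1) (h4 : a 4 = -1) :
    mon (Equiv.swap 2 3) a = ga (a 2) := by
  rw [ga]
  congr 1
  funext j
  fin_cases j <;> simp [h0, h1, h4]
  exact eq_inv_of_mul_eq_one_right h

theorem no01 {S : Subgroup G} (hE : ∀ i, ∃ d ∈ S, mt ρ d = sg F i)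
    (hD : ∀ d ∈ S, IsNg ρ d → ∃ i, mt ρ d = sg F i) {s : G} (hs : s ∈ S) {a : V5 F}
    (ha : mt ρ s = mon (Equiv.swap 0 1) a) (h01 : a 0 * a 1 * (a 0 * a 1) = 1) (h2 : a 2 * a 2 = 1)
    (h3 : a 3 * a 3 = 1) (h4 : a 4 * a 4 = 1) : False := by
  have hd := det_of_mon ha
  rw [Equiv.Perm.sign_swap (by decide)] at hd
  obtain ⟨e, he, e1⟩ := e_mem (M := S.toSubmonoid) hE (e := ![a 0 * a 1, 1, -a 2, -a 3, -a 4])
    (fun i => by fin_cases i <;> simp [h01, h2, h3, h4]) (by simp at hd ⊢; linear_combination hd)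
  have e2 := mt_mon_diag ha e1
  have e3 := e2.trans (be_eq _ (by simp; linear_combination h01) (by simp [h2]) (by simp [h3]) (by simp [h4]))
  obtain ⟨i, hi⟩ := hD _ (mul_mem hs he) (N1.isNg (Or.inr (Or.inr ⟨_, ne_zero_of_mon e2 0, e3⟩)))
  exact absurd (mon_unique e2 (hi.trans (mon_one _).symm)).1 (by decide)

theorem no23 {S : Subgroup G} (hE : ∀ i, ∃ d ∈ S, mt ρ d = sg F i)
    (hD : ∀ d ∈ S, IsNg ρ d → ∃ i, mt ρ d = sg F i) {s : G} (hs : s ∈ S) {a : V5 F}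
    (ha : mt ρ s = mon (Equiv.swap 2 3) a) (h01 : a 2 * a 3 * (a 2 * a 3) = 1) (h2 : a 0 * a 0 = 1)
    (h3 : a 1 * a 1 = 1) (h4 : a 4 * a 4 = 1) : False := by
  have hd := det_of_mon ha
  rw [Equiv.Perm.sign_swap (by decide)] at hd
  obtain ⟨e, he, e1⟩ := e_mem (M := S.toSubmonoid) hE (e := ![-a 0, -a 1, a 2 * a 3, 1, -a 4])
    (fun i => by fin_cases i <;> simp [h01, h2, h3, h4]) (by simp at hd ⊢; linear_combination hd)
  have e2 := mt_mon_diag ha e1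
  have e3 := e2.trans (ga_eq _ (by simp; linear_combination h01) (by simp [h2]) (by simp [h3]) (by simp [h4]))
  obtain ⟨i, hi⟩ := hD _ (mul_mem hs he) (N2.isNg (Or.inr (Or.inr ⟨_, ne_zero_of_mon e2 2, e3⟩)))
  exact absurd (mon_unique e2 (hi.trans (mon_one _).symm)).1 (by decide)

theorem dt_dec : ∀ π : Equiv.Perm (Fin 5), P8 π → π * π = 1 → π = 1 ∨ π = Equiv.swap 0 1 ∨
    π = Equiv.swap 2 3 ∨ (Equiv.Perm.sign π = 1 ∧ (∀ m, π m = m ↔ m = 4) ∧
      ∃ σ : Equiv.Perm (Fin 5), σ 4 = 4 ∧ π = Equiv.swap (σ 0) (σ 1) * Equiv.swap (σ 2) (σ 3)) := by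
  decide +kernel

/-- non-diagonal involutions induce double transpositions -/
theorem dt {S : Subgroup G} (hE : ∀ i, ∃ d ∈ S, mt ρ d = sg F i)
    (hD : ∀ d ∈ S, IsNg ρ d → ∃ i, mt ρ d = sg F i) {s : G} (hs : s ∈ S) (ss : s * s = 1)
    {π : Equiv.Perm (Fin 5)} {a : V5 F} (ha : mt ρ s = mon π a) (hπ : P8 π) (h1 : π ≠ 1) :
    Equiv.Perm.sign π = 1 ∧ (∀ m, π m = m ↔ m = 4) ∧
      ∃ σ : Equiv.Perm (Fin 5), σ 4 = 4 ∧ π = Equiv.swap (σ 0) (σ 1) * Equiv.swap (σ 2) (σ 3) := by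
  obtain ⟨k, k'⟩ := mon_sq ha ss
  rcases dt_dec π hπ k with e | e | e | e
  · exact absurd e h1
  · subst e
    have k1 : a 0 * a 1 = 1 := k' 1
    exact (no01 hE hD hs ha (by rw [k1, mul_one]) (k' 2) (k' 3) (k' 4)).elim
  · subst e
    have k1 : a 2 * a 3 = 1 := k' 3
    exact (no23 hE hD hs ha (by rw [k1, mul_one]) (k' 0) (k' 1) (k' 4)).elim
  · exact e

variable [Finite G] {S : Sylow 2 G}

theorem conj_into (S : Sylow 2 G) {Q : Subgroup G} (hQ : IsPGroup 2 Q) :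
    ∃ k, ∀ q ∈ Q, k * q * k⁻¹ ∈ S := by
  obtain ⟨k, -, l⟩ := (LAE.isSylowIn_top S).exists_conj_le hQ le_top
  exact ⟨k, fun q hq => l (LAE.conj_mem_conjS.2 hq)⟩

/-- negative reflections generating a 2-group commute -/
theorem nc (inj : Function.Injective ρ) (hD : ∀ d ∈ S, IsNg ρ d → ∃ i, mt ρ d = sg F i) {a b : G}
    (ha : IsNg ρ a) (hb : IsNg ρ b) (h : (a * b) ^ 2 ^ 2 = 1) : a * b = b * a := by
  have aa : a * a = 1 := let ⟨_, _, k⟩ := ha; k.mul_self inj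
  have bb : b * b = 1 := let ⟨_, _, k⟩ := hb; k.mul_self inj
  have hQ := (pz h).to_sup_of_normal_left' (pz (x := a) (k := 1) (by rw [pow_one, pow_two, aa]))
    (zpowers_le.2 (mem_normalizer_fintype (S := (zpowers (a * b) : Set G)) (by
      rintro _ ⟨m, rfl⟩
      refine ⟨-m, ?_⟩
      show (a * b) ^ (-m) = a * (a * b) ^ m * a⁻¹
      rw [← conj_zpow, _root_.zpow_neg, ← _root_.inv_zpow, _root_.mul_inv_rev, inv_eq_of_mul_eq_one_right aa,
        inv_eq_of_mul_eq_one_right bb, ← mul_assoc, aa, one_mul])))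
  obtain ⟨k, hk⟩ := conj_into S hQ
  have m1 : a ∈ zpowers (a * b) ⊔ zpowers a := mem_sup_right (mem_zpowers _)
  have m2 : b ∈ zpowers (a * b) ⊔ zpowers a := by
    have := mul_mem m1 (mem_sup_left (mem_zpowers _))
    rwa [← mul_assoc, aa, one_mul] at this
  obtain ⟨i, hi⟩ := hD _ (hk a m1) (ha.conj k)
  obtain ⟨j, hj⟩ := hD _ (hk b m2) (hb.conj k)
  have := b50a_sg_comm inj hi hj
  rw [conj_mul, conj_mul] at this
  exact mul_left_cancel (mul_right_cancel this)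

/-- an odd power of a diagonal element lies in the Sylow subgroup -/
theorem odd_tor (inj : Function.Injective ρ) (hS : Mono ρ S) {r : G} {t : V5 F}
    (hr : mt ρ r = diagonal t) : ∃ m, Odd m ∧ Tor ρ S (t ^ m) := by
  obtain ⟨k, m, hm, e⟩ := Nat.exists_eq_two_pow_mul_odd (orderOf_pos r).ne'
  have e1 : mt ρ (r ^ m) = diagonal (t ^ m) := by rw [mt_pow, hr, diagonal_pow]
  exact ⟨m, hm, _, tor_mem inj (fun s hs => let ⟨π, a, _, h⟩ := hS s hs; ⟨π, a, h⟩) e1 (n := k)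
    (by rw [← pow_mul, mul_comm, ← e, pow_orderOf_eq_one]), e1⟩

end B5T

end CfsgLib.D5
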