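import Cfsg.Agent.Lib.D5.Defs

/-!
BM: 2-groups are monomial.  See `plans/D5.md`.
-/

set_option autoImplicit false

namespace CfsgLib.D5

open Matrix Cfsg Cfsg.Geo CfsgLib.Asch Subgroup
open scoped MatrixGroups

section
universe u
variable {K V : Type*} [Field K] [AddCommGroup V] [Module K V]

/-- `W` has a basis permuted up to scalars -/
def BmGood {P : Type*} [Group P] (σ : Representation K P V) (W : Submodule K V) : Prop :=
  ∃ b : Set V, LinearIndepOn K id b ∧ Submodule.span K b = W ∧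
    ∀ g, ∀ v ∈ b, ∃ w ∈ b, ∃ c : K, σ g v = c • w

theorem bm_maschke {P : Type*} [Group P] [Finite P] (σ : Representation K P V)
    (h : (Nat.card P : K) ≠ 0) {U : Submodule K V} (hU : ∀ g, ∀ v ∈ U, σ g v ∈ U) :
    ∃ U', IsCompl U U' ∧ ∀ g, ∀ v ∈ U', σ g v ∈ U' := by
  have : NeZero (Nat.card P : K) := ⟨h⟩
  obtain ⟨U', h1⟩ := exists_isCompl (⟨U, fun g _ hv => hU g _ hv⟩ : Subrepresentation σ)
  exact ⟨U'.toSubmodule, ⟨disjoint_iff.2 (congrArg Subrepresentation.toSubmodule h1.inf_eq_bot),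
    codisjoint_iff.2 (congrArg Subrepresentation.toSubmodule h1.sup_eq_top)⟩,
    fun g _ hv => U'.apply_mem_toSubmodule g hv⟩

theorem BmGood.sup {P : Type*} [Group P] {σ : Representation K P V} {U U' : Submodule K V}
    (h : BmGood σ U) (h' : BmGood σ U') (hd : Disjoint U U') : BmGood σ (U ⊔ U') := by
  obtain ⟨b, h1, rfl, h3⟩ := h
  obtain ⟨b', h1', rfl, h3'⟩ := h'
  refine ⟨b ∪ b', h1.union h1' (by simpa using hd), Submodule.span_union _ _, ?_⟩
  rintro g v (hv | hv)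
  · obtain ⟨w, hw, e⟩ := h3 g v hv
    exact ⟨w, Or.inl hw, e⟩
  · obtain ⟨w, hw, e⟩ := h3' g v hv
    exact ⟨w, Or.inr hw, e⟩

theorem bm_inv_apply {P : Type*} [Group P] (σ : Representation K P V) (g : P) (v : V) :
    σ g (σ g⁻¹ v) = v := by
  rw [← Module.End.mul_apply, ← map_mul, mul_inv_cancel, map_one, Module.End.one_apply]

theorem bm_inj {P : Type*} [Group P] (σ : Representation K P V) (g : P) :
    Function.Injective (σ g) := fun v w e => by
  rw [← bm_inv_apply σ g⁻¹ v, ← bm_inv_apply σ g⁻¹ w, inv_inv, e]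

/-- a non-scalar element which commutes with everything up to sign -/
theorem bm_elt [IsAlgClosed K] {P : Type*} [Group P] [Finite P] (hP : IsPGroup 2 P)
    (σ : Representation K P V) {W : Submodule K V} (hW : ∀ g, ∀ v ∈ W, σ g v ∈ W)
    (hn : ¬ ∀ g, ∃ c : K, ∀ v ∈ W, σ g v = c • v) :
    ∃ (x : P) (μ : K), μ ≠ 0 ∧ (∀ c : K, ¬ ∀ v ∈ W, σ x v = c • v) ∧
      (∀ v ∈ W, σ x (σ x v) = (μ * μ) • v) ∧
      ∀ g, (∀ v ∈ W, σ x (σ g v) = σ g (σ x v)) ∨ ∀ v ∈ W, σ x (σ g v) = -σ g (σ x v) := by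
  obtain ⟨v₀, hv₀, hv0⟩ : ∃ v ∈ W, v ≠ 0 := by
    by_contra h0
    push Not at h0
    exact hn fun g => ⟨0, fun v hv => by rw [h0 v hv, map_zero, smul_zero]⟩
  have nz : ∀ g (c : K), (∀ v ∈ W, σ g v = c • v) → c ≠ 0 := fun g c hc h0 =>
    hv0 (bm_inj σ g (by rw [hc v₀ hv₀, h0, zero_smul, map_zero]))
  let N : Subgroup P :=
    { carrier := {g | ∃ c : K, ∀ v ∈ W, σ g v = c • v}
      one_mem' := ⟨1, fun v _ => by simp⟩
      mul_mem' := by
        rintro a b ⟨c, hc⟩ ⟨d, hd⟩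
        exact ⟨d * c, fun v hv => by
          rw [map_mul, Module.End.mul_apply, hd v hv, map_smul, hc v hv, smul_smul]⟩
      inv_mem' := by
        rintro a ⟨c, hc⟩
        exact ⟨c⁻¹, fun v hv => bm_inj σ a (by
          rw [bm_inv_apply, map_smul, hc v hv, smul_smul, inv_mul_cancel₀ (nz a c hc), one_smul])⟩ }
  have hN : N.Normal := ⟨by
    rintro a ⟨c, hc⟩ g
    exact ⟨c, fun v hv => by
      rw [map_mul, map_mul, Module.End.mul_apply, Module.End.mul_apply, hc _ (hW _ v hv), map_smul,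
        bm_inv_apply]⟩⟩
  have : Nontrivial (P ⧸ N) := QuotientGroup.nontrivial_iff.2 fun e =>
    hn fun g => (e ▸ mem_top g : g ∈ N)
  have hQ : IsPGroup 2 (P ⧸ N) := hP.to_quotient N
  have := hQ.center_nontrivial
  obtain ⟨z, hz⟩ := exists_prime_orderOf_dvd_card' (G := center (P ⧸ N)) 2
    ((hQ.to_subgroup _).card_eq_or_dvd.resolve_left Finite.one_lt_card.ne')
  obtain ⟨x, hx⟩ := QuotientGroup.mk_surjective (z : P ⧸ N)
  have hx1 : x ∉ N := fun h => by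
    have : z = 1 := Subtype.ext (hx ▸ (QuotientGroup.eq_one_iff x).2 h)
    rw [this, orderOf_one] at hz
    exact absurd hz (by decide)
  obtain ⟨l, hl⟩ : x * x ∈ N := by
    rw [← QuotientGroup.eq_one_iff, QuotientGroup.mk_mul, hx, ← pow_two, ← hz, ← coe_pow,
      pow_orderOf_eq_one, coe_one]
  obtain ⟨μ, hμ⟩ := IsAlgClosed.exists_eq_mul_self l
  have hl0 := nz _ _ hl
  have hxx : ∀ v ∈ W, σ x (σ x v) = l • v := fun v hv => by
    rw [← Module.End.mul_apply, ← map_mul, hl v hv]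
  refine ⟨x, μ, fun h0 => hl0 (by rw [hμ, h0, mul_zero]), fun c hc => hx1 ⟨c, hc⟩,
    fun v hv => hμ ▸ hxx v hv, fun g => ?_⟩
  obtain ⟨c, hc⟩ : (g * x)⁻¹ * (x * g) ∈ N := by
    rw [← QuotientGroup.eq, QuotientGroup.mk_mul, QuotientGroup.mk_mul, hx]
    exact Subgroup.mem_center_iff.1 z.2 _
  have h1 : ∀ v ∈ W, σ x (σ g v) = c • σ g (σ x v) := fun v hv => by
    have := congrArg (σ (g * x)) (hc v hv)
    rwa [← Module.End.mul_apply, ← map_mul, mul_inv_cancel_left, map_smul, map_mul, map_mul] at this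
  have h2 : c * c = 1 := by
    have h3 := hxx _ (hW g v₀ hv₀)
    rw [h1 v₀ hv₀, map_smul, h1 _ (hW x v₀ hv₀), hxx v₀ hv₀, map_smul, smul_smul, smul_smul] at h3
    have h4 := smul_left_injective K (fun e => hv0 (bm_inj σ g (e.trans (map_zero _).symm))) h3
    exact mul_right_cancel₀ hl0 (h4.trans (one_mul l).symm)
  rcases mul_self_eq_one_iff.1 h2 with rfl | rfl
  · exact Or.inl fun v hv => by rw [h1 v hv, one_smul]
  · exact Or.inr fun v hv => by rw [h1 v hv, neg_one_smul]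

theorem bm_good [IsAlgClosed K] [FiniteDimensional K V] (h2 : (2 : K) ≠ 0) (n : ℕ) :
    ∀ (P : Type u) [Group P] [Finite P], IsPGroup 2 P → ∀ (σ : Representation K P V)
      (W : Submodule K V), Module.finrank K W = n → (∀ g, ∀ v ∈ W, σ g v ∈ W) → BmGood σ W := by
  induction n using Nat.strong_induction_on with
  | _ n ih =>
  intro P _ _ hP σ W hn hW
  subst hn
  by_cases hr : ∃ U : Submodule K V, U < W ∧ U ≠ ⊥ ∧ ∀ g, ∀ v ∈ U, σ g v ∈ U
  · obtain ⟨U, h1, h0, hU⟩ := hr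
    obtain ⟨U', hc, hU'⟩ := bm_maschke σ (by
      obtain ⟨k, hk⟩ := IsPGroup.iff_card.1 hP
      rw [hk, Nat.cast_pow]
      exact pow_ne_zero _ (by exact_mod_cast h2)) hU
    have e : U ⊔ U' ⊓ W = W := by rw [← sup_inf_assoc_of_le _ h1.le, hc.sup_eq_top, top_inf_eq]
    have hd : Disjoint U (U' ⊓ W) := hc.disjoint.mono_right inf_le_left
    have h3 : U' ⊓ W < W := lt_of_le_of_ne inf_le_right fun e' =>
      h0 (hd.eq_bot_of_le (e'.symm ▸ h1.le))
    rw [← e]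
    exact (ih _ (Submodule.finrank_lt_finrank_of_lt h1) P hP σ U rfl hU).sup
      (ih _ (Submodule.finrank_lt_finrank_of_lt h3) P hP σ _ rfl
        fun g v hv => ⟨hU' g v hv.1, hW g v hv.2⟩) hd
  have irr : ∀ U : Submodule K V, U ≤ W → U ≠ ⊥ → (∀ g, ∀ v ∈ U, σ g v ∈ U) → U = W :=
    fun U h1 h0 hU => by_contra fun e => hr ⟨U, lt_of_le_of_ne h1 e, h0, hU⟩
  by_cases hs : ∀ g, ∃ c : K, ∀ v ∈ W, σ g v = c • v
  · obtain ⟨b, hb, h1, h3⟩ := exists_linearIndependent K (W : Set V)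
    refine ⟨b, h3, h1.trans (Submodule.span_eq W), fun g v hv => ?_⟩
    obtain ⟨c, hc⟩ := hs g
    exact ⟨v, hv, c, hc v (hb hv)⟩
  obtain ⟨x, μ, hμ, hx, hxx, hpm⟩ := bm_elt hP σ hW hs
  let U : Submodule K V := W ⊓ Module.End.eigenspace (σ x) μ
  have memU : ∀ {v}, v ∈ U ↔ v ∈ W ∧ σ x v = μ • v := fun {v} => by
    rw [Submodule.mem_inf, Module.End.mem_eigenspace_iff]
  have hUW : U < W := lt_of_le_of_ne inf_le_left fun e =>
    hx μ fun v hv => (memU.1 (e.symm ▸ hv)).2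
  have hU0 : U ≠ ⊥ := fun e => hx (-μ) fun v hv => by
    have : σ x v + μ • v ∈ U := memU.2 ⟨add_mem (hW x v hv) (W.smul_mem μ hv), by
      rw [map_add, hxx v hv, map_smul, smul_add, smul_smul, add_comm]⟩
    rw [e, Submodule.mem_bot] at this
    rw [neg_smul]
    exact eq_neg_of_add_eq_zero_left this
  let P₀ : Subgroup P :=
    { carrier := {g | ∀ v ∈ W, σ x (σ g v) = σ g (σ x v)}
      one_mem' := fun v _ => by simp
      mul_mem' := fun {a b} ha hb v hv => by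
        rw [map_mul, Module.End.mul_apply, Module.End.mul_apply, ha _ (hW b v hv), hb v hv]
      inv_mem' := fun {a} ha v hv => bm_inj σ a (by
        rw [← ha _ (hW a⁻¹ v hv), bm_inv_apply, bm_inv_apply]) }
  have hP₀ : ∀ g ∈ P₀, ∀ v ∈ U, σ g v ∈ U := fun g hg v hv =>
    memU.2 ⟨hW g v (memU.1 hv).1, by rw [hg v (memU.1 hv).1, (memU.1 hv).2, map_smul]⟩
  obtain ⟨t, ht⟩ : ∃ t, t ∉ P₀ := by
    by_contra h0
    push Not at h0
    exact hUW.ne (irr U hUW.le hU0 fun g => hP₀ g (h0 g))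
  have anti : ∀ g, g ∉ P₀ → ∀ v ∈ W, σ x (σ g v) = -σ g (σ x v) := fun g hg =>
    (hpm g).resolve_left hg
  have cos : ∀ g, g ∉ P₀ → t⁻¹ * g ∈ P₀ := fun g hg v hv => by
    rw [map_mul, Module.End.mul_apply, Module.End.mul_apply,
      anti _ (fun h => ht (inv_mem_iff.1 h)) _ (hW g v hv), anti g hg v hv, map_neg, neg_neg]
  obtain ⟨b, hb1, hb2, hb3⟩ := ih _ (Submodule.finrank_lt_finrank_of_lt hUW) P₀ (hP.to_subgroup _)
    (σ.comp P₀.subtype) U rfl fun g => hP₀ g g.2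
  have key : ∀ g, ∀ v ∈ b, ∃ w ∈ b ∪ σ t '' b, ∃ c : K, σ g v = c • w := fun g v hv => by
    by_cases hg : g ∈ P₀
    · obtain ⟨w, hw, e⟩ := hb3 ⟨g, hg⟩ v hv
      exact ⟨w, Or.inl hw, e⟩
    · obtain ⟨w, hw, c, e⟩ := hb3 ⟨_, cos g hg⟩ v hv
      refine ⟨σ t w, Or.inr ⟨w, hw, rfl⟩, c, ?_⟩
      rw [← map_smul, ← e, ← bm_inv_apply σ t (σ g v)]
      exact congrArg (σ t) (by simp)
  have key' : ∀ g, ∀ v ∈ b ∪ σ t '' b, ∃ w ∈ b ∪ σ t '' b, ∃ c : K, σ g v = c • w := by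
    rintro g v (hv | ⟨v, hv, rfl⟩)
    · exact key g v hv
    · rw [← Module.End.mul_apply, ← map_mul]
      exact key _ v hv
  have hbU : b ⊆ U := hb2 ▸ Submodule.subset_span
  refine ⟨b ∪ σ t '' b, hb1.union ?_ ?_, irr _ ?_ ?_ fun g v hv => ?_, key'⟩
  · exact (hb1.map_injOn (σ t) (bm_inj σ t).injOn).id_image
  · rw [Set.image_id, Set.image_id, Submodule.span_image, hb2, Submodule.disjoint_def]
    rintro _ h1 ⟨v, hv, rfl⟩
    have h3 := (memU.1 h1).2
    rw [anti t ht v (memU.1 hv).1, (memU.1 hv).2, map_smul, neg_eq_iff_add_eq_zero, ← add_smul,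
      ← two_mul] at h3
    exact (smul_eq_zero.1 h3).resolve_left (mul_ne_zero h2 hμ)
  · refine Submodule.span_le.2 ?_
    rintro v (hv | ⟨v, hv, rfl⟩)
    · exact hUW.le (hbU hv)
    · exact hW t v (hUW.le (hbU hv))
  · exact fun e => hU0 (eq_bot_iff.2 (hb2 ▸ e ▸ Submodule.span_mono Set.subset_union_left))
  · have : Submodule.span K (b ∪ σ t '' b) ≤ (Submodule.span K (b ∪ σ t '' b)).comap (σ g) :=
      Submodule.span_le.2 fun w hw => by
        obtain ⟨w', hw', c, e⟩ := key' g w hw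
        rw [SetLike.mem_coe, Submodule.mem_comap, e]
        exact Submodule.smul_mem _ c (Submodule.subset_span hw')
    exact this hv

end

variable {G F : Type*} [Group G] [Field F] {ρ : G →* S5 F}

theorem bm_mon [Finite G] [IsAlgClosed F] (h2 : (2 : F) ≠ 0) {S : Subgroup G}
    (hS : IsPGroup 2 S) : ∃ B, ∀ s ∈ S, ∃ π a, mt (cb ρ B) s = mon π a := by
  let σ : Representation F S (V5 F) :=
    (toLinAlgEquiv' (R := F) (n := Fin 5)).toMonoidHom.comp ((mtH ρ).comp S.subtype)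
  have hσ : ∀ (s : S) v, σ s v = mt ρ s *ᵥ v := fun s v => toLinAlgEquiv'_apply _ _
  obtain ⟨b, h1, h2, h3⟩ := bm_good h2 _ S hS σ ⊤ rfl fun _ _ _ => Submodule.mem_top
  let β : Module.Basis b F (V5 F) := Module.Basis.mk h1 (by simp [h2])
  let e : Module.Basis (Fin 5) F (V5 F) := β.reindex (β.indexEquiv (Pi.basisFun F (Fin 5)))
  have he : Set.range e = b := by
    rw [Module.Basis.range_reindex]
    simp [β]
  let B : GL (Fin 5) F := ⟨(Pi.basisFun F (Fin 5)).toMatrix e, e.toMatrix (Pi.basisFun F (Fin 5)),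
    Module.Basis.toMatrix_mul_toMatrix_flip _ _, Module.Basis.toMatrix_mul_toMatrix_flip _ _⟩
  have hB : ∀ i j, (B : M5 F) i j = e j i := fun i j => by
    simp [B, Module.Basis.toMatrix_apply]
  refine ⟨B, fun s hs => ?_⟩
  have : ∀ j, ∃ (k : Fin 5) (c : F), mt ρ s *ᵥ e j = c • e k := fun j => by
    obtain ⟨w, hw, c, hc⟩ := h3 ⟨s, hs⟩ (e j) (he ▸ Set.mem_range_self j)
    obtain ⟨k, rfl⟩ := (he.symm ▸ hw : w ∈ Set.range e)
    exact ⟨k, c, (hσ ⟨s, hs⟩ _).symm.trans hc⟩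
  choose π a hπ using this
  have eq : mt (cb ρ B) s = of fun i j => if i = π j then a j else 0 := by
    rw [mt_cb, Matrix.mul_assoc, Units.inv_mul_eq_iff_eq_mul]
    ext i j
    have := congrFun (hπ j) i
    simp only [mulVec, dotProduct, Pi.smul_apply, smul_eq_mul] at this
    simp only [mul_apply, hB, this, of_apply, mul_ite, mul_zero, Finset.sum_ite_eq',
      Finset.mem_univ, if_true]
    exact mul_comm _ _
  have surj : Function.Surjective π := fun i => by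
    by_contra hi
    push Not at hi
    have := det_mt (ρ := cb ρ B) s
    rw [eq, det_eq_zero_of_row_eq_zero i fun j => by simp [(hi j).symm]] at this
    exact zero_ne_one this
  exact ⟨Equiv.ofBijective π (Finite.surjective_iff_bijective.1 surj), a, eq⟩

theorem bm_perm {P : Type*} [Group P] (hP : IsPGroup 2 P) (φ : P →* Equiv.Perm (Fin 5)) :
    ∃ τ : Equiv.Perm (Fin 5), ∀ s, P8 (τ * φ s * τ⁻¹) := by
  let D : Subgroup (Equiv.Perm (Fin 5)) := centralizer {Equiv.swap 0 1 * Equiv.swap 2 3}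
  have hD : ∀ π, π ∈ D ↔ P8 π := fun π => mem_centralizer_singleton_iff
  have c8 : Nat.card D = 2 ^ (Nat.card (Equiv.Perm (Fin 5))).factorization 2 := by
    rw [Nat.card_congr (Equiv.subtypeEquivRight hD), Nat.card_eq_fintype_card,
      Nat.card_eq_fintype_card, Fintype.card_perm, Fintype.card_fin, Fintype.card_subtype]
    decide +kernel
  obtain ⟨Q, hQ⟩ := (hP.of_surjective _ φ.rangeRestrict_surjective).exists_le_sylow
  obtain ⟨τ, hτ⟩ := MulAction.exists_smul_eq (Equiv.Perm (Fin 5)) Q (Sylow.ofCard D c8)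
  refine ⟨τ, fun s => (hD _).1 ?_⟩
  have : τ * φ s * τ⁻¹ ∈ ((τ • Q : Sylow 2 _) : Subgroup _) :=
    smul_mem_pointwise_smul _ (MulAut.conj τ) _ (hQ ⟨s, rfl⟩)
  rwa [hτ] at this

theorem exists_mono [Finite G] [IsAlgClosed F] (h2 : (2 : F) ≠ 0) {S : Subgroup G}
    (hS : IsPGroup 2 S) : ∃ B, Mono (cb ρ B) S := by
  obtain ⟨B, hB⟩ := bm_mon (ρ := ρ) h2 hS
  choose π a hπ using fun s : S => hB s s.2
  let φ : S →* Equiv.Perm (Fin 5) := MonoidHom.mk' π fun s t =>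
    (mon_inj (ne_zero_of_mon (hπ (s * t))) (by
      rw [← hπ, coe_mul, mt_mul, hπ, hπ, mon_mul])).1
  obtain ⟨τ, hτ⟩ := bm_perm hS φ
  have e : ∀ τ : Equiv.Perm (Fin 5), mon τ⁻¹ (fun _ => (1 : F)) * mon τ (fun _ => 1) = 1 :=
    fun τ => by rw [mon_mul, inv_mul_cancel, mon_one]; simp
  refine ⟨B * ⟨mon τ⁻¹ fun _ => 1, mon τ fun _ => 1, e τ, e τ⁻¹⟩, fun s hs =>
    ⟨_, fun j => 1 * a ⟨s, hs⟩ (τ⁻¹ j) * 1, hτ ⟨s, hs⟩, ?_⟩⟩
  rw [← cb_cb, mt_cb, hπ ⟨s, hs⟩]
  exact (congrArg (· * _) (mon_mul _ _ _ _)).trans (mon_mul _ _ _ _)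

end CfsgLib.D5
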