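import Cfsg.Agent.Lib.D5.Defs
import Cfsg.Agent.Lib.Tech.SylowIn

/-!
BN: monomial negative reflections.  See `plans/D5.md`.
-/

set_option autoImplicit false
set_option linter.unusedSectionVars false

namespace CfsgLib.D5

open Matrix Cfsg Cfsg.Geo CfsgLib.Asch Subgroup
open scoped MatrixGroups

variable {G F : Type*} [Group G] [Field F] {ρ : G →* S5 F}

namespace BN

theorem mon_congr {π σ : Equiv.Perm (Fin 5)} {a b : V5 F} (h : π = σ) (h' : ∀ j, a j = b j) :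
    mon π a = mon σ b := by rw [h, funext h']

theorem sg_eq_mon (i : Fin 5) : sg F i = mon 1 fun j => if j = i then 1 else -1 :=
  (mon_one _).symm

theorem p8_cases : ∀ π : Equiv.Perm (Fin 5), P8 π →
    π = 1 ∨ π = Equiv.swap 0 1 ∨ π = Equiv.swap 2 3 ∨
      ∃ i j, i ≠ j ∧ π i ≠ i ∧ π j ≠ j ∧ π j ≠ i := by decide +kernel

theorem p8_four : ∀ π : Equiv.Perm (Fin 5), P8 π → π 4 = 4 := by decide +kernel

theorem be_mul_be (μ ν : F) : be μ * be ν = diagonal ![μ⁻¹ * ν, μ * ν⁻¹, 1, 1, 1] := by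
  rw [be, be, mon_mul, ← mon_one]
  refine mon_congr (by decide) fun j => ?_
  fin_cases j <;> simp [Equiv.swap_apply_def]

theorem be_mul_diag (μ c : F) : be μ * diagonal ![c, c⁻¹, 1, 1, 1] = be (μ * c) := by
  rw [be, be, ← mon_one, mon_mul]
  refine mon_congr (by decide) fun j => ?_
  fin_cases j <;> simp [mul_comm]

theorem diag_mul_be (μ c : F) : diagonal ![c, c⁻¹, 1, 1, 1] * be μ = be (μ * c⁻¹) := by
  rw [be, be, ← mon_one, mon_mul]
  refine mon_congr (by decide) fun j => ?_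
  fin_cases j <;> simp [Equiv.swap_apply_def, mul_comm]

theorem be_mul_sg0 (μ : F) : be μ * sg F 0 = sg F 1 * be μ := by
  rw [be, sg_eq_mon, sg_eq_mon, mon_mul, mon_mul]
  refine mon_congr (by decide) fun j => ?_
  fin_cases j <;> simp [Equiv.swap_apply_def]

theorem be_mul_sg1 (μ : F) : be μ * sg F 1 = sg F 0 * be μ := by
  rw [be, sg_eq_mon, sg_eq_mon, mon_mul, mon_mul]
  refine mon_congr (by decide) fun j => ?_
  fin_cases j <;> simp [Equiv.swap_apply_def]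

theorem sg0_mul_be (μ : F) : sg F 0 * be μ = be (-μ) * sg F 0 := by
  rw [be, be, sg_eq_mon, mon_mul, mon_mul]
  refine mon_congr (by decide) fun j => ?_
  fin_cases j <;> simp [Equiv.swap_apply_def]

theorem sg1_mul_be (μ : F) : sg F 1 * be μ = be (-μ) * sg F 1 := by
  rw [be, be, sg_eq_mon, mon_mul, mon_mul]
  refine mon_congr (by decide) fun j => ?_
  fin_cases j <;> simp [Equiv.swap_apply_def]

theorem sg_mul_self (i : Fin 5) : sg F i * sg F i = 1 := by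
  rw [sg, diagonal_mul_diagonal, ← diagonal_one]
  congr 1
  funext j
  split_ifs <;> simp

theorem sg_comm (i j : Fin 5) : sg F i * sg F j = sg F j * sg F i := by
  rw [sg, sg, diagonal_mul_diagonal, diagonal_mul_diagonal]
  congr 1
  funext k
  exact mul_comm _ _

theorem sg0_mul_sg1 : sg F 0 * sg F 1 = diagonal ![-1, -1, 1, 1, 1] := by
  rw [sg, sg, diagonal_mul_diagonal]
  congr 1
  funext j
  fin_cases j <;> simp

theorem be_neg_mul_be {μ : F} (h : μ ≠ 0) : be (-μ) * be μ = diagonal ![-1, -1, 1, 1, 1] := by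
  rw [be_mul_be]
  congr 1
  funext j
  fin_cases j <;> simp [h]

theorem be_inj {μ ν : F} (h : be μ = be ν) : μ = ν := by
  have := congrFun (congrFun h 1) 0
  simpa [be, mon] using this

theorem mt_conj_of {g d : G} {A B : M5 F} (hd : mt ρ d = A) (h : mt ρ g * A = B * mt ρ g) :
    mt ρ (g * d * g⁻¹) = B := by
  rw [mt_mul, mt_mul, hd, h, Matrix.mul_assoc, mt_mul_inv, Matrix.mul_one]

theorem mt_inv_eq {g : G} {A : M5 F} (h : A * mt ρ g = 1) : mt ρ g⁻¹ = A := by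
  rw [← Matrix.one_mul (mt ρ g⁻¹), ← h, Matrix.mul_assoc, mt_mul_inv, Matrix.mul_one]

theorem neg_one_ne_one (h2 : (2 : F) ≠ 0) : (-1 : F) ≠ 1 := fun e =>
  h2 (by linear_combination -e)

theorem vv_mulVec (v φ w : V5 F) : vecMulVec v φ *ᵥ w = (φ ⬝ᵥ w) • v := by
  rw [vecMulVec_mulVec, op_smul_eq_smul]

end BN

open BN

theorem Ng.mul_self (h : Function.Injective ρ) {d : G} {v φ : V5 F} (hd : Ng ρ d v φ) :
    d * d = 1 := by
  refine mt_inj h ?_
  rw [mt_mul, hd.eq, mt_one, sub_mul, mul_sub, mul_sub, vecMulVec_mul_vecMulVec, hd.dot,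
    vecMulVec_smul, two_smul]
  simp

theorem IsNg.tr {d : G} (hd : IsNg ρ d) : tr ρ d = -3 := by
  obtain ⟨v, φ, h⟩ := hd
  rw [D5.tr, h.eq, trace_sub, trace_vecMulVec, dotProduct_comm, h.dot, trace_one]
  norm_num

theorem isNg_sg {d : G} {i : Fin 5} (h : mt ρ d = sg F i) : IsNg ρ d := by
  refine ⟨Pi.single i 1, Pi.single i 2, ?_, by simp⟩
  rw [h]
  ext j k
  by_cases e1 : j = i <;> by_cases e2 : k = i <;> by_cases e3 : j = k <;>
    simp_all [sg, vecMulVec_apply, one_apply]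
  norm_num

theorem isNg_pm {d : G} {i j : Fin 5} (hij : i ≠ j) (h : mt ρ d = pm F (Equiv.swap i j)) :
    IsNg ρ d := by
  refine ⟨Pi.single i 1 - Pi.single j 1, Pi.single i 1 - Pi.single j 1, ?_, ?_⟩
  · rw [h]
    ext k l
    have hji : j ≠ i := hij.symm
    by_cases e1 : k = i <;> by_cases e2 : k = j <;> by_cases e3 : l = i <;> by_cases e4 : l = j <;>
      by_cases e5 : k = l <;>
      simp_all [pm, mon, vecMulVec_apply, one_apply, Equiv.swap_apply_def]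
  · simp [dotProduct_sub, hij, hij.symm]
    norm_num

theorem N1.isNg {d : G} (h : N1 ρ d) : IsNg ρ d := by
  rcases h with h | h | ⟨μ, hμ, h⟩
  · exact isNg_sg h
  · exact isNg_sg h
  · refine ⟨![1, μ, 0, 0, 0], ![1, μ⁻¹, 0, 0, 0], ?_, ?_⟩
    · rw [h]
      ext j k
      fin_cases j <;> fin_cases k <;> simp [be, mon, hμ, Equiv.swap_apply_def]
    · simp [dotProduct, Fin.sum_univ_five, hμ]
      norm_num

theorem N2.isNg {d : G} (h : N2 ρ d) : IsNg ρ d := by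
  rcases h with h | h | ⟨μ, hμ, h⟩
  · exact isNg_sg h
  · exact isNg_sg h
  · refine ⟨![0, 0, 1, μ, 0], ![0, 0, 1, μ⁻¹, 0], ?_, ?_⟩
    · rw [h]
      ext j k
      fin_cases j <;> fin_cases k <;> simp [ga, mon, hμ, Equiv.swap_apply_def]
    · simp [dotProduct, Fin.sum_univ_five, hμ]
      norm_num

theorem ng_cases (h2 : (2 : F) ≠ 0) {d : G} {π : Equiv.Perm (Fin 5)} {a : V5 F} (hπ : P8 π)
    (h : mt ρ d = mon π a) (hd : IsNg ρ d) : N1 ρ d ∨ N2 ρ d ∨ mt ρ d = sg F 4 := by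
  have htr := hd.tr
  obtain ⟨v, φ, hv⟩ := hd
  have ent : ∀ i j, v i * φ j = (if i = π j then a j else 0) + if i = j then 1 else 0 := by
    intro i j
    have := congrFun (congrFun (hv.eq.symm.trans h) i) j
    simp only [Matrix.sub_apply, vecMulVec_apply, one_apply, mon, of_apply] at this
    linear_combination this
  have minor : ∀ i j, (v i * φ i) * (v j * φ j) = (v i * φ j) * (v j * φ i) := fun i j => by ring
  have ha := ne_zero_of_mon h
  rcases p8_cases π hπ with rfl | rfl | rfl | ⟨i, j, hij, hi, hj, hji⟩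
  · have hsum : ∑ i, (a i + 1) = 2 := by
      rw [← hv.dot, dotProduct]
      refine Finset.sum_congr rfl fun i _ => ?_
      rw [mul_comm, ent]; simp
    obtain ⟨i, hi⟩ : ∃ i, a i + 1 ≠ 0 := by
      by_contra hn
      push Not at hn
      exact h2 (by rw [← hsum]; exact Finset.sum_eq_zero fun i _ => hn i)
    have hoth : ∀ j, j ≠ i → a j + 1 = 0 := by
      intro j hj
      have := minor i j
      rw [ent, ent, ent, ent] at this
      simpa [hj, hj.symm, hi] using this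
    have hi2 : a i + 1 = 2 := by
      rw [← hsum, Finset.sum_eq_single i (fun j _ hj => hoth j hj) (by simp)]
    have hs : mt ρ d = sg F i := by
      rw [h, sg_eq_mon]
      refine mon_congr rfl fun j => ?_
      split_ifs with e
      · rw [e]; linear_combination hi2
      · linear_combination hoth j e
    fin_cases i
    · exact Or.inl (Or.inl hs)
    · exact Or.inl (Or.inr (Or.inl hs))
    · exact Or.inr (Or.inl (Or.inl hs))
    · exact Or.inr (Or.inl (Or.inr (Or.inl hs)))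
    · exact Or.inr (Or.inr hs)
  · refine Or.inl (Or.inr (Or.inr ⟨a 0, ha 0, ?_⟩))
    have h01 := minor 0 1
    have h02 := minor 0 2
    have h03 := minor 0 3
    have h04 := minor 0 4
    rw [ent, ent, ent, ent] at h01 h02 h03 h04
    simp [Equiv.swap_apply_def] at h01 h02 h03 h04
    rw [h, be]
    refine mon_congr rfl fun j => ?_
    fin_cases j
    · rfl
    · exact eq_inv_of_mul_eq_one_left h01.symm
    · exact eq_neg_of_add_eq_zero_left h02
    · exact eq_neg_of_add_eq_zero_left h03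
    · exact eq_neg_of_add_eq_zero_left h04
  · refine Or.inr (Or.inl (Or.inr (Or.inr ⟨a 2, ha 2, ?_⟩)))
    have h01 := minor 2 3
    have h02 := minor 2 0
    have h03 := minor 2 1
    have h04 := minor 2 4
    rw [ent, ent, ent, ent] at h01 h02 h03 h04
    simp [Equiv.swap_apply_def] at h01 h02 h03 h04
    rw [h, ga]
    refine mon_congr rfl fun j => ?_
    fin_cases j
    · exact eq_neg_of_add_eq_zero_left h02
    · exact eq_neg_of_add_eq_zero_left h03
    · rfl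
    · exact eq_inv_of_mul_eq_one_left h01.symm
    · exact eq_neg_of_add_eq_zero_left h04
  · exfalso
    have := minor i j
    rw [ent, ent, ent, ent] at this
    simp [hij, hi.symm, hj.symm, hji.symm] at this

theorem N1.comm (h : Function.Injective ρ) {d e : G} (hd : N1 ρ d) (he : N2 ρ e) :
    d * e = e * d := by
  refine mt_inj h ?_
  rw [mt_mul, mt_mul]
  rcases hd with hd | hd | ⟨μ, -, hd⟩ <;> rcases he with he | he | ⟨ν, -, he⟩ <;> rw [hd, he] <;>
    first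
    | exact sg_comm _ _
    | (simp only [sg_eq_mon, be, ga, mon_mul]
       refine mon_congr (by decide) fun j => ?_
       fin_cases j <;> simp [Equiv.swap_apply_def])

namespace BN

theorem n1_entries {d : G} (hd : N1 ρ d) :
    mt ρ d 2 2 = -1 ∧ mt ρ d 3 3 = -1 ∧ mt ρ d 4 4 = -1 := by
  rcases hd with hd | hd | ⟨μ, -, hd⟩ <;> rw [hd] <;> simp [sg, be, mon, Equiv.swap_apply_def]

theorem n2_entries {d : G} (hd : N2 ρ d) :
    mt ρ d 0 0 = -1 ∧ mt ρ d 1 1 = -1 ∧ mt ρ d 4 4 = -1 := by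
  rcases hd with hd | hd | ⟨μ, -, hd⟩ <;> rw [hd] <;> simp [sg, ga, mon, Equiv.swap_apply_def]

end BN

theorem N1.not_N2 (h2 : (2 : F) ≠ 0) {d : G} (hd : N1 ρ d) : ¬ N2 ρ d := by
  intro he
  obtain ⟨h1, h3, -⟩ := n1_entries hd
  have hn := neg_one_ne_one h2
  rcases he with he | he | ⟨ν, -, he⟩ <;> rw [he] at h1 h3
  · exact hn (by simpa [sg] using h1.symm)
  · exact hn (by simpa [sg] using h3.symm)
  · simp [ga, mon] at h1

theorem N1.ne_sg (h2 : (2 : F) ≠ 0) {d : G} (hd : N1 ρ d) : mt ρ d ≠ sg F 4 := by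
  intro e
  have := (n1_entries hd).2.2
  rw [e] at this
  exact neg_one_ne_one h2 (by simpa [sg] using this.symm)

theorem N2.ne_sg (h2 : (2 : F) ≠ 0) {d : G} (hd : N2 ρ d) : mt ρ d ≠ sg F 4 := by
  intro e
  have := (n2_entries hd).2.2
  rw [e] at this
  exact neg_one_ne_one h2 (by simpa [sg] using this.symm)

theorem N1.mul_z {d z : G} (hd : N1 ρ d) (hz : mt ρ z = diagonal ![-1, -1, 1, 1, 1]) :
    N1 ρ (d * z) ∧ mt ρ (d * z) = mt ρ (z * d) := by
  have e0 : sg F 0 * diagonal ![-1, -1, 1, 1, 1] = sg F 1 := by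
    rw [← sg0_mul_sg1, ← Matrix.mul_assoc, sg_mul_self, Matrix.one_mul]
  have e1 : sg F 1 * diagonal ![-1, -1, 1, 1, 1] = sg F 0 := by
    rw [← sg0_mul_sg1, sg_comm 0 1, ← Matrix.mul_assoc, sg_mul_self, Matrix.one_mul]
  have ez : (diagonal ![-1, -1, 1, 1, 1] : M5 F) = diagonal ![-1, (-1)⁻¹, 1, 1, 1] := by
    rw [inv_neg_one]
  rw [N1, mt_mul, mt_mul, hz]
  rcases hd with hd | hd | ⟨μ, hμ, hd⟩ <;> rw [hd]
  · refine ⟨Or.inr (Or.inl e0), ?_⟩
    rw [sg, diagonal_mul_diagonal, diagonal_mul_diagonal]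
    simp only [mul_comm]
  · refine ⟨Or.inl e1, ?_⟩
    rw [sg, diagonal_mul_diagonal, diagonal_mul_diagonal]
    simp only [mul_comm]
  · rw [ez, be_mul_diag, diag_mul_be, inv_neg_one]
    exact ⟨Or.inr (Or.inr ⟨_, by simpa using hμ, rfl⟩), rfl⟩

namespace BN

theorem be_ne_neg (h2 : (2 : F) ≠ 0) {μ : F} (hμ : μ ≠ 0) : be (-μ) ≠ be μ := fun e =>
  mul_ne_zero h2 hμ (by linear_combination -(be_inj e))

theorem sg_mul_cancel {i : Fin 5} {A B : M5 F} (h : A * sg F i = B * sg F i) : A = B := by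
  rw [← Matrix.mul_one A, ← Matrix.mul_one B, ← sg_mul_self i, ← Matrix.mul_assoc, h,
    Matrix.mul_assoc]

end BN

theorem N1.eq_of_comm (h2 : (2 : F) ≠ 0) {d e : G} (hd : N1 ρ d) (he : N1 ρ e)
    (hc : d * e = e * d) : mt ρ (d * e) = 1 ∨ mt ρ (d * e) = diagonal ![-1, -1, 1, 1, 1] := by
  have hc' : mt ρ d * mt ρ e = mt ρ e * mt ρ d := by rw [← mt_mul, hc, mt_mul]
  rw [mt_mul]
  rcases hd with hd | hd | ⟨μ, hμ, hd⟩ <;> rcases he with he | he | ⟨ν, hν, he⟩ <;>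
    rw [hd, he] at hc' ⊢
  · exact Or.inl (sg_mul_self _)
  · exact Or.inr sg0_mul_sg1
  · rw [sg0_mul_be] at hc'
    exact absurd (sg_mul_cancel hc') (be_ne_neg h2 hν)
  · exact Or.inr ((sg_comm _ _).trans sg0_mul_sg1)
  · exact Or.inl (sg_mul_self _)
  · rw [sg1_mul_be] at hc'
    exact absurd (sg_mul_cancel hc') (be_ne_neg h2 hν)
  · rw [sg0_mul_be] at hc'
    exact absurd (sg_mul_cancel hc').symm (be_ne_neg h2 hμ)
  · rw [sg1_mul_be] at hc'
    exact absurd (sg_mul_cancel hc').symm (be_ne_neg h2 hμ)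
  · rw [be_mul_be, be_mul_be] at hc'
    have h0 : μ⁻¹ * ν = ν⁻¹ * μ := by simpa using congrFun (congrFun hc' 0) 0
    have h1 : (ν - μ) * (ν + μ) = 0 := by
      field_simp at h0
      linear_combination h0
    rcases mul_eq_zero.1 h1 with e | e
    · left
      rw [sub_eq_zero.1 e, be_mul_be, ← diagonal_one]
      congr 1
      funext j
      fin_cases j <;> simp [hμ]
    · right
      rw [eq_neg_of_add_eq_zero_right e, be_neg_mul_be hν]

namespace BN

/-- the permutation matrix interchanging the two planes -/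
def flM (F : Type*) [Field F] : M5 F := mon (Equiv.swap 0 2 * Equiv.swap 1 3) fun _ => 1

theorem flM_mul_self : flM F * flM F = 1 := by
  rw [flM, mon_mul, ← diagonal_one, ← mon_one]
  exact mon_congr (by decide) fun j => by simp

theorem fl_mon (π : Equiv.Perm (Fin 5)) (a : V5 F) : flM F * mon π a * flM F =
    mon (Equiv.swap 0 2 * Equiv.swap 1 3 * π * (Equiv.swap 0 2 * Equiv.swap 1 3))
      ![a 2, a 3, a 0, a 1, a 4] := by
  rw [flM, mon_mul, mon_mul]
  refine mon_congr rfl fun j => ?_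
  fin_cases j <;> simp [Equiv.swap_apply_def]

theorem fl_iff {A B C : M5 F} (h : flM F * B * flM F = C) : flM F * A * flM F = B ↔ A = C := by
  have key : ∀ X : M5 F, flM F * (flM F * X * flM F) * flM F = X := fun X => by
    rw [← Matrix.mul_assoc, ← Matrix.mul_assoc, flM_mul_self, Matrix.one_mul, Matrix.mul_assoc,
      flM_mul_self, Matrix.mul_one]
  constructor
  · intro e
    rw [← h, ← e, key]
  · intro e
    rw [e, ← h, key]

theorem fl_sg (i : Fin 5) :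
    flM F * sg F i * flM F = sg F ((Equiv.swap 0 2 * Equiv.swap 1 3 : Equiv.Perm (Fin 5)) i) := by
  rw [sg_eq_mon, sg_eq_mon, fl_mon]
  refine mon_congr (by decide) fun j => ?_
  fin_cases i <;> fin_cases j <;> simp [Equiv.swap_apply_def]

theorem fl_be (μ : F) : flM F * be μ * flM F = ga μ := by
  rw [be, ga, fl_mon]
  refine mon_congr (by decide) fun j => ?_
  fin_cases j <;> simp

theorem fl_ga (μ : F) : flM F * ga μ * flM F = be μ := by
  rw [be, ga, fl_mon]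
  refine mon_congr (by decide) fun j => ?_
  fin_cases j <;> simp

theorem p8_fl : ∀ π : Equiv.Perm (Fin 5), P8 π →
    P8 (Equiv.swap 0 2 * Equiv.swap 1 3 * π * (Equiv.swap 0 2 * Equiv.swap 1 3)) := by
  decide +kernel

end BN

/-- interchanging the two planes -/
theorem exists_flip : ∃ B : GL (Fin 5) F, ∀ ρ : G →* S5 F, (∀ d, N1 (cb ρ B) d ↔ N2 ρ d) ∧
    (∀ d, N2 (cb ρ B) d ↔ N1 ρ d) ∧ (∀ d, mt (cb ρ B) d = sg F 4 ↔ mt ρ d = sg F 4) ∧
    (∀ S, Mono ρ S → Mono (cb ρ B) S) ∧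
    ∀ g (t : V5 F), mt ρ g = diagonal t → mt (cb ρ B) g = diagonal ![t 2, t 3, t 0, t 1, t 4] := by
  refine ⟨⟨flM F, flM F, flM_mul_self, flM_mul_self⟩, fun ρ => ?_⟩
  have e : ∀ g, mt (cb ρ ⟨flM F, flM F, flM_mul_self, flM_mul_self⟩) g =
      flM F * mt ρ g * flM F := fun g => rfl
  refine ⟨fun d => ?_, fun d => ?_, fun d => ?_, fun S hS s hs => ?_, fun g t hg => ?_⟩
  · simp only [N1, N2, e, fl_iff (fl_sg 0), fl_iff (fl_sg 1), fl_iff (fl_be _)]
    rfl
  · simp only [N1, N2, e, fl_iff (fl_sg 2), fl_iff (fl_sg 3), fl_iff (fl_ga _)]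
    rfl
  · rw [e, fl_iff (fl_sg 4)]
    rfl
  · obtain ⟨π, a, hπ, h⟩ := hS s hs
    exact ⟨_, _, p8_fl π hπ, by rw [e, h, fl_mon]⟩
  · rw [e, hg, ← mon_one, fl_mon, ← mon_one]
    exact mon_congr (by decide) fun _ => rfl

namespace BN

theorem ng_dot (h2 : (2 : F) ≠ 0) (h : Function.Injective ρ) {d e : G}
    {v φ w ψ : V5 F} (hd : Ng ρ d v φ) (he : Ng ρ e w ψ) (hc : d * e = e * d) (hne : d ≠ e) :
    φ ⬝ᵥ w = 0 := by
  by_contra hx
  apply hne
  have h1 : mt ρ d * mt ρ e = mt ρ e * mt ρ d := by rw [← mt_mul, hc, mt_mul]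
  rw [hd.eq, he.eq] at h1
  have h3 : vecMulVec v φ * vecMulVec w ψ = vecMulVec w ψ * vecMulVec v φ := by
    have : ∀ A B : M5 F, (A - 1) * (B - 1) = A * B - A - B + 1 := fun A B => by noncomm_ring
    rw [this, this] at h1
    have h4 : vecMulVec v φ * vecMulVec w ψ - vecMulVec w ψ * vecMulVec v φ = 0 := by
      rw [← sub_eq_zero] at h1
      rw [← h1]; abel
    exact sub_eq_zero.1 h4
  have h5 : (2 : F) • v = (ψ ⬝ᵥ v) • w := by
    have := congrArg (· *ᵥ w) h3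
    simp only [← mulVec_mulVec, vv_mulVec, mulVec_smul, he.dot, smul_smul] at this
    refine smul_right_injective _ hx ?_
    simp only [smul_smul]
    rw [mul_comm, this]
  have h6 : (2 : F) • ψ = (ψ ⬝ᵥ v) • φ := by
    have := congrArg (φ ᵥ* ·) h3
    simp only [← vecMul_vecMul, vecMul_vecMulVec, hd.dot, smul_dotProduct, smul_eq_mul] at this
    refine smul_right_injective _ hx ?_
    simp only [smul_smul]
    rw [mul_comm, this]
  refine mt_inj h ?_
  rw [hd.eq, he.eq, sub_left_inj]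
  refine smul_right_injective _ h2 ?_
  simp only []
  rw [← smul_vecMulVec, h5, ← vecMulVec_smul, h6, smul_vecMulVec, vecMulVec_smul]

end BN

/-- a frame can be diagonalised -/
theorem Fr.exists_std (h2 : (2 : F) ≠ 0) (h : Function.Injective ρ) {d : Fin 5 → G}
    (hd : Fr ρ d) : ∃ B, ∀ i, mt (D5.cb ρ B) (d i) = sg F i := by
  choose v φ hv using hd.ng
  have hdot : ∀ i j, φ i ⬝ᵥ v j = if i = j then 2 else 0 := by
    intro i j
    split_ifs with e
    · rw [e]; exact (hv j).dot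
    · exact ng_dot h2 h (hv i) (hv j) (hd.comm i j) (fun e' => e (hd.inj e'))
  let B : M5 F := of fun k j => v j k
  let C : M5 F := of fun i k => 2⁻¹ * φ i k
  have hCv : ∀ j, C *ᵥ v j = Pi.single j 1 := by
    intro j
    funext i
    have : (C *ᵥ v j) i = 2⁻¹ * (φ i ⬝ᵥ v j) := by
      simp [C, mulVec, dotProduct, Finset.mul_sum, mul_assoc]
    rw [this, hdot, Pi.single_apply]
    split_ifs <;> simp [h2]
  have hφB : ∀ i, φ i ᵥ* B = Pi.single i 2 := by
    intro i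
    funext j
    have : (φ i ᵥ* B) j = φ i ⬝ᵥ v j := rfl
    rw [this, hdot, Pi.single_apply]
    simp only [eq_comm]
  have hCB : C * B = 1 := by
    ext i j
    have : (C * B) i j = (C *ᵥ v j) i := rfl
    rw [this, hCv, Pi.single_apply, one_apply]
  refine ⟨⟨B, C, mul_eq_one_comm.1 hCB, hCB⟩, fun i => ?_⟩
  have := ((hv i).cb ⟨B, C, mul_eq_one_comm.1 hCB, hCB⟩).eq
  rw [this]
  change vecMulVec (C *ᵥ v i) (φ i ᵥ* B) - 1 = _
  rw [hCv, hφB]
  ext j k
  by_cases e1 : j = i <;> by_cases e2 : k = i <;> by_cases e3 : j = k <;>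
    simp_all [sg, vecMulVec_apply, one_apply]
  norm_num

/-- the normaliser of the standard frame is monomial -/
theorem mon_of_perm (h2 : (2 : F) ≠ 0) {d : Fin 5 → G} (hd : ∀ i, mt ρ (d i) = sg F i) {g : G}
    {π : Equiv.Perm (Fin 5)} (hg : ∀ i, g * d i * g⁻¹ = d (π i)) : ∃ a, mt ρ g = mon π a := by
  refine ⟨fun j => mt ρ g (π j) j, ?_⟩
  ext k j
  simp only [mon, of_apply]
  split_ifs with e
  · rw [e]
  · have h1 : mt ρ g * sg F j = sg F (π j) * mt ρ g := by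
      rw [← hd, ← hd, ← hg, ← mt_mul, ← mt_mul, inv_mul_cancel_right]
    have h3 := congrFun (congrFun h1 k) j
    simp only [sg, mul_diagonal, diagonal_mul, if_true, if_neg e] at h3
    have h4 : 2 * mt ρ g k j = 0 := by linear_combination h3
    exact (mul_eq_zero.1 h4).resolve_left h2

theorem mon_conj_sg {g d : G} {π : Equiv.Perm (Fin 5)} {a : V5 F} {i : Fin 5}
    (hg : mt ρ g = mon π a) (hd : mt ρ d = sg F i) : mt ρ (g * d * g⁻¹) = sg F (π i) := by
  refine mt_conj_of hd ?_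
  rw [hg, sg_eq_mon, sg_eq_mon, mon_mul, mon_mul]
  refine mon_congr (by simp) fun j => ?_
  simp [mul_comm]

variable [Finite G] {S : Sylow 2 G} {c : G}

theorem BS.comm (h : BS ρ S c) {s : G} (hs : s ∈ S) : s * c = c * s := by
  obtain ⟨π, a, hπ, e⟩ := h.mono s hs
  have := mon_conj_sg e h.eq
  rw [p8_four π hπ, ← h.eq] at this
  exact mul_inv_eq_iff_eq_mul.1 (mt_inj h.hy.inj this)

theorem BS.cases (h : BS ρ S c) {d : G} (hs : d ∈ S) (hd : IsNg ρ d) :
    N1 ρ d ∨ N2 ρ d ∨ d = c := by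
  obtain ⟨π, a, hπ, e⟩ := h.mono d hs
  rcases ng_cases h.two hπ e hd with h1 | h1 | h1
  · exact Or.inl h1
  · exact Or.inr (Or.inl h1)
  · exact Or.inr (Or.inr (mt_inj h.hy.inj (h1.trans h.eq.symm)))

namespace BN

theorem n1_sq (h : Function.Injective ρ) {d : G} (hd : N1 ρ d) : d * d = 1 :=
  let ⟨_, _, h1⟩ := hd.isNg
  h1.mul_self h

theorem n2_sq (h : Function.Injective ρ) {d : G} (hd : N2 ρ d) : d * d = 1 :=
  let ⟨_, _, h1⟩ := hd.isNg
  h1.mul_self h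

theorem diag_pow (a : F) (n : ℕ) :
    (diagonal ![a, a⁻¹, 1, 1, 1] : M5 F) ^ n = diagonal ![a ^ n, (a ^ n)⁻¹, 1, 1, 1] := by
  rw [diagonal_pow]
  congr 1
  funext j
  fin_cases j <;> simp

/-- powers of `diag(a, 1/a, 1, 1, 1)` -/
theorem exists_tor_pow {s : G} (hs : s ∈ S) {a : F} (e : mt ρ s = diagonal ![a, a⁻¹, 1, 1, 1])
    {k : ℕ} (hk : a ^ 2 ^ k ≠ 1) :
    ∃ t ∈ S, ∃ b : F, b ^ 2 ^ k = -1 ∧ mt ρ t = diagonal ![b, b⁻¹, 1, 1, 1] := by
  obtain ⟨n, hn⟩ := Tech.isPGroup_iff_mem.1 S.isPGroup' s hs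
  have ha : a ^ 2 ^ n = 1 := by
    have := congrArg (mt ρ) hn
    rw [mt_pow, e, diag_pow, mt_one] at this
    simpa using congrFun (congrFun this 0) 0
  clear hn
  induction n generalizing s a with
  | zero =>
    rw [pow_zero, pow_one] at ha
    exact absurd (by rw [ha, one_pow]) hk
  | succ n ih =>
    by_cases h1 : (a ^ 2) ^ 2 ^ k = 1
    · refine ⟨s, hs, a, ?_, e⟩
      rw [← pow_mul, mul_comm, pow_mul, sq_eq_one_iff] at h1
      exact h1.resolve_left hk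
    · refine ih (s := s ^ 2) (pow_mem hs 2) (by rw [mt_pow, e, diag_pow]) h1 ?_
      rw [← pow_mul, ← pow_succ']; exact ha

theorem mt_be_be {d e : G} {μ ν : F} (hd : mt ρ d = be μ) (he : mt ρ e = be ν) :
    mt ρ (d * e) = diagonal ![μ⁻¹ * ν, (μ⁻¹ * ν)⁻¹, 1, 1, 1] := by
  rw [mt_mul, hd, he, be_mul_be, mul_inv, inv_inv]

theorem z_of_sg_be {d e : G} {μ : F} (hμ : μ ≠ 0) (hd : mt ρ d = sg F 0 ∨ mt ρ d = sg F 1)
    (he : mt ρ e = be μ) : mt ρ (d * e * d⁻¹ * e) = diagonal ![-1, -1, 1, 1, 1] ∧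
      mt ρ (e * d * e⁻¹ * d) = diagonal ![-1, -1, 1, 1, 1] := by
  rcases hd with hd | hd
  · rw [mt_mul, mt_conj_of he (by rw [hd, sg0_mul_be]), he, be_neg_mul_be hμ, mt_mul,
      mt_conj_of hd (by rw [he, be_mul_sg0]), hd, sg_comm, sg0_mul_sg1]
    exact ⟨rfl, rfl⟩
  · rw [mt_mul, mt_conj_of he (by rw [hd, sg1_mul_be]), he, be_neg_mul_be hμ, mt_mul,
      mt_conj_of hd (by rw [he, be_mul_sg1]), hd, sg0_mul_sg1]
    exact ⟨rfl, rfl⟩

end BN

theorem BS.exists_z (h : BS ρ S c) (h1 : Two S (N1 ρ)) :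
    ∃ z ∈ S, mt ρ z = diagonal ![-1, -1, 1, 1, 1] := by
  obtain ⟨d, hd, e, he, nd, ne, hne⟩ := h1
  have hS : d * e * d⁻¹ * e ∈ S := mul_mem (mul_mem (mul_mem hd he) (inv_mem hd)) he
  have hS' : e * d * e⁻¹ * d ∈ S := mul_mem (mul_mem (mul_mem he hd) (inv_mem he)) hd
  rcases nd with nd | nd | ⟨μ, hμ, nd⟩ <;> rcases ne with ne | ne | ⟨ν, hν, ne⟩
  · exact absurd (mt_inj h.hy.inj (nd.trans ne.symm)) hne
  · exact ⟨_, mul_mem hd he, by rw [mt_mul, nd, ne, sg0_mul_sg1]⟩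
  · exact ⟨_, hS, (z_of_sg_be hν (Or.inl nd) ne).1⟩
  · exact ⟨_, mul_mem he hd, by rw [mt_mul, nd, ne, sg0_mul_sg1]⟩
  · exact absurd (mt_inj h.hy.inj (nd.trans ne.symm)) hne
  · exact ⟨_, hS, (z_of_sg_be hν (Or.inr nd) ne).1⟩
  · exact ⟨_, hS', (z_of_sg_be hμ (Or.inl ne) nd).1⟩
  · exact ⟨_, hS', (z_of_sg_be hμ (Or.inr ne) nd).1⟩
  · obtain ⟨t, ht, b, hb, e1⟩ := exists_tor_pow (mul_mem hd he) (mt_be_be nd ne) (k := 0) (by
      rw [pow_zero, pow_one]
      intro e1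
      rw [inv_mul_eq_one₀ hμ] at e1
      exact hne (mt_inj h.hy.inj (by rw [nd, ne, e1])))
    rw [pow_zero, pow_one] at hb
    exact ⟨t, ht, by rw [e1, hb, inv_neg_one]⟩

/-- every element of a non-commutative component is moved to its partner -/
theorem BS.exists_swap (h : BS ρ S c) (h1 : NC S (N1 ρ)) {d : G} (hs : d ∈ S) (hd : N1 ρ d) :
    ∃ ν ∈ S, N1 ρ ν ∧ mt ρ (ν * d * ν⁻¹ * d) = diagonal ![-1, -1, 1, 1, 1] := by
  obtain ⟨a, ha, b, hb, na, nb, hab⟩ := h1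
  have hsg : ∀ {x y : G} {i j : Fin 5}, mt ρ x = sg F i → mt ρ y = sg F j → x * y = y * x :=
    fun hx hy => mt_inj h.hy.inj (by rw [mt_mul, mt_mul, hx, hy, sg_comm])
  have key : (∃ x ∈ S, ∃ μ, μ ≠ 0 ∧ mt ρ x = be μ) ∧
      ((∃ y ∈ S, mt ρ y = sg F 0 ∨ mt ρ y = sg F 1) ∨
        ∃ t ∈ S, ∃ i : F, i ^ 2 = -1 ∧ mt ρ t = diagonal ![i, i⁻¹, 1, 1, 1]) := by
    rcases na with na | na | ⟨μ, hμ, na⟩ <;> rcases nb with nb | nb | ⟨ν, hν, nb⟩
    · exact absurd (hsg na nb) hab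
    · exact absurd (hsg na nb) hab
    · exact ⟨⟨b, hb, ν, hν, nb⟩, Or.inl ⟨a, ha, Or.inl na⟩⟩
    · exact absurd (hsg na nb) hab
    · exact absurd (hsg na nb) hab
    · exact ⟨⟨b, hb, ν, hν, nb⟩, Or.inl ⟨a, ha, Or.inr na⟩⟩
    · exact ⟨⟨a, ha, μ, hμ, na⟩, Or.inl ⟨b, hb, Or.inl nb⟩⟩
    · exact ⟨⟨a, ha, μ, hμ, na⟩, Or.inl ⟨b, hb, Or.inr nb⟩⟩
    · refine ⟨⟨a, ha, μ, hμ, na⟩, Or.inr ?_⟩
      refine exists_tor_pow (mul_mem ha hb) (mt_be_be na nb) (k := 1) fun e => hab ?_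
      refine mt_inj h.hy.inj ?_
      rw [pow_one, pow_two] at e
      have e1 : ν⁻¹ * μ = μ⁻¹ * ν := by
        rw [eq_inv_of_mul_eq_one_left e, mul_inv, inv_inv, mul_comm]
      rw [mt_be_be na nb, mt_be_be nb na, e1]
  obtain ⟨⟨x, hx, μ, hμ, ex⟩, key⟩ := key
  rcases hd with hd | hd | ⟨κ, hκ, hd⟩
  · exact ⟨x, hx, Or.inr (Or.inr ⟨μ, hμ, ex⟩), (z_of_sg_be hμ (Or.inl hd) ex).2⟩
  · exact ⟨x, hx, Or.inr (Or.inr ⟨μ, hμ, ex⟩), (z_of_sg_be hμ (Or.inr hd) ex).2⟩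
  · rcases key with ⟨y, hy, ey⟩ | ⟨t, ht, i, hi, et⟩
    · exact ⟨y, hy, ey.elim Or.inl fun e => Or.inr (Or.inl e), (z_of_sg_be hκ ey hd).1⟩
    · have hi0 : i ≠ 0 := by
        rintro rfl
        simp at hi
      have e1 : mt ρ (d * t) = be (κ * i) := by rw [mt_mul, hd, et, be_mul_diag]
      have n1 : N1 ρ (d * t) := Or.inr (Or.inr ⟨_, mul_ne_zero hκ hi0, e1⟩)
      refine ⟨d * t, mul_mem hs ht, n1, ?_⟩
      have e2 : d * t * d * (d * t)⁻¹ * d = (d * t * d) ^ 2 := by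
        rw [inv_eq_of_mul_eq_one_right (n1_sq h.hy.inj n1), pow_two]
        simp only [mul_assoc]
      have e3 : ((κ * i)⁻¹ * κ) ^ 2 = -1 := by
        field_simp
        linear_combination hi
      rw [e2, mt_pow, mt_be_be e1 hd, diag_pow, e3, inv_neg_one]

theorem BS.ext (h : BS ρ S c) {d : G} (hd : IsNg ρ d) :
    ∃ g, g * d * g⁻¹ = c ∧ ∀ s ∈ S, s * d = d * s → g * s * g⁻¹ ∈ S := by
  haveI : Fact (Nat.Prime 2) := ⟨Nat.prime_two⟩
  obtain ⟨k, hk⟩ := isConj_iff.1 (h.cls d hd)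
  have hS : Tech.IsSylowIn 2 (S : Subgroup G) (centralizer {c}) :=
    Tech.IsSylowIn.of_sylow S fun s hs => mem_centralizer_singleton_iff.2 (h.comm hs)
  obtain ⟨g, hg, hle⟩ := hS.exists_cj_le
    (Q := Tech.cj k ((S : Subgroup G) ⊓ centralizer {d}))
    (Tech.isPGroup_cj k S.isPGroup'.to_inf_left)
    (by rw [Tech.cj_inf, Tech.cj_centralizer_singleton, hk]; exact inf_le_right)
  refine ⟨g * k, ?_, fun s hs hc => ?_⟩
  · calc g * k * d * (g * k)⁻¹ = g * (k * d * k⁻¹) * g⁻¹ := by group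
      _ = c := by rw [hk, mem_centralizer_singleton_iff.1 hg, mul_inv_cancel_right]
  · rw [← Tech.cj_mul] at hle
    exact Tech.cj_le_iff.1 hle s ⟨hs, mem_centralizer_singleton_iff.2 hc⟩

namespace BN

theorem n1_no_three (h2 : (2 : F) ≠ 0) (h : Function.Injective ρ) {a b e : G} (ha : N1 ρ a)
    (hb : N1 ρ b) (he : N1 ρ e) (hab : a * b = b * a) (hae : a * e = e * a) :
    a = b ∨ b = e ∨ a = e := by
  have one : ∀ {x : G}, mt ρ (a * x) = 1 → a = x := fun {x} e1 =>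
    mul_left_cancel (a := a) ((n1_sq h ha).trans (mt_inj h (e1.trans mt_one.symm)).symm)
  rcases ha.eq_of_comm h2 hb hab with e1 | e1
  · exact Or.inl (one e1)
  · rcases ha.eq_of_comm h2 he hae with e2 | e2
    · exact Or.inr (Or.inr (one e2))
    · exact Or.inr (Or.inl (mul_left_cancel (mt_inj h (e1.trans e2.symm))))

theorem n2_no_three (h2 : (2 : F) ≠ 0) (h : Function.Injective ρ) {a b e : G} (ha : N2 ρ a)
    (hb : N2 ρ b) (he : N2 ρ e) (hab : a * b = b * a) (hae : a * e = e * a) :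
    a = b ∨ b = e ∨ a = e := by
  obtain ⟨B, hB⟩ := exists_flip (G := G) (F := F)
  have h1 := (hB ρ).1
  exact n1_no_three h2 (cb_injective h B) ((h1 a).2 ha) ((h1 b).2 hb) ((h1 e).2 he) hab hae

theorem fr_perm : ∀ f : Fin 5 → Fin 3,
    (∀ i j k, f i = f j → f j = f k → i = j ∨ j = k ∨ i = k) →
    (∀ i j, f i = 2 → f j = 2 → i = j) →
    ∃ σ : Equiv.Perm (Fin 5),
      f (σ 0) = 0 ∧ f (σ 1) = 0 ∧ f (σ 2) = 1 ∧ f (σ 3) = 1 ∧ f (σ 4) = 2 := by
  decide +kernel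

end BN

/-- frames inside `S` -/
theorem BS.fr (h : BS ρ S c) {d : Fin 5 → G} (hd : Fr ρ d) (hs : ∀ i, d i ∈ S) :
    ∃ σ : Equiv.Perm (Fin 5), N1 ρ (d (σ 0)) ∧ N1 ρ (d (σ 1)) ∧ N2 ρ (d (σ 2)) ∧
      N2 ρ (d (σ 3)) ∧ d (σ 4) = c := by
  have key : ∀ i, ∃ n : Fin 3, (n = 0 → N1 ρ (d i)) ∧ (n = 1 → N2 ρ (d i)) ∧ (n = 2 → d i = c) := by
    intro i
    rcases h.cases (hs i) (hd.ng i) with e | e | e
    · exact ⟨0, fun _ => e, by simp, by simp⟩
    · exact ⟨1, by simp, fun _ => e, by simp⟩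
    · exact ⟨2, by simp, by simp, fun _ => e⟩
  choose f hf using key
  have h2 : ∀ i j, f i = 2 → f j = 2 → i = j := fun i j hi hj =>
    hd.inj (((hf i).2.2 hi).trans ((hf j).2.2 hj).symm)
  obtain ⟨σ, h0, h1, h3, h4, h5⟩ := fr_perm f (by
    intro i j k hij hjk
    have tri : ∀ n : Fin 3, n = 0 ∨ n = 1 ∨ n = 2 := by decide
    rcases tri (f k) with e | e | e
    · exact (n1_no_three h.two h.hy.inj ((hf i).1 (hij.trans (hjk.trans e)))
        ((hf j).1 (hjk.trans e)) ((hf k).1 e) (hd.comm i j) (hd.comm i k)).imp (hd.inj ·)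
        (Or.imp (hd.inj ·) (hd.inj ·))
    · exact (n2_no_three h.two h.hy.inj ((hf i).2.1 (hij.trans (hjk.trans e)))
        ((hf j).2.1 (hjk.trans e)) ((hf k).2.1 e) (hd.comm i j) (hd.comm i k)).imp (hd.inj ·)
        (Or.imp (hd.inj ·) (hd.inj ·))
    · exact Or.inr (Or.inl (h2 j k (hjk.trans e) e))) h2
  exact ⟨σ, (hf _).1 h0, (hf _).1 h1, (hf _).2.1 h3, (hf _).2.1 h4, (hf _).2.2 h5⟩

namespace BN

theorem mon_conj_diag {g d : G} {π : Equiv.Perm (Fin 5)} {a t : V5 F}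
    (hg : mt ρ g = mon π a) (hd : mt ρ d = diagonal t) :
    mt ρ (g * d * g⁻¹) = diagonal fun j => t (π.symm j) := by
  refine mt_conj_of hd ?_
  rw [hg, ← mon_one, ← mon_one, mon_mul, mon_mul]
  refine mon_congr (by simp) fun j => ?_
  simp [mul_comm]

/-- the diagonal 2-elements -/
def torSub (h : Function.Injective ρ) : Subgroup G where
  carrier := {g | (∃ t, mt ρ g = diagonal t) ∧ ∃ n, g ^ 2 ^ n = 1}
  one_mem' := ⟨⟨fun _ => 1, by rw [mt_one, diagonal_one]⟩, 0, one_pow _⟩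
  mul_mem' := by
    rintro a b ⟨⟨s, hs⟩, m, hm⟩ ⟨⟨t, ht⟩, n, hn⟩
    refine ⟨⟨_, by rw [mt_mul, hs, ht, diagonal_mul_diagonal]⟩, m + n, ?_⟩
    have hc : Commute a b := mt_inj h (by
      rw [mt_mul, mt_mul, hs, ht, diagonal_mul_diagonal, diagonal_mul_diagonal]
      simp only [mul_comm])
    rw [hc.mul_pow, pow_add, pow_mul a, hm, mul_comm (2 ^ m), pow_mul b, hn, one_pow, one_pow,
      mul_one]
  inv_mem' := by
    rintro a ⟨⟨s, hs⟩, m, hm⟩
    refine ⟨⟨fun j => (s j)⁻¹, mt_inv_eq ?_⟩, m, by rw [inv_pow, hm, inv_one]⟩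
    have h0 := ne_zero_of_mon (hs.trans (mon_one s).symm)
    rw [hs, diagonal_mul_diagonal, ← diagonal_one]
    congr 1
    funext j
    exact inv_mul_cancel₀ (h0 j)

end BN

/-- diagonal 2-elements lie in a monomial Sylow subgroup -/
theorem tor_mem (h : Function.Injective ρ) (hS : ∀ s ∈ S, ∃ π a, mt ρ s = mon π a) {g : G}
    {t : V5 F} (hg : mt ρ g = diagonal t) {n : ℕ} (hn : g ^ 2 ^ n = 1) : g ∈ S := by
  have h1 : IsPGroup 2 (torSub h) := Tech.isPGroup_iff_mem.2 fun x hx => hx.2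
  have h2 : (S : Subgroup G) ≤ normalizer (torSub h : Set G) := by
    intro s hs
    refine Tech.mem_normalizer_of_forall ?_
    rintro x ⟨⟨u, hu⟩, m, hm⟩
    obtain ⟨π, a, e⟩ := hS s hs
    exact ⟨⟨_, mon_conj_diag e hu⟩, m, by rw [conj_pow, hm, mul_one, mul_inv_cancel]⟩
  have h3 := S.is_maximal' (S.isPGroup'.to_sup_of_normal_right' h1 h2) le_sup_left
  have h4 : g ∈ (S : Subgroup G) ⊔ torSub h := mem_sup_right ⟨⟨t, hg⟩, n, hn⟩
  rw [h3] at h4
  exact h4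

end CfsgLib.D5
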