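import Cfsg.Agent.Lib.D5.BH
import Cfsg.Agent.Lib.D5.BM
import Cfsg.Agent.S0215
import Cfsg.Agent.Lib.Transfer.Thompson

/-!
BT: transfer, `Z*` and the set-up.  See `plans/D5.md`.
-/

set_option autoImplicit false

namespace CfsgLib.D5

open Matrix Cfsg Cfsg.Geo CfsgLib.Asch Subgroup
open scoped MatrixGroups

variable {G F : Type*} [Group G] [Field F] {ρ : G →* S5 F}

namespace BT

open BH

theorem n1_data {d : G} (h : N1 ρ d) : ∃ x y p q, Ng ρ d ![x, y, 0, 0, 0] ![p, q, 0, 0, 0] := by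
  rcases h with h | h | ⟨μ, hμ, h⟩
  · refine ⟨2, 0, 1, 0, h.trans ?_, by simp [dotProduct, Fin.sum_univ_five]⟩
    ext i j
    fin_cases i <;> fin_cases j <;> simp [sg, vecMulVec_apply] <;> norm_num
  · refine ⟨0, 2, 0, 1, h.trans ?_, by simp [dotProduct, Fin.sum_univ_five]⟩
    ext i j
    fin_cases i <;> fin_cases j <;> simp [sg, vecMulVec_apply] <;> norm_num
  · refine ⟨1, μ, 1, μ⁻¹, h.trans ?_, by simp [dotProduct, Fin.sum_univ_five, hμ]; norm_num⟩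
    ext i j
    fin_cases i <;> fin_cases j <;> simp [be, mon, vecMulVec_apply, hμ, Equiv.swap_apply_def]

theorem n2_data {d : G} (h : N2 ρ d) : ∃ x y p q, Ng ρ d ![0, 0, x, y, 0] ![0, 0, p, q, 0] := by
  rcases h with h | h | ⟨μ, hμ, h⟩
  · refine ⟨2, 0, 1, 0, h.trans ?_, by simp [dotProduct, Fin.sum_univ_five]⟩
    ext i j
    fin_cases i <;> fin_cases j <;> simp [sg, vecMulVec_apply] <;> norm_num
  · refine ⟨0, 2, 0, 1, h.trans ?_, by simp [dotProduct, Fin.sum_univ_five]⟩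
    ext i j
    fin_cases i <;> fin_cases j <;> simp [sg, vecMulVec_apply] <;> norm_num
  · refine ⟨1, μ, 1, μ⁻¹, h.trans ?_, by simp [dotProduct, Fin.sum_univ_five, hμ]; norm_num⟩
    ext i j
    fin_cases i <;> fin_cases j <;> simp [ga, mon, vecMulVec_apply, hμ, Equiv.swap_apply_def]

theorem c_data {d : G} (h : mt ρ d = sg F 4) : Ng ρ d ![0, 0, 0, 0, 2] ![0, 0, 0, 0, 1] := by
  refine ⟨h.trans ?_, by simp [dotProduct, Fin.sum_univ_five]⟩
  ext i j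
  fin_cases i <;> fin_cases j <;> simp [sg, vecMulVec_apply] <;> norm_num

/-- the first plane -/
def P1 (w : V5 F) : Prop := w 2 = 0 ∧ w 3 = 0 ∧ w 4 = 0

/-- the second plane -/
def P2 (w : V5 F) : Prop := w 0 = 0 ∧ w 1 = 0 ∧ w 4 = 0

theorem p8_cases : ∀ π, P8 π → π 4 = 4 ∧
    (((π 0 = 0 ∧ π 1 = 1 ∨ π 0 = 1 ∧ π 1 = 0) ∧ (π 2 = 2 ∧ π 3 = 3 ∨ π 2 = 3 ∧ π 3 = 2)) ∨
      ((π 0 = 2 ∧ π 1 = 3 ∨ π 0 = 3 ∧ π 1 = 2) ∧ (π 2 = 0 ∧ π 3 = 1 ∨ π 2 = 1 ∧ π 3 = 0))) := by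
  decide +kernel

theorem planes {π : Equiv.Perm (Fin 5)} (hπ : P8 π) (a : V5 F) :
    ((∀ w, P1 w → P1 (mon π a *ᵥ w)) ∧ ∀ w, P2 w → P2 (mon π a *ᵥ w)) ∨
      ((∀ w, P1 w → P2 (mon π a *ᵥ w)) ∧ ∀ w, P2 w → P1 (mon π a *ᵥ w)) := by
  have z : ∀ (w : V5 F) {j k : Fin 5}, π j = k → w j = 0 → (mon π a *ᵥ w) k = 0 := by
    rintro w j _ rfl h
    rw [mon_mulVec, h, mul_zero]
  obtain ⟨e4, ⟨h1, h2⟩ | ⟨h1, h2⟩⟩ := p8_cases π hπ
  · refine Or.inl ⟨fun w ⟨a, b, c⟩ => ?_, fun w ⟨a, b, c⟩ => ?_⟩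
    · rcases h2 with ⟨e, e'⟩ | ⟨e, e'⟩
      exacts [⟨z w e a, z w e' b, z w e4 c⟩, ⟨z w e' b, z w e a, z w e4 c⟩]
    · rcases h1 with ⟨e, e'⟩ | ⟨e, e'⟩
      exacts [⟨z w e a, z w e' b, z w e4 c⟩, ⟨z w e' b, z w e a, z w e4 c⟩]
  · refine Or.inr ⟨fun w ⟨a, b, c⟩ => ?_, fun w ⟨a, b, c⟩ => ?_⟩
    · rcases h2 with ⟨e, e'⟩ | ⟨e, e'⟩
      exacts [⟨z w e a, z w e' b, z w e4 c⟩, ⟨z w e' b, z w e a, z w e4 c⟩]
    · rcases h1 with ⟨e, e'⟩ | ⟨e, e'⟩
      exacts [⟨z w e a, z w e' b, z w e4 c⟩, ⟨z w e' b, z w e a, z w e4 c⟩]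

theorem fix_e4 {π : Equiv.Perm (Fin 5)} (hπ : P8 π) (a : V5 F) :
    mon π a *ᵥ ![0, 0, 0, 0, 1] = a 4 • ![0, 0, 0, 0, 1] := by
  funext i
  obtain ⟨j, rfl⟩ := π.surjective i
  rw [mon_mulVec]
  have e4 := (p8_cases π hπ).1
  by_cases h : j = 4
  · subst h; simp [e4]
  · have h' : π j ≠ 4 := fun e => h (π.injective (e.trans e4.symm))
    have : ∀ k : Fin 5, k ≠ 4 → (![0, 0, 0, 0, 1] : V5 F) k = 0 := fun k hk => by
      fin_cases k <;> simp at hk ⊢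
    rw [Pi.smul_apply, this j h, this _ h', mul_zero, smul_zero]

theorem line1 (h2 : (2 : F) ≠ 0) {d : G} {x y p q : F}
    (h : Ng ρ d ![x, y, 0, 0, 0] ![p, q, 0, 0, 0]) {w : V5 F} (hw : P1 w)
    (h0 : ![p, q, 0, 0, 0] ⬝ᵥ w = 0) : ∃ a : F, w = a • ![q, -p, 0, 0, 0] := by
  have := h.dot
  simp [dotProduct, Fin.sum_univ_five] at this h0
  refine ⟨(y * w 0 - x * w 1) / 2, funext fun i => ?_⟩
  fin_cases i
  · simp; field_simp; linear_combination x * h0 - w 0 * this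
  · simp; field_simp; linear_combination y * h0 - w 1 * this
  · simpa using hw.1
  · simpa using hw.2.1
  · simpa using hw.2.2

theorem line2 (h2 : (2 : F) ≠ 0) {d : G} {x y p q : F}
    (h : Ng ρ d ![0, 0, x, y, 0] ![0, 0, p, q, 0]) {w : V5 F} (hw : P2 w)
    (h0 : ![0, 0, p, q, 0] ⬝ᵥ w = 0) : ∃ a : F, w = a • ![0, 0, q, -p, 0] := by
  have := h.dot
  simp [dotProduct, Fin.sum_univ_five] at this h0
  refine ⟨(y * w 2 - x * w 3) / 2, funext fun i => ?_⟩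
  fin_cases i
  · simpa using hw.1
  · simpa using hw.2.1
  · simp; field_simp; linear_combination x * h0 - w 2 * this
  · simp; field_simp; linear_combination y * h0 - w 3 * this
  · simpa using hw.2.2

/-- the basis of eigenvectors of two negative reflections -/
def nb (h2 : (2 : F) ≠ 0) {x y p q x' y' p' q' : F} (h : p * x + q * y = 2)
    (h' : p' * x' + q' * y' = 2) : GL (Fin 5) F :=
  have e : ((2 : F)⁻¹ • !![p, q, 0, 0, 0; 0, 0, p', q', 0; y, -x, 0, 0, 0; 0, 0, y', -x', 0;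
      0, 0, 0, 0, 2]) * !![x, 0, q, 0, 0; y, 0, -p, 0, 0; 0, x', 0, q', 0; 0, y', 0, -p', 0;
      0, 0, 0, 0, 1] = 1 := by
    ext i j
    fin_cases i <;> fin_cases j <;> simp [mul_apply, Fin.sum_univ_five] <;> field_simp <;>
      first | ring1 | linear_combination h | linear_combination h'
  ⟨_, _, mul_eq_one_comm.1 e, e⟩

variable [Finite G] {S : Sylow 2 G} {c : G}

theorem n1_of (h : BS ρ S c) {d : G} (hs : d ∈ S) {v φ : V5 F} (hd : Ng ρ d v φ) (hv : P1 v) :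
    N1 ρ d := by
  have hne := ng_v_ne h.two hd
  obtain ⟨a, b, e⟩ := hv
  rcases h.cases hs ⟨_, _, hd⟩ with h1 | h1 | rfl
  · exact h1
  · obtain ⟨x, y, p, q, h1⟩ := n2_data h1
    have := ng_fix h.two h1 (ng_self hd)
    refine absurd (funext fun i => ?_) hne
    fin_cases i
    · simpa using congrFun this 0
    · simpa using congrFun this 1
    exacts [a, b, e]
  · have := ng_fix h.two (c_data h.eq) (ng_self hd)
    refine absurd (funext fun i => ?_) hne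
    fin_cases i
    · simpa using congrFun this 0
    · simpa using congrFun this 1
    exacts [a, b, e]

theorem n2_of (h : BS ρ S c) {d : G} (hs : d ∈ S) {v φ : V5 F} (hd : Ng ρ d v φ) (hv : P2 v) :
    N2 ρ d := by
  have hne := ng_v_ne h.two hd
  obtain ⟨a, b, e⟩ := hv
  rcases h.cases hs ⟨_, _, hd⟩ with h1 | h1 | rfl
  · obtain ⟨x, y, p, q, h1⟩ := n1_data h1
    have := ng_fix h.two h1 (ng_self hd)
    refine absurd (funext fun i => ?_) hne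
    fin_cases i
    exacts [a, b, by simpa using congrFun this 2, by simpa using congrFun this 3, e]
  · exact h1
  · have := ng_fix h.two (c_data h.eq) (ng_self hd)
    refine absurd (funext fun i => ?_) hne
    fin_cases i
    exacts [a, b, by simpa using congrFun this 2, by simpa using congrFun this 3, e]

end BT

open BH BT

variable [Finite G]

theorem line_fixed (h2 : (2 : F) ≠ 0) (h : Hy ρ) (S : Sylow 2 G) {v : V5 F} (hv : v ≠ 0)
    (hS : ∀ s ∈ S, ∃ a : F, mt ρ s *ᵥ v = a • v) {d : G} (hd : IsNg ρ d) :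
    ∃ g, g * d * g⁻¹ ∈ S ∧ mt ρ (g * d * g⁻¹) *ᵥ v = v := by
  by_contra hn
  push Not at hn
  choose a ha using hS
  have inj : ∀ {x y : F}, x • v = y • v → x = y := fun e => smul_left_injective F hv e
  have a0 : ∀ s hs, a s hs ≠ 0 := fun s hs e => mulVec_ne (ρ := ρ) (s := s) hv (by
    rw [ha s hs, e, zero_smul])
  let χ : (S : Subgroup G) →* Fˣ := MonoidHom.mk' (fun s => Units.mk0 (a s s.2) (a0 s s.2))
    fun s t => Units.ext (inj (by
      show a _ (s * t).2 • v = (a s s.2 * a t t.2) • v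
      rw [← ha, Subgroup.coe_mul, mt_mul, ← mulVec_mulVec, ha t t.2, mulVec_smul, ha s s.2,
        smul_smul, mul_comm]))
  have hdd : d * d = 1 := by
    obtain ⟨_, _, hd⟩ := hd
    exact hd.mul_self h.inj
  have key := Transfer.transfer_eq_pow_of_forall χ d (-1) fun k t ht _ => by
    rcases Nat.even_or_odd' k with ⟨m, rfl | rfl⟩
    · have e : t⁻¹ * d ^ (2 * m) * t = 1 := by rw [pow_mul, pow_two, hdd]; simp
      rw [show (⟨_, ht⟩ : (S : Subgroup G)) = 1 from Subtype.ext e, map_one, pow_mul]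
      simp
    · have e : t⁻¹ * d ^ (2 * m + 1) * t = t⁻¹ * d * t⁻¹⁻¹ := by
        rw [pow_succ, pow_mul, pow_two, hdd]; simp
      have h1 : χ ⟨_, ht⟩ * χ ⟨_, ht⟩ = 1 := by
        rw [← map_mul, ← map_one χ]
        congr 1
        refine Subtype.ext ?_
        show t⁻¹ * d ^ (2 * m + 1) * t * (t⁻¹ * d ^ (2 * m + 1) * t) = 1
        rw [e]
        calc _ = t⁻¹ * (d * d) * t := by group
          _ = 1 := by rw [hdd]; group
      have h3 : (χ ⟨_, ht⟩ : F) ≠ 1 := fun e' => hn t⁻¹ (e ▸ ht) (by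
        have := ha _ ht
        rw [show a _ ht = 1 from e', one_smul, e] at this
        exact this)
      rw [(odd_two_mul_add_one m).neg_one_pow]
      exact Units.ext ((mul_self_eq_one_iff.1 (congrArg Units.val h1)).resolve_left h3)
  have hodd : Odd (S : Subgroup G).index :=
    Nat.not_even_iff_odd.1 fun e => S.not_dvd_index e.two_dvd
  rw [h.qs.hom_eq_one, hodd.neg_one_pow] at key
  have : (1 : F) = -1 := congrArg Units.val key
  exact h2 (by linear_combination this)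

theorem not_isolated (h : Hy ρ) (S : Sylow 2 G) {u : G} (hu : orderOf u = 2) (hs : u ∈ S) :
    ∃ g, g * u * g⁻¹ ∈ S ∧ g * u * g⁻¹ ≠ u := by
  by_contra hn
  push Not at hn
  obtain ⟨N, hN, hodd, hc⟩ := Cfsg.Agent.S0215.result S u hu hs hn
  have hu2 : u * u = 1 := by rw [← pow_two, ← hu, pow_orderOf_eq_one]
  have one : ∀ z ∈ center G, z * z = 1 → z = 1 := fun z hz e => by
    have := h.pow_five hz
    rwa [show z ^ 5 = (z * z) * (z * z) * z by simp [pow_succ, mul_assoc], e, one_mul, one_mul] at this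
  rcases h.qs.nrm N hN with e | rfl
  · have : u ∈ center G := Subgroup.mem_center_iff.2 fun g => by
      have hz := e (hc g)
      have h1 := one _ hz (by
        have h2 := Subgroup.mem_center_iff.1 hz u
        calc _ = u * g * u⁻¹ * g⁻¹ * u * (g * u⁻¹ * g⁻¹) := by group
          _ = u * u * g * (u * u)⁻¹ * g⁻¹ := by rw [← h2]; simp [mul_assoc]
          _ = 1 := by rw [hu2]; group)
      calc g * u = 1 * g * u := by group
        _ = u * g * u⁻¹ * g⁻¹ * g * u := by rw [h1]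
        _ = u * g := by group
    rw [one u this hu2, orderOf_one] at hu
    omega
  · rw [card_top] at hodd
    exact hodd.not_two_dvd_nat (hu ▸ orderOf_dvd_natCard u)

namespace BT

variable {S : Sylow 2 G} {c : G}

/-- a unique `N2` element forces an interchange of the planes -/
theorem two_of_unique (h : BS ρ S c) {d : G} (hs : d ∈ S) (hd : N2 ρ d)
    (hu : ∀ e ∈ S, N2 ρ e → e = d) : ∃ d' ∈ S, N1 ρ d' ∧ ∀ e ∈ S, N1 ρ e → e = d' := by
  obtain ⟨x, y, p, q, hd⟩ := n2_data hd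
  have hdot := hd.dot
  by_cases hx : ∃ s ∈ S, (∀ w, P1 w → P2 (mt ρ s *ᵥ w)) ∧ ∀ w, P2 w → P1 (mt ρ s *ᵥ w)
  · obtain ⟨s, hs', h1, h2⟩ := hx
    have key : ∀ e ∈ S, N1 ρ e → e = s⁻¹ * d * s := fun e he h3 => by
      obtain ⟨x, y, p, q, h3⟩ := n1_data h3
      rw [← hu _ (mul_mem (mul_mem hs' he) (inv_mem hs'))
        (n2_of h (mul_mem (mul_mem hs' he) (inv_mem hs')) (h3.conj s) (h1 _ ⟨rfl, rfl, rfl⟩))]
      group
    have m := mul_mem (mul_mem hs' hs) (inv_mem hs')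
    have h4 := n1_of h m (hd.conj s) (h2 _ ⟨rfl, rfl, rfl⟩)
    exact ⟨_, m, h4, fun e he h3 => (key e he h3).trans (key _ m h4).symm⟩
  exfalso
  have hf : (![0, 0, q, -p, 0] : V5 F) ≠ 0 := fun e => by
    have e2 := congrFun e 2
    have e3 := congrFun e 3
    simp at e2 e3
    simp [e2, e3, dotProduct, Fin.sum_univ_five, h.two.symm] at hdot
  have h0 : (![0, 0, p, q, 0] : V5 F) ⬝ᵥ ![0, 0, q, -p, 0] = 0 := by
    simp [dotProduct, Fin.sum_univ_five, mul_comm]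
  obtain ⟨g, hg, e⟩ := line_fixed h.two h.hy S hf (fun s hs' => by
    obtain ⟨π, a, hπ, ha⟩ := h.mono s hs'
    have m := mul_mem (mul_mem hs' hs) (inv_mem hs')
    rcases ha ▸ planes hπ a with ⟨-, h2⟩ | h2
    · exact line2 h.two hd (h2 _ ⟨rfl, rfl, rfl⟩) (ng_map_neg h.two hd hd
        (hu _ m (n2_of h m (hd.conj s) (h2 _ ⟨rfl, rfl, rfl⟩))) h0)
    · exact absurd ⟨s, hs', h2⟩ hx) ⟨_, _, hd⟩
  have neg : mt ρ (g * d * g⁻¹) *ᵥ ![0, 0, q, -p, 0] = -![0, 0, q, -p, 0] := by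
    rcases h.cases hg (IsNg.conj ⟨_, _, hd⟩ g) with h1 | h1 | h1
    · obtain ⟨x, y, p, q, h1⟩ := n1_data h1
      exact (ng_neg h.two h1).2 (by simp [dotProduct, Fin.sum_univ_five])
    · rw [hu _ hg h1]
      exact (ng_neg h.two hd).2 h0
    · rw [h1]
      exact (ng_neg h.two (c_data h.eq)).2 (by simp [dotProduct, Fin.sum_univ_five])
  rw [e, eq_neg_iff_add_eq_zero, ← two_smul F, smul_eq_zero] at neg
  exact neg.elim h.two hf

/-- exactly one `N1` and one `N2` element: change the basis -/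
theorem one_one (h : BS ρ S c) {d d' : G} (hs : d ∈ S) (hd : N1 ρ d)
    (hu : ∀ e ∈ S, N1 ρ e → e = d) (hs' : d' ∈ S) (hd' : N2 ρ d')
    (hu' : ∀ e ∈ S, N2 ρ e → e = d') : ∃ B, BS (cb ρ B) S c ∧ Two S (N1 (cb ρ B)) ∧
      ∀ e ∈ S, ¬ N2 (cb ρ B) e := by
  have hne : d ≠ d' := fun e => hd.not_N2 h.two (e ▸ hd')
  obtain ⟨x, y, p, q, hd⟩ := n1_data hd
  obtain ⟨x', y', p', q', hd'⟩ := n2_data hd'
  have e1 : p * x + q * y = 2 := by simpa [dotProduct, Fin.sum_univ_five] using hd.dot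
  have e2 : p' * x' + q' * y' = 2 := by simpa [dotProduct, Fin.sum_univ_five] using hd'.dot
  have h0 : (![p, q, 0, 0, 0] : V5 F) ⬝ᵥ ![q, -p, 0, 0, 0] = 0 := by
    simp [dotProduct, Fin.sum_univ_five, mul_comm]
  have h0' : (![0, 0, p', q', 0] : V5 F) ⬝ᵥ ![0, 0, q', -p', 0] = 0 := by
    simp [dotProduct, Fin.sum_univ_five, mul_comm]
  let B := nb h.two e1 e2
  have col : ∀ j, (B : M5 F).col j = ![![x, y, 0, 0, 0], ![0, 0, x', y', 0], ![q, -p, 0, 0, 0],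
      ![0, 0, q', -p', 0], ![0, 0, 0, 0, 1]] j := fun j => by
    funext i
    fin_cases i <;> fin_cases j <;> rfl
  have sgk : ∀ {e : G} {v φ : V5 F} (k : Fin 5), Ng ρ e v φ →
      (∀ j, j ≠ k → φ ⬝ᵥ (B : M5 F).col j = 0) → mt ρ e *ᵥ (B : M5 F).col k = (B : M5 F).col k →
      mt (cb ρ B) e = sg F k := fun k he h1 h2 => by
    rw [sg, ← mon_one]
    refine cb_of_cols B fun j => ?_
    by_cases e : j = k
    · simp [e, h2]
    · simp [e, (ng_neg h.two he).2 (h1 j e)]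
  have s0 := sgk 0 hd (fun j hj => by
    rw [col]; fin_cases j <;> simp [dotProduct, Fin.sum_univ_five, mul_comm] at hj ⊢)
    (by rw [col]; exact ng_self hd)
  have s1 := sgk 1 hd' (fun j hj => by
    rw [col]; fin_cases j <;> simp [dotProduct, Fin.sum_univ_five, mul_comm] at hj ⊢)
    (by rw [col]; exact ng_self hd')
  have s4 := sgk 4 (c_data h.eq) (fun j hj => by
    rw [col]; fin_cases j <;> simp [dotProduct, Fin.sum_univ_five] at hj ⊢)
    (by rw [col, ng_mulVec (c_data h.eq)]; funext i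
        fin_cases i <;> simp [dotProduct, Fin.sum_univ_five]; norm_num)
  refine ⟨B, ⟨h.hy.cb B, h.two, fun s hs1 => ?_, h.mem, s4, fun e he => h.cls e ((isNg_cb B).1 he)⟩,
    ⟨d, hs, d', hs', Or.inl s0, Or.inr (Or.inl s1), hne⟩, fun e he h3 => ?_⟩
  · obtain ⟨π, a, hπ, ha⟩ := h.mono s hs1
    have m := mul_mem (mul_mem hs1 hs) (inv_mem hs1)
    have m' := mul_mem (mul_mem hs1 hs') (inv_mem hs1)
    have f4 := ha ▸ fix_e4 hπ a
    rcases ha ▸ planes hπ a with ⟨h1, h2⟩ | ⟨h1, h2⟩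
    · have c1 := hu _ m (n1_of h m (hd.conj s) (h1 _ ⟨rfl, rfl, rfl⟩))
      have c2 := hu' _ m' (n2_of h m' (hd'.conj s) (h2 _ ⟨rfl, rfl, rfl⟩))
      obtain ⟨a0, f0⟩ := ng_map h.two hd hd c1
      obtain ⟨a1, f1⟩ := ng_map h.two hd' hd' c2
      obtain ⟨a2, f2⟩ := line1 h.two hd (h1 _ ⟨rfl, rfl, rfl⟩) (ng_map_neg h.two hd hd c1 h0)
      obtain ⟨a3, f3⟩ := line2 h.two hd' (h2 _ ⟨rfl, rfl, rfl⟩) (ng_map_neg h.two hd' hd' c2 h0')
      refine ⟨1, ![a0, a1, a2, a3, a 4], p8_one, cb_of_cols B fun j => ?_⟩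
      rw [col, col]
      fin_cases j
      exacts [f0, f1, f2, f3, f4]
    · have c1 := hu' _ m (n2_of h m (hd.conj s) (h1 _ ⟨rfl, rfl, rfl⟩))
      have c2 := hu _ m' (n1_of h m' (hd'.conj s) (h2 _ ⟨rfl, rfl, rfl⟩))
      obtain ⟨a0, f0⟩ := ng_map h.two hd hd' c1
      obtain ⟨a1, f1⟩ := ng_map h.two hd' hd c2
      obtain ⟨a2, f2⟩ := line2 h.two hd' (h1 _ ⟨rfl, rfl, rfl⟩) (ng_map_neg h.two hd hd' c1 h0)
      obtain ⟨a3, f3⟩ := line1 h.two hd (h2 _ ⟨rfl, rfl, rfl⟩) (ng_map_neg h.two hd' hd c2 h0')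
      refine ⟨Equiv.swap 0 1 * Equiv.swap 2 3, ![a0, a1, a2, a3, a 4], rfl,
        cb_of_cols B fun j => ?_⟩
      rw [col, col]
      fin_cases j
      exacts [f0, f1, f2, f3, f4]
  · rcases h.cases he ((isNg_cb B).1 h3.isNg) with h4 | h4 | h4
    · exact N1.not_N2 h.two (Or.inl s0) (hu e he h4 ▸ h3)
    · exact N1.not_N2 h.two (Or.inr (Or.inl s1)) (hu' e he h4 ▸ h3)
    · exact h3.ne_sg h.two (h4 ▸ s4)

omit [Finite G] in
theorem two_or {N : G → Prop} {S : Subgroup G} :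
    (∀ d ∈ S, ¬ N d) ∨ Two S N ∨ ∃ d ∈ S, N d ∧ ∀ e ∈ S, N e → e = d := by
  by_contra hn
  push Not at hn
  obtain ⟨⟨d, hs, hd⟩, h2, h3⟩ := hn
  obtain ⟨e, he, he', hne⟩ := h3 d hs hd
  exact h2 ⟨e, he, d, hs, he', hd, hne⟩

theorem of_bs (h : BS ρ S c) : ∃ B, BS (cb ρ B) S c ∧ Two S (N1 (cb ρ B)) ∧
    (Two S (N2 (cb ρ B)) ∨ ∀ d ∈ S, ¬ N2 (cb ρ B) d) := by
  obtain ⟨B, hB⟩ := exists_flip (G := G) (F := F)
  obtain ⟨f1, f2, f3, f4, -⟩ := hB ρ
  have h' : BS (cb ρ B) S c := ⟨h.hy.cb B, h.two, f4 _ h.mono, h.mem, (f3 c).2 h.eq,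
    fun e he => h.cls e ((isNg_cb B).1 he)⟩
  have e1 : N1 (cb ρ B) = N2 ρ := funext fun d => propext (f1 d)
  have e2 : N2 (cb ρ B) = N1 ρ := funext fun d => propext (f2 d)
  rcases two_or (S := S) (N := N2 ρ) with h2 | h2 | ⟨d', hs', hd', hu'⟩
  rotate_right
  · obtain ⟨d, hs, hd, hu⟩ := two_of_unique h hs' hd' hu'
    obtain ⟨B, a, b, c⟩ := one_one h hs hd hu hs' hd' hu'
    exact ⟨B, a, b, Or.inr c⟩
  all_goals rcases two_or (S := S) (N := N1 ρ) with h1 | h1 | ⟨d, hs, hd, hu⟩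
  · have hc := isNg_sg h.eq
    have ho : orderOf c = 2 := by
      obtain ⟨v, φ, hc'⟩ := hc
      refine orderOf_eq_prime (by rw [pow_two, hc'.mul_self h.hy.inj]) fun e => ?_
      have := congrFun (congrFun h.eq 0) 0
      simp [e, mt_one, sg] at this
      exact h.two (by linear_combination this)
    obtain ⟨g, hg, hne⟩ := not_isolated h.hy S ho h.mem
    rcases h.cases hg (hc.conj g) with h3 | h3 | h3
    exacts [absurd h3 (h1 _ hg), absurd h3 (h2 _ hg), absurd h3 hne]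
  · exact ⟨1, by rw [cb_one]; exact ⟨h, h1, Or.inr h2⟩⟩
  · obtain ⟨d', hs', hd', -⟩ := two_of_unique h' hs (e2 ▸ hd) (e2 ▸ hu)
    exact absurd (e1 ▸ hd') (h2 d' hs')
  · exact ⟨B, h', e1 ▸ h2, Or.inr (e2 ▸ h1)⟩
  · exact ⟨1, by rw [cb_one]; exact ⟨h, h1, Or.inl h2⟩⟩
  · obtain ⟨d', hs', hd', hu'⟩ := two_of_unique h' hs (e2 ▸ hd) (e2 ▸ hu)
    obtain ⟨a, ha, b, hb, na, nb, hab⟩ := h2
    exact absurd ((hu' a ha (e1 ▸ na)).trans (hu' b hb (e1 ▸ nb)).symm) hab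

end BT

theorem exists_bs [IsAlgClosed F] (h2 : (2 : F) ≠ 0) (h : Hy ρ) (hd : ∃ d, IsNg ρ d)
    (S : Sylow 2 G) : ∃ B c, BS (cb ρ B) S c ∧ Two S (N1 (cb ρ B)) ∧
      (Two S (N2 (cb ρ B)) ∨ ∀ d ∈ S, ¬ N2 (cb ρ B) d) := by
  obtain ⟨B, hB⟩ := exists_mono (ρ := ρ) h2 S.isPGroup'
  have hf : (![0, 0, 0, 0, 1] : V5 F) ≠ 0 := fun e => by simpa using congrFun e 4
  have key : ∀ d, IsNg (cb ρ B) d → ∃ g, g * d * g⁻¹ ∈ S ∧ mt (cb ρ B) (g * d * g⁻¹) = sg F 4 := by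
    intro d hd
    obtain ⟨g, hg, e⟩ := line_fixed h2 (h.cb B) S hf (fun s hs => by
      obtain ⟨π, a, hπ, ha⟩ := hB s hs
      exact ⟨_, ha ▸ fix_e4 hπ a⟩) hd
    obtain ⟨π, a, hπ, ha⟩ := hB _ hg
    have neg : mt (cb ρ B) (g * d * g⁻¹) *ᵥ ![0, 0, 0, 0, 1] ≠ -![0, 0, 0, 0, 1] := fun e' => by
      rw [e, eq_neg_iff_add_eq_zero, ← two_smul F, smul_eq_zero] at e'
      exact e'.elim h2 hf
    rcases ng_cases h2 hπ ha (hd.conj g) with h1 | h1 | h1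
    · obtain ⟨x, y, p, q, h1⟩ := n1_data h1
      exact absurd ((ng_neg h2 h1).2 (by simp [dotProduct, Fin.sum_univ_five])) neg
    · obtain ⟨x, y, p, q, h1⟩ := n2_data h1
      exact absurd ((ng_neg h2 h1).2 (by simp [dotProduct, Fin.sum_univ_five])) neg
    · exact ⟨g, hg, h1⟩
  obtain ⟨d, hd⟩ := hd
  obtain ⟨g, hg, e⟩ := key d ((isNg_cb B).2 hd)
  have hbs : BS (cb ρ B) S (g * d * g⁻¹) := ⟨h.cb B, h2, hB, hg, e, fun d' hd' => by
    obtain ⟨g', -, e'⟩ := key d' hd'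
    exact isConj_iff.2 ⟨g', mt_inj (h.cb B).inj (e'.trans e.symm)⟩⟩
  obtain ⟨B', hB'⟩ := of_bs hbs
  rw [cb_cb] at hB'
  exact ⟨_, _, hB'⟩

end CfsgLib.D5
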