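import Cfsg.Agent.Lib.D5.Defs
import Cfsg.Agent.Lib.Tech.SylowIn

/-!
C1: characteristic two without transvections.  See `plans/D5.md`.
-/

set_option autoImplicit false

namespace CfsgLib.D5

open Matrix Cfsg Cfsg.Geo CfsgLib.Asch Subgroup
open scoped MatrixGroups

variable {G F : Type*} [Group G] [Field F] {ρ : G →* S5 F}

namespace C1p

/-- the stabiliser in `S` of a vector modulo an invariant subspace -/
def stab (ρ : G →* S5 F) (S : Subgroup G) (W : Submodule F (V5 F))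
    (hW : ∀ s ∈ S, ∀ x ∈ W, mt ρ s *ᵥ x ∈ W) (v : V5 F) : Subgroup G where
  carrier := {g | g ∈ S ∧ mt ρ g *ᵥ v - v ∈ W}
  one_mem' := ⟨one_mem _, by simp [mt_one]⟩
  mul_mem' := fun {a b} ha hb => ⟨mul_mem ha.1 hb.1, by
    have := add_mem (hW a ha.1 _ hb.2) ha.2
    rwa [mulVec_sub, mulVec_mulVec, ← mt_mul, sub_add_sub_cancel] at this⟩
  inv_mem' := fun {a} ha => ⟨inv_mem ha.1, by
    have := neg_mem (hW _ (inv_mem ha.1) _ ha.2)
    rwa [mulVec_sub, mulVec_mulVec, mt_inv_mul, one_mulVec, neg_sub] at this⟩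

theorem exists_fix [Finite G] [CharP F 2] {S : Subgroup G} (hS : IsPGroup 2 S)
    {W : Submodule F (V5 F)} (hW : ∀ s ∈ S, ∀ x ∈ W, mt ρ s *ᵥ x ∈ W) (h : W ≠ ⊤) :
    ∃ v ∉ W, ∀ s ∈ S, mt ρ s *ᵥ v - v ∈ W := by
  obtain ⟨w, -, hw⟩ := SetLike.exists_of_lt (lt_top_iff_ne_top.2 h)
  obtain ⟨_, ⟨v, hv, rfl⟩, hm⟩ := exists_maximal_of_wellFoundedGT
    (fun T : Subgroup G => ∃ v ∉ W, T = stab ρ S W hW v) ⟨_, w, hw, rfl⟩
  refine ⟨v, hv, fun s hs => ?_⟩
  rcases (show stab ρ S W hW v ≤ S from fun _ h => h.1).eq_or_lt with e | hlt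
  · exact (e.ge hs).2
  exfalso
  obtain ⟨x, hx, hxT, hn⟩ := Tech.exists_mem_normalizer_of_lt hS hlt
  obtain ⟨k, hk⟩ := hS ⟨x, hx⟩
  have hk' : x ^ 2 ^ k ∈ stab ρ S W hW v := by
    rw [show x ^ 2 ^ k = 1 from congrArg Subtype.val hk]; exact one_mem _
  clear hk
  induction k generalizing x with
  | zero => exact hxT (by simpa using hk')
  | succ k ih =>
    by_cases h2 : x * x ∈ stab ρ S W hW v
    swap
    · exact ih (x * x) (mul_mem hx hx) h2 (mul_mem hn hn)
        (by rw [← sq, ← pow_mul, ← pow_succ']; exact hk')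
    have hle : stab ρ S W hW v ≤ stab ρ S W hW (mt ρ x *ᵥ v - v) := fun t ht => ⟨ht.1, by
      have := sub_mem (hW x hx _ ((mem_normalizer_iff''.1 hn t).1 ht).2) ht.2
      rw [mulVec_sub, mulVec_mulVec, ← mt_mul, ← mul_assoc, mul_inv_cancel_left] at this
      rw [mulVec_sub, mulVec_mulVec, ← mt_mul]
      convert this using 1
      abel⟩
    refine hxT (hm ⟨_, fun h => hxT ⟨hx, h⟩, rfl⟩ hle ⟨hx, ?_⟩)
    rw [mulVec_sub, mulVec_mulVec, ← mt_mul]
    convert h2.2 using 1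
    ext i
    simp only [Pi.sub_apply]
    linear_combination -CharTwo.add_self_eq_zero ((mt ρ x *ᵥ v) i) + CharTwo.add_self_eq_zero (v i)

theorem exists_flag [Finite G] [CharP F 2] {S : Subgroup G} (hS : IsPGroup 2 S) (k : ℕ)
    (hk : k ≤ 5) : ∃ v : Fin k → V5 F, LinearIndependent F v ∧ ∀ s ∈ S, ∀ j, ∃ c : Fin k → F,
      (∀ i, j ≤ i → c i = 0) ∧ mt ρ s *ᵥ v j = v j + ∑ i, c i • v i := by
  induction k with
  | zero => exact ⟨Fin.elim0, linearIndependent_empty_type, fun _ _ j => j.elim0⟩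
  | succ k ih =>
    obtain ⟨v, hv, h⟩ := ih (by omega)
    obtain ⟨w, hw, h'⟩ := exists_fix (ρ := ρ) hS (W := Submodule.span F (Set.range v))
      (fun s hs x hx => by
        induction hx using Submodule.span_induction with
        | mem x hx =>
          obtain ⟨j, rfl⟩ := hx
          obtain ⟨c, -, e⟩ := h s hs j
          rw [e]
          exact add_mem (Submodule.subset_span ⟨j, rfl⟩) (sum_mem fun i _ =>
            Submodule.smul_mem _ _ (Submodule.subset_span ⟨i, rfl⟩))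
        | zero => rw [mulVec_zero]; exact zero_mem _
        | add x y _ _ hx hy => rw [mulVec_add]; exact add_mem hx hy
        | smul c x _ hx => rw [mulVec_smul]; exact Submodule.smul_mem _ _ hx)
      (fun e => by
        have := finrank_span_eq_card hv
        rw [e] at this
        simp at this
        omega)
    refine ⟨Fin.snoc v w, linearIndependent_finSnoc.2 ⟨hv, hw⟩, fun s hs j => ?_⟩
    induction j using Fin.lastCases with
    | last =>
      obtain ⟨c, hc⟩ := (Submodule.mem_span_range_iff_exists_fun F).1 (h' s hs)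
      refine ⟨Fin.snoc c 0, fun i hi => by rw [Fin.last_le_iff.1 hi, Fin.snoc_last], ?_⟩
      simp [Fin.sum_univ_castSucc, hc]
    | cast j =>
      obtain ⟨c, h0, e⟩ := h s hs j
      refine ⟨Fin.snoc c 0, fun i hi => ?_, by simp [Fin.sum_univ_castSucc, e]⟩
      induction i using Fin.lastCases with
      | last => simp
      | cast i => simpa using h0 i (by simpa using hi)

/-- unitriangular matrices -/
def ut (a b c d e f g h i j : F) : M5 F :=
  !![1, a, e, h, j; 0, 1, b, f, i; 0, 0, 1, c, g; 0, 0, 0, 1, d; 0, 0, 0, 0, 1]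

theorem exists_ut [Finite G] [CharP F 2] {S : Subgroup G} (hS : IsPGroup 2 S) :
    ∃ B, ∀ s ∈ S, ∃ a b c d e f g h i j, mt (cb ρ B) s = ut a b c d e f g h i j := by
  obtain ⟨v, hv, h⟩ := exists_flag (ρ := ρ) hS 5 le_rfl
  obtain ⟨B, hB⟩ := (linearIndependent_cols_iff_isUnit (A := of fun r j => v j r)).1 hv
  refine ⟨B, fun s hs => ?_⟩
  choose c h0 hc using h s hs
  have : mt (cb ρ B) s = 1 + of fun i j => c j i := by
    rw [mt_cb, mul_assoc, Units.inv_mul_eq_iff_eq_mul, hB, mul_add, mul_one]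
    ext r j
    simpa [mul_apply, mulVec, dotProduct, mul_comm] using congrFun (hc j) r
  refine ⟨c 1 0, c 2 1, c 3 2, c 4 3, c 2 0, c 3 1, c 4 2, c 3 0, c 4 1, c 4 0, ?_⟩
  rw [this]
  ext i j
  fin_cases i <;> fin_cases j <;> simp [ut, h0]

theorem ut_mul (a b c d e f g h i j a' b' c' d' e' f' g' h' i' j' : F) :
    ut a b c d e f g h i j * ut a' b' c' d' e' f' g' h' i' j' =
      ut (a + a') (b + b') (c + c') (d + d') (e + a * b' + e') (f + b * c' + f') (g + c * d' + g')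
        (h + e * c' + a * f' + h') (i + f * d' + b * g' + i') (j + h * d' + e * g' + a * i' + j') := by
  ext x y
  fin_cases x <;> fin_cases y <;> simp [ut, mul_apply, Fin.sum_univ_five] <;> ring

theorem ut_inj {a b c d e f g h i j a' b' c' d' e' f' g' h' i' j' : F}
    (H : ut a b c d e f g h i j = ut a' b' c' d' e' f' g' h' i' j') :
    a = a' ∧ b = b' ∧ c = c' ∧ d = d' ∧ e = e' ∧ f = f' ∧ g = g' ∧ h = h' ∧ i = i' ∧ j = j' :=
  ⟨congrFun (congrFun H 0) 1, congrFun (congrFun H 1) 2, congrFun (congrFun H 2) 3,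
    congrFun (congrFun H 3) 4, congrFun (congrFun H 0) 2, congrFun (congrFun H 1) 3,
    congrFun (congrFun H 2) 4, congrFun (congrFun H 0) 3, congrFun (congrFun H 1) 4,
    congrFun (congrFun H 0) 4⟩

theorem rank_one (hn : ∀ d, ¬ IsTv ρ d) {g : G} {p q r s : F}
    (h : mt ρ g = ut 0 0 0 0 0 (q * r) 0 (p * r) (q * s) (p * s)) :
    (p = 0 ∧ q = 0) ∨ (r = 0 ∧ s = 0) := by
  by_contra hc
  refine hn g ⟨![p, q, 0, 0, 0], ![0, 0, 0, r, s], ⟨?_, fun e => hc (.inl ?_), fun e => hc (.inr ?_)⟩,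
    by simp [Fin.sum_univ_five, dotProduct]⟩
  · rw [h]; ext i j
    fin_cases i <;> fin_cases j <;> simp [ut, vecMulVec_apply]
  · exact ⟨congrFun e 0, congrFun e 1⟩
  · exact ⟨congrFun e 3, congrFun e 4⟩

theorem core [CharP F 2] (h : Function.Injective ρ) (hn : ∀ d, ¬ IsTv ρ d) {S : Subgroup G}
    (hS : ∀ s ∈ S, ∃ a b c d e f g h i j, mt ρ s = ut a b c d e f g h i j) {x y : G} (hx : x ∈ S)
    (hy : y ∈ S) : x * x * y = y * (x * x) := by
  have t : (2 : F) = 0 := CharTwo.two_eq_zero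
  obtain ⟨a, b, c, d, e, f, g, k, i, j, ex⟩ := hS x hx
  obtain ⟨a', b', c', d', e', f', g', k', i', j', ey⟩ := hS y hy
  have e2 : mt ρ (x * x) = ut 0 0 0 0 (a * b) (b * c) (c * d) (e * c + a * f) (f * d + b * g)
      (k * d + e * g + a * i) := by
    rw [mt_mul, ex, ut_mul]; congr 1 <;> grind
  have e4 : a * b * c * d = 0 := by
    have := rank_one hn (g := x * x * (x * x)) (p := a * b * c * d) (q := 0) (r := 0) (s := 1)
      (by rw [mt_mul, e2, ut_mul]; congr 1 <;> grind)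
    simpa only [one_ne_zero, and_false, or_false, and_true] using this
  obtain ⟨z, hz, zS⟩ : ∃ z, z * (y * (x * x)) = x * x * y ∧ z ∈ S :=
    ⟨x * x * y * (y * (x * x))⁻¹, by group,
      mul_mem (mul_mem (mul_mem hx hx) hy) (inv_mem (mul_mem hy (mul_mem hx hx)))⟩
  obtain ⟨z1, z2, z3, z4, z5, z6, z7, z8, z9, z0, ez⟩ := hS z zS
  have h1 := congrArg (mt ρ) hz
  rw [mt_mul z, mt_mul y, mt_mul _ y, e2, ey, ez, ut_mul, ut_mul, ut_mul] at h1
  obtain ⟨p1, p2, p3, p4, p5, p6, p7, p8, p9, -⟩ := ut_inj h1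
  obtain rfl : z1 = 0 := by grind
  obtain rfl : z2 = 0 := by grind
  obtain rfl : z3 = 0 := by grind
  obtain rfl : z4 = 0 := by grind
  obtain rfl : z5 = 0 := by grind
  obtain rfl : z6 = 0 := by grind
  obtain rfl : z7 = 0 := by grind
  have q8 : z8 = b * (a * c' + a' * c) := by grind
  have q9 : z9 = c * (b * d' + b' * d) := by grind
  suffices mt ρ z = ut 0 0 0 0 0 0 0 0 0 0 by
    rw [← hz, mt_inj h (this.trans (show _ = mt ρ 1 by
      rw [mt_one]; ext i j; fin_cases i <;> fin_cases j <;> simp [ut])), one_mul]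
  by_cases h8 : z8 = 0
  · subst h8
    rcases rank_one hn (g := z) (p := z0) (q := z9) (r := 0) (s := 1) (by simpa using ez) with
      ⟨rfl, rfl⟩ | ⟨-, e⟩
    exacts [ez, absurd e one_ne_zero]
  by_cases h9 : z9 = 0
  · subst h9
    rcases rank_one hn (g := z) (p := 1) (q := 0) (r := z8) (s := z0) (by simpa using ez) with
      ⟨e, -⟩ | ⟨rfl, rfl⟩
    exacts [absurd e one_ne_zero, ez]
  exfalso
  obtain ⟨w, hw, wS⟩ : ∃ w, w * (x * z) = z * x ∧ w ∈ S :=
    ⟨z * x * (x * z)⁻¹, by group, mul_mem (mul_mem zS hx) (inv_mem (mul_mem hx zS))⟩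
  obtain ⟨w1, w2, w3, w4, w5, w6, w7, w8, w9, w0, ew⟩ := hS w wS
  have h2 := congrArg (mt ρ) hw
  rw [mt_mul w, mt_mul x, mt_mul z, ex, ez, ew, ut_mul, ut_mul, ut_mul] at h2
  obtain ⟨r1, r2, r3, r4, r5, r6, r7, r8, r9, r0⟩ := ut_inj h2
  obtain rfl : w1 = 0 := by grind
  obtain rfl : w2 = 0 := by grind
  obtain rfl : w3 = 0 := by grind
  obtain rfl : w4 = 0 := by grind
  obtain rfl : w5 = 0 := by grind
  obtain rfl : w6 = 0 := by grind
  obtain rfl : w7 = 0 := by grind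
  obtain rfl : w8 = 0 := by grind
  obtain rfl : w9 = 0 := by grind
  obtain rfl : w0 = 0 := by
    simpa using rank_one hn (g := w) (p := w0) (q := 0) (r := 0) (s := 1) (by simpa using ew)
  have b0 : b ≠ 0 := fun e => h8 (by rw [q8, e, zero_mul])
  have c0 : c ≠ 0 := fun e => h9 (by rw [q9, e, zero_mul])
  have ad : a * d = 0 := by grind
  obtain rfl : a = 0 := by grind
  obtain rfl : d = 0 := by grind
  rcases rank_one hn (g := x * x) (p := e) (q := b) (r := c) (s := g) (by simpa using e2) with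
    ⟨-, e⟩ | ⟨e, -⟩
  exacts [b0 e, c0 e]

end C1p

theorem sq_comm [Finite G] [CharP F 2] (h : Function.Injective ρ) (hn : ∀ d, ¬ IsTv ρ d)
    {S : Subgroup G} (hS : IsPGroup 2 S) {a b : G} (ha : a ∈ S) (hb : b ∈ S) :
    a * a * b = b * (a * a) := by
  obtain ⟨B, hB⟩ := C1p.exists_ut (ρ := ρ) hS
  refine C1p.core (cb_injective h B) (fun d ⟨v, φ, hd⟩ => hn d ⟨(B : M5 F) *ᵥ v,
    φ ᵥ* ((B⁻¹ : GL (Fin 5) F) : M5 F), ⟨?_, fun e => hd.v_ne ?_, fun e => hd.φ_ne ?_⟩, ?_⟩) hB ha hb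
  · rw [← vecMulVec_mul, ← mul_vecMulVec, ← Units.mul_inv B, ← add_mul, ← mul_one (B : M5 F),
      mul_assoc _ 1, one_mul, ← mul_add, ← hd.eq, mt_cb]
    simp [mul_assoc]
  · rw [← one_mulVec v, ← Units.inv_mul B, ← mulVec_mulVec, e, mulVec_zero]
  · rw [← vecMul_one φ, ← Units.inv_mul B, ← vecMul_vecMul, e, zero_vecMul]
  · rw [← dotProduct_mulVec, mulVec_mulVec, Units.inv_mul, one_mulVec, hd.dot]

end CfsgLib.D5
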