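import Mathlib
import Cfsg.Agent.Lib.Dim4.Defs
import Cfsg.Agent.Lib.Asch.Form
import Cfsg.Agent.Lib.TriGen.Cyc
import Cfsg.Prelude.Def_Sporadic
import Cfsg.Prelude.Def_Spor_Mathieu
import Cfsg.Prelude.Def_Spor_J1
import Cfsg.Prelude.Def_Sz
import Cfsg.Agent.Lib.WCor.Basic

/-!
Vocabulary for the quasisimple absolutely irreducible subgroups of `SL₅(q)`.  See `plans/D5.md`.
-/

set_option autoImplicit false

namespace CfsgLib.D5

open Matrix Cfsg Cfsg.Geo CfsgLib.Asch Subgroup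
open scoped MatrixGroups commutatorElement

/-- column vectors -/
abbrev V5 (K : Type*) := Fin 5 → K

/-- `5 × 5` matrices -/
abbrev M5 (K : Type*) := Matrix (Fin 5) (Fin 5) K

/-- the special linear group -/
abbrev S5 (K : Type*) [Field K] : Type _ := SpecialLinearGroup (Fin 5) K

variable {G F K : Type*} [Group G] [Field F] [Field K]

/-- the matrix of `g` -/
def mt (ρ : G →* S5 F) (g : G) : M5 F := ((ρ g : S5 F) : M5 F)

theorem mt_mul {ρ : G →* S5 F} (g h : G) : mt ρ (g * h) = mt ρ g * mt ρ h := by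
  rw [mt, map_mul]; rfl

/-- the trace of `g` -/
def tr (ρ : G →* S5 F) (g : G) : F := (mt ρ g).trace

/-- the rank of `g - 1` -/
noncomputable def rk (ρ : G →* S5 F) (g : G) : ℕ := (mt ρ g - 1).rank

/-- absolutely irreducible -/
def Abs (ρ : G →* S5 F) : Prop := Submodule.span F (Set.range (mt ρ)) = ⊤

/-- the traces generate the field -/
def NoSub (ρ : G →* S5 F) : Prop := ∀ F₀ : Subfield F, (∀ g, tr ρ g ∈ F₀) → F₀ = ⊤

/-- self-dual -/
def Real (ρ : G →* S5 F) : Prop := ∀ g, tr ρ g⁻¹ = tr ρ g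

/-- the dual is the `q`-th power twist -/
def Herm (ρ : G →* S5 F) (q : ℕ) : Prop := ∀ g, tr ρ g⁻¹ = tr ρ g ^ q

/-- the traces are fixed by the `q`-th power map -/
def Rat (ρ : G →* S5 F) (q : ℕ) : Prop := ∀ g, tr ρ g ^ q = tr ρ g

/-- the standing hypothesis -/
structure Hy (ρ : G →* S5 F) : Prop where
  qs : Dim4.QS G
  inj : Function.Injective ρ
  abs : Abs ρ

/-- the central quotient -/
abbrev Bar (G : Type*) [Group G] : Type _ := G ⧸ center G

/-- `G / Z(G) ≅ X` -/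
def Iso (G X : Type*) [Group G] [Group X] : Prop := Nonempty (Bar G ≃* X)

/-- `G / Z(G) ≅ L_n(E)` for a finite field `E` whose order satisfies `P` -/
def TL (G : Type*) [Group G] (n : ℕ) (P : ℕ → Prop) : Prop :=
  ∃ (E : Type) (_ : Field E) (_ : Fintype E), P (Fintype.card E) ∧ Iso G PSL(n, E)

/-- `G / Z(G) ≅ U_n(r)` with `P r` -/
def TU (G : Type*) [Group G] (n : ℕ) (P : ℕ → Prop) : Prop :=
  ∃ (E : Type) (_ : Field E) (_ : Fintype E) (r : ℕ), Fintype.card E = r ^ 2 ∧ P r ∧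
    Iso G (PSU n E r)

/-- `G / Z(G) ≅ PSp₄(E)` for a finite field `E` whose order satisfies `P` -/
def TS (G : Type*) [Group G] (P : ℕ → Prop) : Prop :=
  ∃ (E : Type) (_ : Field E) (_ : Fintype E), P (Fintype.card E) ∧ Iso G (PSp 2 E)

/-- the simple groups produced by the 2-local analysis in characteristic two -/
def Lst2 (G : Type*) [Group G] : Prop :=
  TL G 2 (4 ≤ ·) ∨ TL G 3 (fun _ => True) ∨ TU G 3 (3 ≤ ·) ∨ TS G (fun r => Even r ∧ 4 ≤ r) ∨
    Iso G (alternatingGroup (Fin 7)) ∨ WCor.ReeO (Bar G) ∨ Spor.IsoJ1 (Bar G) ∨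
    Lie.IsoSuzuki (Bar G)

/-- `G` has the order of `SL₅(F)` up to a factor `5` -/
def Full (_ρ : G →* S5 F) : Prop := Nat.card (S5 F) ∣ 5 * Nat.card G

/-- `G` is unitary and has the order of `SU₅(q)` up to a factor `5` -/
def Uni (ρ : G →* S5 F) : Prop :=
  ∃ q : ℕ, Nat.card F = q ^ 2 ∧ Herm ρ q ∧ Nat.card (SU 5 F q) ∣ 5 * Nat.card G

/-- `L₂(11)` -/
def O11 (ρ : G →* S5 F) (p : ℕ) : Prop :=
  Nonempty (G ≃* PSL(2, ZMod 11)) ∧
    ((p % 11 = 1 ∨ p % 11 = 3 ∨ p % 11 = 4 ∨ p % 11 = 5 ∨ p % 11 = 9) ∧ Rat ρ p ∨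
      (p % 11 = 2 ∨ p % 11 = 6 ∨ p % 11 = 7 ∨ p % 11 = 8 ∨ p % 11 = 10) ∧ Herm ρ p)

/-- `M₁₁` -/
def OM (ρ : G →* S5 F) (p : ℕ) : Prop := Nonempty (G ≃* Spor.M11) ∧ p = 3 ∧ Rat ρ 3

/-- `U₄(2)` -/
def O42 (ρ : G →* S5 F) (p : ℕ) : Prop :=
  (∃ (E : Type) (_ : Field E) (_ : Fintype E), Fintype.card E = 4 ∧ Nonempty (G ≃* PSU 4 E 2)) ∧
    (p % 6 = 1 ∧ Rat ρ p ∨ p % 6 = 5 ∧ Herm ρ p)

/-- the conclusion of the classification -/
def Out (ρ : G →* S5 F) (p : ℕ) : Prop :=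
  Real ρ ∨ Full ρ ∨ Uni ρ ∨ O11 ρ p ∨ OM ρ p ∨ O42 ρ p

/-- `d` acts as `1 + v φ`, a matrix of rank one away from the identity -/
structure Rf (ρ : G →* S5 F) (d : G) (v φ : V5 F) : Prop where
  eq : mt ρ d = 1 + vecMulVec v φ
  v_ne : v ≠ 0
  φ_ne : φ ≠ 0

/-- `d` acts as a transvection with centre `v` and axis `φ` -/
structure Tv (ρ : G →* S5 F) (d : G) (v φ : V5 F) : Prop extends Rf ρ d v φ where
  dot : φ ⬝ᵥ v = 0

/-- `d` acts as the negative of the reflection with centre `v` and axis `φ` -/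
structure Ng (ρ : G →* S5 F) (d : G) (v φ : V5 F) : Prop where
  eq : mt ρ d = vecMulVec v φ - 1
  dot : φ ⬝ᵥ v = 2

/-- `d` acts as a transvection -/
def IsTv (ρ : G →* S5 F) (d : G) : Prop := ∃ v φ, Tv ρ d v φ

/-- `d` acts as the negative of a reflection -/
def IsNg (ρ : G →* S5 F) (d : G) : Prop := ∃ v φ, Ng ρ d v φ

/-- `1 - ε d`; of rank one for a transvection (`ε = 1`) or a negative reflection (`ε = -1`) -/
def rm (ρ : G →* S5 F) (ε : F) (d : G) : M5 F := 1 - ε • mt ρ d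

/-- the trace invariant of a pair -/
def X2 (ρ : G →* S5 F) (ε : F) (a b : G) : F := (rm ρ ε a * rm ρ ε b).trace

/-- the trace invariant of a triple -/
def Y3 (ρ : G →* S5 F) (ε : F) (a b c : G) : F := (rm ρ ε a * rm ρ ε b * rm ρ ε c).trace

/-- a generating normal set of involutions `ε (1 - v φ)` -/
structure RSet (ρ : G →* S5 F) (ε : F) (D : Set G) : Prop where
  eps : ε * ε = 1
  gen : closure D = ⊤
  cj : ∀ a ∈ D, ∀ b ∈ D, a * b * a ∈ D
  inv : ∀ a ∈ D, a * a = 1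
  one : ∀ a ∈ D, ∃ v φ : V5 F, rm ρ ε a = vecMulVec v φ

/-- the matrix `1 + v θ` with `θ v = 0` is in the image -/
def Ax (ρ : G →* S5 F) (v θ : V5 F) : Prop := θ ⬝ᵥ v = 0 ∧ ∃ d, mt ρ d = 1 + vecMulVec v θ

/-- no two transvections generate a dihedral group of order 8 -/
def NoNil (ρ : G →* S5 F) : Prop :=
  ∀ d e v φ w ψ, Tv ρ d v φ → Tv ρ e w ψ → φ ⬝ᵥ w = 0 → ψ ⬝ᵥ v = 0

/-- root groups have order two -/
def Small (ρ : G →* S5 F) : Prop := ∀ d v φ (c : F), Tv ρ d v φ → Ax ρ v (c • φ) → c = 0 ∨ c = 1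

/-- some centre has two axes -/
def Wide (ρ : G →* S5 F) : Prop := ∃ d v φ θ, Tv ρ d v φ ∧ Ax ρ v θ ∧ ∀ c : F, θ ≠ c • φ

/-- the root groups are the `K`-multiples and the pair invariants lie in `K` -/
structure Over (ρ : G →* S5 F) (K : Subfield F) : Prop where
  root : ∀ d v φ (c : F), Tv ρ d v φ → (Ax ρ v (c • φ) ↔ c ∈ K)
  pair : ∀ d e v φ w ψ, Tv ρ d v φ → Tv ρ e w ψ → (φ ⬝ᵥ w) * (ψ ⬝ᵥ v) ∈ K

/-- distinct transvections have distinct centres and distinct axes -/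
def Sm (ρ : G →* S5 F) : Prop := ∀ d e, IsTv ρ d → IsTv ρ e → ¬ IsTv ρ (d * e)

/-- some triple of transvections is not symmetric -/
def Asym (ρ : G →* S5 F) : Prop :=
  ∃ a b c, IsTv ρ a ∧ IsTv ρ b ∧ IsTv ρ c ∧ Y3 ρ 1 a b c ≠ Y3 ρ 1 c b a

/-- `e i` (`i < k`) and `f i` are dual systems, and all transvections interchanging the lines of
`e i` and `e j` with a factor `s ∈ μ` are in the image (characteristic two) -/
structure TFr (ρ : G →* S5 F) (μ : Subgroup Fˣ) {k : ℕ} (e f : Fin k → V5 F) : Prop where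
  dual : ∀ i j, f i ⬝ᵥ e j = if i = j then 1 else 0
  sw : ∀ i j, i ≠ j → ∀ s ∈ μ, Ax ρ (e i + (s : F) • e j) (f i + ((s⁻¹ : Fˣ) : F) • f j)

/-! monomial matrices -/

/-- the monomial matrix `e j ↦ a j • e (π j)` -/
def mon (π : Equiv.Perm (Fin 5)) (a : V5 F) : M5 F := of fun i j => if i = π j then a j else 0

/-- the signed permutation matrix of determinant one -/
def pm (F : Type*) [Field F] (π : Equiv.Perm (Fin 5)) : M5 F :=
  mon π fun _ => ((Equiv.Perm.sign π : ℤ) : F)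

/-- the centraliser `D₈` of `(0 1)(2 3)` -/
def P8 (π : Equiv.Perm (Fin 5)) : Prop :=
  π * (Equiv.swap 0 1 * Equiv.swap 2 3) = Equiv.swap 0 1 * Equiv.swap 2 3 * π

instance : DecidablePred P8 := fun _ => inferInstanceAs (Decidable (_ = _))

/-- `S` is monomial with permutation parts in `D₈` -/
def Mono (ρ : G →* S5 F) (S : Subgroup G) : Prop := ∀ s ∈ S, ∃ π a, P8 π ∧ mt ρ s = mon π a

/-- `diag(-1, .., 1, .., -1)` -/
def sg (F : Type*) [Field F] (i : Fin 5) : M5 F := diagonal fun j => if j = i then 1 else -1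

/-- the negative reflections interchanging `e 0` and `e 1` -/
def be (μ : F) : M5 F := mon (Equiv.swap 0 1) ![μ, μ⁻¹, -1, -1, -1]

/-- the negative reflections interchanging `e 2` and `e 3` -/
def ga (μ : F) : M5 F := mon (Equiv.swap 2 3) ![-1, -1, μ, μ⁻¹, -1]

/-- monomial negative reflections with centre in the first plane -/
def N1 (ρ : G →* S5 F) (d : G) : Prop :=
  mt ρ d = sg F 0 ∨ mt ρ d = sg F 1 ∨ ∃ μ, μ ≠ 0 ∧ mt ρ d = be μ

/-- monomial negative reflections with centre in the second plane -/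
def N2 (ρ : G →* S5 F) (d : G) : Prop :=
  mt ρ d = sg F 2 ∨ mt ρ d = sg F 3 ∨ ∃ μ, μ ≠ 0 ∧ mt ρ d = ga μ

/-- `S` has two elements with property `N` -/
def Two (S : Subgroup G) (N : G → Prop) : Prop := ∃ d ∈ S, ∃ e ∈ S, N d ∧ N e ∧ d ≠ e

/-- `S` has two non-commuting elements with property `N` -/
def NC (S : Subgroup G) (N : G → Prop) : Prop := ∃ d ∈ S, ∃ e ∈ S, N d ∧ N e ∧ d * e ≠ e * d

/-- the set-up of part B: a monomial Sylow 2-subgroup; `c` is the central negative reflection -/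
structure BS (ρ : G →* S5 F) (S : Sylow 2 G) (c : G) : Prop where
  hy : Hy ρ
  two : (2 : F) ≠ 0
  mono : Mono ρ S
  mem : c ∈ S
  eq : mt ρ c = sg F 4
  cls : ∀ d, IsNg ρ d → IsConj d c

/-- five commuting negative reflections -/
structure Fr (ρ : G →* S5 F) (d : Fin 5 → G) : Prop where
  ng : ∀ i, IsNg ρ (d i)
  comm : ∀ i j, d i * d j = d j * d i
  inj : Function.Injective d

/-- a negative reflection interchanges `d i`, `d j` and centralises the other `d k` -/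
def Edge (ρ : G →* S5 F) (d : Fin 5 → G) (i j : Fin 5) : Prop :=
  ∃ ν, IsNg ρ ν ∧ ∀ k, ν * d k * ν⁻¹ = d (Equiv.swap i j k)

/-- all signed permutation matrices of determinant one are in the image -/
def Weyl (ρ : G →* S5 F) : Prop :=
  (∀ i, ∃ g, mt ρ g = sg F i) ∧ ∀ π, ∃ g, mt ρ g = pm F π

/-- every frame is completely connected -/
def AllW (ρ : G →* S5 F) : Prop := ∀ d, Fr ρ d → ∀ i j, i ≠ j → Edge ρ d i j

/-- 2-elements centralising a frame are involutions -/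
def Thin (ρ : G →* S5 F) : Prop :=
  ∀ d, Fr ρ d → ∀ g (n : ℕ), g ^ 2 ^ n = 1 → (∀ i, g * d i = d i * g) → g * g = 1

/-- `diag t` belongs to `S` -/
def Tor (ρ : G →* S5 F) (S : Subgroup G) (t : V5 F) : Prop := ∃ s ∈ S, mt ρ s = diagonal t

/-- `S` is the split extension of its diagonal part by `D₈` -/
structure Std (ρ : G →* S5 F) (S : Subgroup G) : Prop where
  mono : Mono ρ S
  pm : ∀ π, P8 π → ∃ s ∈ S, mt ρ s = pm F π

/-- Sylow type `PSp₄(q)` -/
def TP (ρ : G →* S5 F) (S : Subgroup G) : Prop :=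
  Std ρ S ∧ ∃ (n : ℕ) (α : F), 1 ≤ n ∧ IsPrimitiveRoot α (2 ^ (n + 1)) ∧ ∀ t, Tor ρ S t ↔
    ∃ i j : ℕ, Even (i + j) ∧ t = ![α ^ i, α⁻¹ ^ i, α ^ j, α⁻¹ ^ j, 1]

/-- Sylow type `L₅(q)`, `q ≡ 3 (4)` -/
def TQ (ρ : G →* S5 F) (S : Subgroup G) : Prop :=
  Std ρ S ∧ ∃ (n : ℕ) (α : F), 2 ≤ n ∧ IsPrimitiveRoot α (2 ^ (n + 1)) ∧ ∀ t, Tor ρ S t ↔
    ∃ i j : ℕ, t = ![α ^ i, (-α⁻¹) ^ i, α ^ j, (-α⁻¹) ^ j, (-1) ^ (i + j)]

/-- Sylow type `L₅(q)`, `q ≡ 1 (4)` -/
def TW (ρ : G →* S5 F) (S : Subgroup G) : Prop :=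
  Std ρ S ∧ ∃ n : ℕ, 2 ≤ n ∧ ∀ t, Tor ρ S t ↔ (∀ i, t i ^ 2 ^ n = 1) ∧ ∏ i, t i = 1

/-- change of basis: `x ↦ B⁻¹ x B` -/
def cb (ρ : G →* S5 F) (B : GL (Fin 5) F) : G →* S5 F where
  toFun g := ⟨((B⁻¹ : GL (Fin 5) F) : M5 F) * mt ρ g * B, by
    rw [det_mul, det_mul, mt, (ρ g).2, mul_one, ← det_mul, Units.inv_mul, det_one]⟩
  map_one' := Subtype.ext (by simp [mt])
  map_mul' g h := Subtype.ext (show _ * mt ρ (g * h) * _ = _ * mt ρ g * _ * (_ * mt ρ h * _) by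
    rw [mt_mul]; simp [Matrix.mul_assoc])

/-- the dual representation -/
def dual (ρ : G →* S5 F) : G →* S5 F where
  toFun g := ⟨(mt ρ g⁻¹)ᵀ, by rw [det_transpose]; exact (ρ g⁻¹).2⟩
  map_one' := Subtype.ext (by simp [mt])
  map_mul' g h := Subtype.ext (show (mt ρ (g * h)⁻¹)ᵀ = (mt ρ g⁻¹)ᵀ * (mt ρ h⁻¹)ᵀ by
    rw [_root_.mul_inv_rev, mt_mul, transpose_mul])

/-- base change -/
def bc (ρ : G →* S5 F) (f : F →+* K) : G →* S5 K := (SpecialLinearGroup.map f).comp ρ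

variable {ρ : G →* S5 F}

theorem mt_one : mt ρ 1 = 1 := by simp [mt]

theorem mt_pow (g : G) (n : ℕ) : mt ρ (g ^ n) = mt ρ g ^ n := by simp [mt]

theorem det_mt (g : G) : (mt ρ g).det = 1 := (ρ g).2

theorem mt_mul_inv (g : G) : mt ρ g * mt ρ g⁻¹ = 1 := by rw [← mt_mul, mul_inv_cancel, mt_one]

theorem mt_inv_mul (g : G) : mt ρ g⁻¹ * mt ρ g = 1 := by rw [← mt_mul, inv_mul_cancel, mt_one]

/-- `mt` as a monoid homomorphism -/
def mtH (ρ : G →* S5 F) : G →* M5 F := ⟨⟨mt ρ, mt_one⟩, mt_mul⟩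

/-- `ρ` as a homomorphism to `GL₅` -/
def gl (ρ : G →* S5 F) : G →* GL (Fin 5) F := SpecialLinearGroup.toGL.comp ρ

theorem coe_gl (g : G) : (gl ρ g : M5 F) = mt ρ g := rfl

theorem mt_inj (h : Function.Injective ρ) {g k : G} (e : mt ρ g = mt ρ k) : g = k :=
  h (Subtype.ext e)

theorem mt_comp {H : Type*} [Group H] (η : H →* G) (x : H) : mt (ρ.comp η) x = mt ρ (η x) := rfl

theorem mt_cb (B : GL (Fin 5) F) (g : G) :
    mt (cb ρ B) g = ((B⁻¹ : GL (Fin 5) F) : M5 F) * mt ρ g * B := rfl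

theorem mt_dual (g : G) : mt (dual ρ) g = (mt ρ g⁻¹)ᵀ := rfl

theorem mt_bc (f : F →+* K) (g : G) : mt (bc ρ f) g = (mt ρ g).map f := rfl

theorem tr_one : tr ρ 1 = 5 := by simp [tr, mt_one]

theorem tr_mul_comm (g h : G) : tr ρ (g * h) = tr ρ (h * g) := by
  rw [tr, tr, mt_mul, mt_mul, trace_mul_comm]

theorem tr_conj (g x : G) : tr ρ (g * x * g⁻¹) = tr ρ x := by
  rw [tr_mul_comm, inv_mul_cancel_left]

theorem tr_isConj {x y : G} (h : IsConj x y) : tr ρ x = tr ρ y := by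
  obtain ⟨g, rfl⟩ := isConj_iff.1 h
  exact (tr_conj g x).symm

theorem tr_cb (B : GL (Fin 5) F) (g : G) : tr (cb ρ B) g = tr ρ g := by
  rw [tr, mt_cb, trace_mul_comm, ← Matrix.mul_assoc, Units.mul_inv, Matrix.one_mul, tr]

theorem tr_dual (g : G) : tr (dual ρ) g = tr ρ g⁻¹ := trace_transpose _

theorem tr_bc (f : F →+* K) (g : G) : tr (bc ρ f) g = f (tr ρ g) := by
  simp [tr, mt_bc, Matrix.trace]

theorem cb_injective (h : Function.Injective ρ) (B : GL (Fin 5) F) :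
    Function.Injective (cb ρ B) := fun g k e => mt_inj h (by
  have e' : mt (cb ρ B) g = mt (cb ρ B) k := congrArg Subtype.val e
  rw [mt_cb, mt_cb] at e'
  exact (Units.mul_right_inj B⁻¹).1 ((Units.mul_left_inj B).1 e'))

theorem dual_injective (h : Function.Injective ρ) : Function.Injective (dual ρ) := fun _ _ e =>
  inv_injective (mt_inj h (transpose_injective (congrArg Subtype.val e)))

theorem bc_injective (h : Function.Injective ρ) (f : F →+* K) : Function.Injective (bc ρ f) :=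
  fun _ _ e => mt_inj h (Matrix.map_injective f.injective (congrArg Subtype.val e))

theorem range_mul (ρ : G →* S5 F) :
    ∀ a ∈ Set.range (mt ρ), ∀ b ∈ Set.range (mt ρ), a * b ∈ Set.range (mt ρ) := by
  rintro _ ⟨g, rfl⟩ _ ⟨h, rfl⟩
  exact ⟨g * h, mt_mul g h⟩

theorem Abs.comm (h : Abs ρ) {x : M5 F} (hx : ∀ g, x * mt ρ g = mt ρ g * x) :
    ∃ c : F, x = c • (1 : M5 F) :=
  scalar_of_comm_span h (by rintro _ ⟨g, rfl⟩; exact hx g)

theorem Abs.irr (h : Abs ρ) (W : Submodule F (V5 F)) (hW : ∀ g, ∀ v ∈ W, mt ρ g *ᵥ v ∈ W) :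
    W = ⊥ ∨ W = ⊤ :=
  irred_of_span h W (by rintro _ ⟨g, rfl⟩; exact map_toLin'_le_iff.2 (hW g))

/-- invariance may be checked on generators -/
theorem Abs.irr_of_closure [Finite G] (h : Abs ρ) {D : Set G} (hD : closure D = ⊤)
    (W : Submodule F (V5 F)) (hW : ∀ d ∈ D, ∀ v ∈ W, mt ρ d *ᵥ v ∈ W) : W = ⊥ ∨ W = ⊤ := by
  refine h.irr W fun g => ?_
  have hg : g ∈ (closure D).toSubmonoid := hD ▸ mem_top g
  rw [closure_toSubmonoid_of_finite] at hg
  induction hg using Submonoid.closure_induction with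
  | mem x hx => exact hW x hx
  | one => intro v hv; rwa [mt_one, one_mulVec]
  | mul x y _ _ hx hy => intro v hv; rw [mt_mul, ← mulVec_mulVec]; exact hx _ (hy v hv)

/-- the orbit of a non-zero vector spans -/
theorem Abs.span_orbit (h : Abs ρ) {v : V5 F} (hv : v ≠ 0) :
    Submodule.span F (Set.range fun g => mt ρ g *ᵥ v) = ⊤ := by
  refine (h.irr _ fun g w hw => ?_).resolve_left fun e => hv ?_
  · induction hw using Submodule.span_induction with
    | mem x hx =>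
      obtain ⟨k, rfl⟩ := hx
      exact Submodule.subset_span ⟨g * k, by simp [mt_mul]⟩
    | zero => rw [mulVec_zero]; exact zero_mem _
    | add x y _ _ hx hy => rw [mulVec_add]; exact add_mem hx hy
    | smul c x _ hx => rw [mulVec_smul]; exact Submodule.smul_mem _ _ hx
  · exact Submodule.span_eq_bot.1 e v ⟨1, by simp [mt_one]⟩

theorem Abs.exists_dot_ne (h : Abs ρ) {v φ : V5 F} (hv : v ≠ 0) (hφ : φ ≠ 0) :
    ∃ g, φ ⬝ᵥ (mt ρ g *ᵥ v) ≠ 0 := by
  by_contra hn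
  push Not at hn
  refine hφ (funext fun i => ?_)
  have : Submodule.span F (Set.range fun g => mt ρ g *ᵥ v) ≤
      LinearMap.ker (dotProductBilin F F φ) :=
    Submodule.span_le.2 (by rintro _ ⟨g, rfl⟩; exact hn g)
  have h1 : φ ⬝ᵥ Pi.single i 1 = 0 := this (h.span_orbit hv ▸ Submodule.mem_top)
  simpa using h1

theorem abs_of_map (h : Abs ρ) {ρ' : G →* S5 F} (L : M5 F →ₗ[F] M5 F)
    (hL : Function.Surjective L) (e : ∀ g, ∃ k, mt ρ' k = L (mt ρ g)) : Abs ρ' := by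
  rw [Abs, eq_top_iff, ← LinearMap.range_eq_top.2 hL, ← Submodule.map_top, ← h,
    Submodule.map_span]
  refine Submodule.span_mono ?_
  rintro _ ⟨_, ⟨g, rfl⟩, rfl⟩
  exact e g

theorem Abs.cb (h : Abs ρ) (B : GL (Fin 5) F) : Abs (cb ρ B) :=
  abs_of_map h ((LinearMap.mulRight F (B : M5 F)).comp
      (LinearMap.mulLeft F ((B⁻¹ : GL (Fin 5) F) : M5 F)))
    (fun a => ⟨B * a * (B⁻¹ : GL (Fin 5) F), by simp [Matrix.mul_assoc]⟩) fun g => ⟨g, rfl⟩

theorem Abs.dual (h : Abs ρ) : Abs (dual ρ) :=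
  abs_of_map h (transposeLinearEquiv _ _ F F).toLinearMap (LinearEquiv.surjective _)
    fun g => ⟨g⁻¹, by simp [mt_dual]⟩

theorem Abs.bc (h : Abs ρ) (f : F →+* K) : Abs (bc ρ f) := by
  have key : ∀ a : M5 F, a.map f ∈ Submodule.span K (Set.range (mt (D5.bc ρ f))) := fun a => by
    have ha : a ∈ Submodule.span F (Set.range (mt ρ)) := h ▸ Submodule.mem_top
    induction ha using Submodule.span_induction with
    | mem x hx => obtain ⟨g, rfl⟩ := hx; exact Submodule.subset_span ⟨g, rfl⟩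
    | zero => simp
    | add x y _ _ hx hy => rw [Matrix.map_add _ (map_add f)]; exact add_mem hx hy
    | smul c x _ hx =>
      have : (c • x).map f = f c • x.map f := by ext; simp
      rw [this]; exact Submodule.smul_mem _ _ hx
  refine eq_top_iff.2 fun a _ => ?_
  rw [matrix_eq_sum_single a]
  refine sum_mem fun i _ => sum_mem fun j _ => ?_
  have : single i j (a i j) = a i j • (single i j (1 : F)).map f := by
    ext k l; simp [single, apply_ite f]
  rw [this]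
  exact Submodule.smul_mem _ _ (key _)

theorem Abs.comp {H : Type*} [Group H] (h : Abs ρ) {η : H →* G} (hη : Function.Surjective η) :
    Abs (ρ.comp η) := by
  have : Set.range (mt (ρ.comp η)) = Set.range (mt ρ) := hη.range_comp (mt ρ)
  rw [Abs, this]; exact h

theorem Hy.cb (h : Hy ρ) (B : GL (Fin 5) F) : Hy (cb ρ B) :=
  ⟨h.qs, cb_injective h.inj B, h.abs.cb B⟩

theorem Hy.dual (h : Hy ρ) : Hy (dual ρ) := ⟨h.qs, dual_injective h.inj, h.abs.dual⟩

theorem Hy.bc (h : Hy ρ) (f : F →+* K) : Hy (bc ρ f) := ⟨h.qs, bc_injective h.inj f, h.abs.bc f⟩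

theorem real_cb (B : GL (Fin 5) F) : Real (cb ρ B) ↔ Real ρ := by simp only [Real, tr_cb]

theorem real_bc (f : F →+* K) : Real (bc ρ f) ↔ Real ρ := by
  simp only [Real, tr_bc, f.injective.eq_iff]

theorem real_dual : Real (dual ρ) ↔ Real ρ := by
  simp only [Real, tr_dual, inv_inv]
  exact ⟨fun h g => (h g).symm, fun h g => (h g).symm⟩

theorem herm_bc (f : F →+* K) (q : ℕ) : Herm (bc ρ f) q ↔ Herm ρ q := by
  simp only [Herm, tr_bc, ← map_pow, f.injective.eq_iff]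

theorem rat_bc (f : F →+* K) (q : ℕ) : Rat (bc ρ f) q ↔ Rat ρ q := by
  simp only [Rat, tr_bc, ← map_pow, f.injective.eq_iff]

theorem real_comp {H : Type*} [Group H] {η : H →* G} (hη : Function.Surjective η) :
    Real (ρ.comp η) ↔ Real ρ :=
  ⟨fun h g => by obtain ⟨x, rfl⟩ := hη g; rw [← map_inv]; exact h x,
    fun h x => by rw [tr, mt_comp, map_inv]; exact h (η x)⟩

theorem herm_comp {H : Type*} [Group H] {η : H →* G} (hη : Function.Surjective η) (q : ℕ) :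
    Herm (ρ.comp η) q ↔ Herm ρ q :=
  ⟨fun h g => by obtain ⟨x, rfl⟩ := hη g; rw [← map_inv]; exact h x,
    fun h x => by rw [tr, mt_comp, map_inv]; exact h (η x)⟩

theorem rat_comp {H : Type*} [Group H] {η : H →* G} (hη : Function.Surjective η) (q : ℕ) :
    Rat (ρ.comp η) q ↔ Rat ρ q :=
  ⟨fun h g => by obtain ⟨x, rfl⟩ := hη g; exact h x, fun h x => h (η x)⟩

theorem NoSub.comp {H : Type*} [Group H] (h : NoSub ρ) {η : H →* G}
    (hη : Function.Surjective η) : NoSub (ρ.comp η) := fun F₀ hF =>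
  h F₀ fun g => by obtain ⟨x, rfl⟩ := hη g; exact hF x

theorem NoSub.cb (h : NoSub ρ) (B : GL (Fin 5) F) : NoSub (cb ρ B) := fun F₀ hF =>
  h F₀ fun g => tr_cb B g ▸ hF g

theorem NoSub.dual (h : NoSub ρ) : NoSub (dual ρ) := fun F₀ hF =>
  h F₀ fun g => by have := hF g⁻¹; rwa [tr_dual, inv_inv] at this

/-- if all traces are fixed by `a ↦ a ^ p ^ k`, all field elements are -/
theorem NoSub.pow_eq (h : NoSub ρ) (p k : ℕ) [Fact p.Prime] [CharP F p] (ht : Rat ρ (p ^ k))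
    (a : F) : a ^ p ^ k = a := by
  have := h ((iterateFrobenius F p k).eqLocusField (RingHom.id F)) ht
  have ha : a ∈ (iterateFrobenius F p k).eqLocusField (RingHom.id F) := this ▸ Subfield.mem_top a
  exact ha

theorem Herm.rat {q : ℕ} (h : Herm ρ q) : Rat ρ (q ^ 2) := fun g => by
  rw [pow_two, pow_mul, ← h, ← h, inv_inv]

theorem Hy.center_iff (h : Hy ρ) (g : G) : g ∈ center G ↔ ∃ c : F, mt ρ g = c • (1 : M5 F) :=
  ⟨fun hg => h.abs.comm fun k => by rw [← mt_mul, ← mt_mul, Subgroup.mem_center_iff.1 hg],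
    fun ⟨c, hc⟩ => Subgroup.mem_center_iff.2 fun k => mt_inj h.inj (by
      rw [mt_mul, mt_mul, hc]; simp)⟩

theorem Hy.pow_five (h : Hy ρ) {g : G} (hg : g ∈ center G) : g ^ 5 = 1 := by
  obtain ⟨c, hc⟩ := (h.center_iff g).1 hg
  have h1 := det_mt (ρ := ρ) g
  rw [hc, det_smul, det_one, mul_one, Fintype.card_fin] at h1
  refine mt_inj h.inj ?_
  rw [mt_pow, hc, smul_pow, h1, one_pow, one_smul, mt_one]

theorem Hy.not_comm (h : Hy ρ) : center G ≠ ⊤ := fun e => by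
  have h1 : Submodule.span F (Set.range (mt ρ)) ≤ Submodule.span F {(1 : M5 F)} :=
    Submodule.span_le.2 (by
      rintro _ ⟨g, rfl⟩
      obtain ⟨c, hc⟩ := (h.center_iff g).1 (e ▸ mem_top g)
      exact Submodule.mem_span_singleton.2 ⟨c, hc.symm⟩)
  obtain ⟨c, hc⟩ := Submodule.mem_span_singleton.1
    (h1 (show single 0 1 (1 : F) ∈ _ from h.abs ▸ Submodule.mem_top))
  simpa using congrFun (congrFun hc 0) 1

theorem Hy.simple (h : Hy ρ) : IsSimpleGroup (Bar G) := by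
  have : Nontrivial (Bar G) := QuotientGroup.nontrivial_iff.2 h.not_comm
  refine ⟨fun N hN => ?_⟩
  rcases h.qs.nrm (N.comap (QuotientGroup.mk' _)) (hN.comap _) with e | e
  · left
    refine eq_bot_iff.2 fun x hx => ?_
    obtain ⟨g, rfl⟩ := QuotientGroup.mk'_surjective _ x
    exact (QuotientGroup.eq_one_iff g).2 (e hx)
  · right
    refine eq_top_iff.2 fun x _ => ?_
    obtain ⟨g, rfl⟩ := QuotientGroup.mk'_surjective _ x
    exact (e ▸ mem_top g : g ∈ N.comap _)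

theorem Hy.bar_not_comm (h : Hy ρ) : ¬ IsMulCommutative (Bar G) := fun hc => by
  let _ : CommGroup (Bar G) := { mul_comm := hc.is_comm.comm }
  exact h.not_comm (eq_top_iff.2 fun g _ =>
    (QuotientGroup.eq_one_iff g).1 (h.qs.hom_eq_one (QuotientGroup.mk' (center G)) g))

theorem Rf.conj {d : G} {v φ : V5 F} (h : Rf ρ d v φ) (g : G) :
    Rf ρ (g * d * g⁻¹) (mt ρ g *ᵥ v) (φ ᵥ* mt ρ g⁻¹) where
  eq := by
    rw [mt_mul, mt_mul, h.eq, mul_add, add_mul, mul_one, mt_mul_inv, mul_vecMulVec, vecMulVec_mul]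
  v_ne e := h.v_ne (by rw [← one_mulVec v, ← mt_inv_mul (ρ := ρ) g, ← mulVec_mulVec, e, mulVec_zero])
  φ_ne e := h.φ_ne (by rw [← vecMul_one φ, ← mt_inv_mul (ρ := ρ) g, ← vecMul_vecMul, e, zero_vecMul])

theorem dot_conj (g : G) (v φ : V5 F) : (φ ᵥ* mt ρ g⁻¹) ⬝ᵥ (mt ρ g *ᵥ v) = φ ⬝ᵥ v := by
  rw [← dotProduct_mulVec, mulVec_mulVec, mt_inv_mul, one_mulVec]

theorem Tv.conj {d : G} {v φ : V5 F} (h : Tv ρ d v φ) (g : G) :
    Tv ρ (g * d * g⁻¹) (mt ρ g *ᵥ v) (φ ᵥ* mt ρ g⁻¹) :=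
  ⟨h.toRf.conj g, by rw [dot_conj, h.dot]⟩

theorem Ng.conj {d : G} {v φ : V5 F} (h : Ng ρ d v φ) (g : G) :
    Ng ρ (g * d * g⁻¹) (mt ρ g *ᵥ v) (φ ᵥ* mt ρ g⁻¹) where
  eq := by
    rw [mt_mul, mt_mul, h.eq, mul_sub, sub_mul, mul_one, mt_mul_inv, mul_vecMulVec, vecMulVec_mul]
  dot := by rw [dot_conj, h.dot]

theorem IsTv.conj {d : G} (h : IsTv ρ d) (g : G) : IsTv ρ (g * d * g⁻¹) :=
  let ⟨_, _, h⟩ := h; ⟨_, _, h.conj g⟩

theorem IsNg.conj {d : G} (h : IsNg ρ d) (g : G) : IsNg ρ (g * d * g⁻¹) :=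
  let ⟨_, _, h⟩ := h; ⟨_, _, h.conj g⟩

theorem Ng.cb {d : G} {v φ : V5 F} (h : Ng ρ d v φ) (B : GL (Fin 5) F) :
    Ng (cb ρ B) d (((B⁻¹ : GL (Fin 5) F) : M5 F) *ᵥ v) (φ ᵥ* (B : M5 F)) where
  eq := by
    rw [mt_cb, h.eq, mul_sub, sub_mul, mul_one, Units.inv_mul, mul_vecMulVec, vecMulVec_mul]
  dot := by rw [← dotProduct_mulVec, mulVec_mulVec, Units.mul_inv, one_mulVec, h.dot]

theorem cb_cb (B C : GL (Fin 5) F) : cb (cb ρ B) C = cb ρ (B * C) :=
  MonoidHom.ext fun g => Subtype.ext (show mt (cb (cb ρ B) C) g = mt (cb ρ (B * C)) g by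
    simp [mt_cb, Matrix.mul_assoc])

theorem cb_one : cb ρ 1 = ρ :=
  MonoidHom.ext fun g => Subtype.ext (show mt (cb ρ 1) g = mt ρ g by simp [mt_cb])

theorem isNg_cb (B : GL (Fin 5) F) {d : G} : IsNg (cb ρ B) d ↔ IsNg ρ d :=
  ⟨fun ⟨_, _, h⟩ => by have := h.cb B⁻¹; rw [cb_cb, mul_inv_cancel, cb_one] at this; exact ⟨_, _, this⟩,
    fun ⟨_, _, h⟩ => ⟨_, _, h.cb B⟩⟩

theorem Fr.cb {d : Fin 5 → G} (h : Fr ρ d) (B : GL (Fin 5) F) : Fr (cb ρ B) d :=
  ⟨fun i => (isNg_cb B).2 (h.ng i), h.comm, h.inj⟩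

theorem fr_cb (B : GL (Fin 5) F) {d : Fin 5 → G} : Fr (cb ρ B) d ↔ Fr ρ d :=
  ⟨fun h => ⟨fun i => (isNg_cb B).1 (h.ng i), h.comm, h.inj⟩, fun h => h.cb B⟩

theorem edge_cb (B : GL (Fin 5) F) {d : Fin 5 → G} {i j : Fin 5} :
    Edge (cb ρ B) d i j ↔ Edge ρ d i j := by simp only [Edge, isNg_cb]

theorem allW_cb (B : GL (Fin 5) F) : AllW (cb ρ B) ↔ AllW ρ := by simp only [AllW, fr_cb, edge_cb]

theorem thin_cb (B : GL (Fin 5) F) : Thin (cb ρ B) ↔ Thin ρ := by simp only [Thin, fr_cb]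

theorem mon_mul (π σ : Equiv.Perm (Fin 5)) (a b : V5 F) :
    mon π a * mon σ b = mon (π * σ) fun j => a (σ j) * b j := by
  ext i j
  simp only [mon, mul_apply, of_apply, mul_ite, mul_zero, Finset.sum_ite_eq', Finset.mem_univ,
    if_true, Equiv.Perm.mul_apply, ite_mul, zero_mul]
  congr

theorem mon_one (a : V5 F) : mon 1 a = diagonal a := by
  ext i j
  by_cases h : i = j <;> simp [mon, h]

theorem mon_mulVec (π : Equiv.Perm (Fin 5)) (a v : V5 F) (j : Fin 5) :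
    (mon π a *ᵥ v) (π j) = a j * v j := by
  simp [mon, mulVec, dotProduct]

theorem det_mon (π : Equiv.Perm (Fin 5)) (a : V5 F) :
    (mon π a).det = ((Equiv.Perm.sign π : ℤ) : F) * ∏ i, a i := by
  have : mon π a = (diagonal a).submatrix π.symm id := by
    ext i j
    by_cases h : i = π j
    · simp [mon, h]
    · have : π.symm i ≠ j := fun e => h (by rw [← e, Equiv.apply_symm_apply])
      simp [mon, h, this]
  rw [this, det_permute, det_diagonal, Equiv.Perm.sign_symm]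

theorem ne_zero_of_mon {g : G} {π : Equiv.Perm (Fin 5)} {a : V5 F} (h : mt ρ g = mon π a)
    (i : Fin 5) : a i ≠ 0 := fun e => by
  have := det_mt (ρ := ρ) g
  rw [h, det_mon, Finset.prod_eq_zero (Finset.mem_univ i) e, mul_zero] at this
  exact zero_ne_one this

theorem mon_inj {π σ : Equiv.Perm (Fin 5)} {a b : V5 F} (ha : ∀ i, a i ≠ 0)
    (h : mon π a = mon σ b) : π = σ ∧ a = b := by
  have key : ∀ j, π j = σ j ∧ a j = b j := fun j => by
    have := congrFun (congrFun h (π j)) j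
    simp only [mon, of_apply, if_true] at this
    by_cases e : π j = σ j
    · exact ⟨e, by simpa [e] using this⟩
    · exact absurd (by simpa [e] using this) (ha j)
  exact ⟨Equiv.ext fun j => (key j).1, funext fun j => (key j).2⟩

/-! ### from subgroups of `GL₅` -/

theorem mem_SL {x : GL (Fin 5) F} : x ∈ specialLinear (Fin 5) F ↔ (x : M5 F).det = 1 := by
  rw [specialLinear, MonoidHom.mem_ker, Units.ext_iff, GeneralLinearGroup.val_det_apply,
    Units.val_one]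

/-- the representation of a subgroup of `SL₅` -/
def ofSub {P : Subgroup (GL (Fin 5) F)} (h : P ≤ specialLinear (Fin 5) F) : P →* S5 F where
  toFun g := ⟨(g.1 : M5 F), mem_SL.1 (h g.2)⟩
  map_one' := rfl
  map_mul' _ _ := rfl

theorem mt_ofSub {P : Subgroup (GL (Fin 5) F)} (h : P ≤ specialLinear (Fin 5) F) (g : P) :
    mt (ofSub h) g = (g.1 : M5 F) := rfl

theorem range_ofSub {P : Subgroup (GL (Fin 5) F)} (h : P ≤ specialLinear (Fin 5) F) :
    Set.range (mt (ofSub h)) = matrixSet P := by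
  ext a
  exact ⟨fun ⟨g, hg⟩ => ⟨g.1, g.2, hg⟩, fun ⟨g, hg, e⟩ => ⟨⟨g, hg⟩, e⟩⟩

variable {H P : Subgroup (GL (Fin 5) F)}

theorem center_eq_of_core (hP : IsResidualCore H P) :
    center P = (scalars (Fin 5) F).subgroupOf P := by
  ext x
  rw [mem_subgroupOf, Subgroup.mem_center_iff]
  exact ⟨fun hx => mem_scalars_of_comm_env (span_eq_top_of_absIrred hP.absIrred) fun y hy =>
      (congrArg Subtype.val (hx ⟨y, hy⟩)).symm,
    fun hx y => Subtype.ext (mul_comm_of_mem_scalars hx y.1).symm⟩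

theorem qs_of_core (hP : IsResidualCore H P) : Dim4.QS P := by
  have hp : commutator P = ⊤ := by
    apply Subgroup.map_injective P.subtype_injective
    rw [_root_.commutator, map_commutator, ← MonoidHom.range_eq_map, range_subtype, hP.perfect]
  refine ⟨hp, fun N hN => ?_⟩
  have := hP.simple
  rcases IsSimpleGroup.eq_bot_or_eq_top_of_normal
    (N.map (QuotientGroup.mk' ((scalars (Fin 5) F).subgroupOf P)))
    (hN.map _ (QuotientGroup.mk'_surjective _)) with e | e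
  · rw [Subgroup.map_eq_bot_iff, QuotientGroup.ker_mk', ← center_eq_of_core hP] at e
    exact Or.inl e
  · right
    have h1 := congrArg (comap (QuotientGroup.mk' ((scalars (Fin 5) F).subgroupOf P))) e
    rw [comap_map_eq, comap_top, QuotientGroup.ker_mk', ← center_eq_of_core hP] at h1
    rw [eq_top_iff, ← hp, _root_.commutator, commutator_le]
    intro a ha b hb
    rw [← h1] at ha hb
    obtain ⟨a, ha', z, hz, rfl⟩ := mem_sup_of_normal_right.1 ha
    obtain ⟨b, hb', y, hy, rfl⟩ := mem_sup_of_normal_right.1 hb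
    have e : ⁅a * z, b * y⁆ = ⁅a, b⁆ := by
      have hz := Subgroup.mem_center_iff.1 hz
      have hy := Subgroup.mem_center_iff.1 hy
      simp only [commutatorElement_def, _root_.mul_inv_rev]
      calc _ = a * (z * (b * y) * z⁻¹) * a⁻¹ * (y⁻¹ * b⁻¹) := by group
        _ = a * b * (y * a⁻¹ * y⁻¹) * b⁻¹ := by rw [← hz, mul_inv_cancel_right]; group
        _ = _ := by rw [← hy, mul_inv_cancel_right]
    rw [e]
    exact mul_mem (mul_mem (mul_mem ha' hb') (inv_mem ha')) (inv_mem hb')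

theorem hy_of_core (hP : IsResidualCore H P) (h : P ≤ specialLinear (Fin 5) F) :
    Hy (ofSub h) where
  qs := qs_of_core hP
  inj _ _ e := Subtype.ext (Units.ext (congrArg Subtype.val e))
  abs := by
    rw [Abs, range_ofSub]
    exact env_eq_top_iff.1 (span_eq_top_of_absIrred hP.absIrred)

theorem noSub_of_core [Finite F] (hP : IsResidualCore H P) (h : P ≤ specialLinear (Fin 5) F) :
    NoSub (ofSub h) := fun F₀ hF => by
  by_contra hne
  refine hP.no_subfield F₀ hne ?_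
  rw [← range_ofSub h]
  exact realisable_of_trace (range_mul _) (hy_of_core hP h).abs
    (by rintro _ ⟨g, rfl⟩; exact hF g)

end CfsgLib.D5
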