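import Cfsg.Agent.Lib.D5.Defs
import Cfsg.Agent.Lib.LS.Weight
import Cfsg.Agent.Lib.Inv2.Diag

/-!
EIG: traces and ranks.  See `plans/D5.md`.
-/

set_option autoImplicit false

namespace CfsgLib.D5

open Matrix Cfsg Cfsg.Geo CfsgLib.Asch Subgroup
open scoped MatrixGroups

variable {G F : Type*} [Group G] [Field F] {ρ : G →* S5 F}

section
variable (p : ℕ) [Fact p.Prime] [CharP F p]

theorem eig_trace_pow (M : M5 F) : (M ^ p).trace = M.trace ^ p := by
  have h : (M ^ p).charpoly = M.charpoly.map (frobenius F p) := by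
    refine Polynomial.expand_injective (Fact.out : p.Prime).pos ?_
    rw [← Polynomial.map_expand, Polynomial.map_frobenius_expand]
    unfold charpoly
    rw [AlgHom.map_det, ← det_pow]
    refine congrArg det (matPolyEquiv.injective ?_)
    rw [map_pow, matPolyEquiv_charmatrix, sub_pow_char_of_commute, ← Polynomial.C_pow]
    · exact id (matPolyEquiv_eq_X_pow_sub_C p M)
    · exact (Polynomial.C M).commute_X
  rw [trace_eq_neg_charpoly_coeff, trace_eq_neg_charpoly_coeff, h, Polynomial.coeff_map, ← map_neg,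
    frobenius_def]

theorem tr_pow_char (g : G) (k : ℕ) : tr ρ (g ^ p ^ k) = tr ρ g ^ p ^ k := by
  induction k with
  | zero => simp
  | succ k ih => rw [pow_succ, pow_mul, pow_mul, ← ih, tr, mt_pow, eig_trace_pow, tr]

theorem exists_reg [Finite G] (g : G) : ∃ k : ℕ, (orderOf (g ^ k)).Coprime p ∧
    tr ρ (g ^ k) = tr ρ g ∧ tr ρ (g ^ k)⁻¹ = tr ρ g⁻¹ := by
  have hp : p.Prime := Fact.out
  obtain ⟨a, m, hm, e⟩ := Nat.exists_eq_pow_mul_and_not_dvd (orderOf_pos g).ne' p hp.ne_one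
  have hc : (p ^ a).Coprime m := Nat.Coprime.pow_left a ((Nat.Prime.coprime_iff_not_dvd hp).2 hm)
  obtain ⟨k, h1, h2⟩ := Nat.chineseRemainder hc 0 1
  have h3 : (g ^ k) ^ p ^ a = g ^ p ^ a := by
    rw [← pow_mul, pow_eq_pow_iff_modEq, e, mul_comm k]
    simpa using h2.mul_left' (p ^ a)
  refine ⟨k, Nat.Coprime.coprime_dvd_left (orderOf_dvd_of_pow_eq_one (n := m) ?_)
    ((Nat.Prime.coprime_iff_not_dvd hp).2 hm).symm, iterateFrobenius_inj F p a ?_,
    iterateFrobenius_inj F p a ?_⟩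
  · rw [← pow_mul, ← orderOf_dvd_iff_pow_eq_one, e]
    exact Nat.mul_dvd_mul_right (Nat.modEq_zero_iff_dvd.1 h1) m
  · rw [iterateFrobenius_def, iterateFrobenius_def, ← tr_pow_char, ← tr_pow_char, h3]
  · rw [iterateFrobenius_def, iterateFrobenius_def, ← tr_pow_char, ← tr_pow_char, inv_pow, inv_pow, h3]

theorem real_of_reg [Finite G] (h : ∀ g : G, (orderOf g).Coprime p → IsConj g g⁻¹) : Real ρ := by
  intro g
  obtain ⟨k, h1, h2, h3⟩ := exists_reg (ρ := ρ) p g
  rw [← h2, ← h3, tr_isConj (h _ h1)]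

theorem rat_of_reg [Finite G] (k : ℕ)
    (h : ∀ g : G, (orderOf g).Coprime p → tr ρ (g ^ p ^ k) = tr ρ g) : Rat ρ (p ^ k) := by
  intro g
  obtain ⟨j, h1, h2, -⟩ := exists_reg (ρ := ρ) p g
  rw [← h2, ← tr_pow_char, h _ h1]

theorem herm_of_reg [Finite G] (k : ℕ)
    (h : ∀ g : G, (orderOf g).Coprime p → tr ρ (g ^ p ^ k) = tr ρ g⁻¹) : Herm ρ (p ^ k) := by
  intro g
  obtain ⟨j, h1, h2, h3⟩ := exists_reg (ρ := ρ) p g
  rw [← h2, ← h3, ← tr_pow_char, h _ h1]

end

theorem rk_le (g : G) : rk ρ g ≤ 5 := rank_le_width _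

theorem rk_eq_zero {g : G} (h : rk ρ g = 0) : mt ρ g = 1 := by
  rw [rk, Matrix.rank, Submodule.finrank_eq_zero, LinearMap.range_eq_bot] at h
  rw [← sub_eq_zero]
  exact toLin'.injective (by rw [map_zero]; exact h)

theorem rk_add_ker (g : G) :
    rk ρ g + Module.finrank F (LinearMap.ker (toLin' (mt ρ g) - 1 : Module.End F (V5 F))) = 5 := by
  have := LinearMap.finrank_range_add_finrank_ker (toLin' (mt ρ g - 1))
  rw [Module.finrank_fin_fun] at this
  rw [show toLin' (mt ρ g) - 1 = toLin' (mt ρ g - 1) by rw [map_sub, toLin'_one]; rfl]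
  exact this

theorem scott5 [Finite G] (h : Abs ρ) {a b : G} (hg : closure {a, b} = ⊤) :
    10 ≤ rk ρ a + rk ρ b + rk ρ (a * b) := by
  have h1 := TriGen.scott (toLin' (mt ρ a)) (toLin' (mt ρ b))
  have ap : ∀ g v, (toLin' (mt ρ g) - 1) v = mt ρ g *ᵥ v - v := fun g v => rfl
  have nt : ¬ ∀ v, mt ρ a *ᵥ v = v ∧ mt ρ b *ᵥ v = v := fun e => by
    rcases h.irr_of_closure hg (Submodule.span F {Pi.single 0 1}) (by
      rintro d (rfl | rfl) v hv
      · rwa [(e v).1]
      · rwa [(e v).2]) with e1 | e1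
    · simpa using congrFun (Submodule.span_singleton_eq_bot.1 e1) 0
    · have := finrank_span_le_card (R := F) ({Pi.single 0 1} : Set (V5 F))
      rw [e1] at this
      simp at this
  have k1 : LinearMap.ker (toLin' (mt ρ a) - 1) ⊓ LinearMap.ker (toLin' (mt ρ b) - 1) = ⊥ :=
    (h.irr_of_closure hg _ (by
      rintro d (rfl | rfl) v hv
      · rwa [sub_eq_zero.1 ((ap _ v).symm.trans hv.1)]
      · rwa [sub_eq_zero.1 ((ap _ v).symm.trans hv.2)])).resolve_right fun e => nt fun v => by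
        have hv : v ∈ _ := e ▸ Submodule.mem_top
        exact ⟨sub_eq_zero.1 ((ap _ v).symm.trans hv.1), sub_eq_zero.1 ((ap _ v).symm.trans hv.2)⟩
  have k2 : LinearMap.range (toLin' (mt ρ a) - 1) ⊔ LinearMap.range (toLin' (mt ρ b) - 1) = ⊤ :=
    (h.irr_of_closure hg _ (by
      rintro d (rfl | rfl) v hv
      · rw [← sub_add_cancel (mt ρ d *ᵥ v) v]
        exact add_mem (Submodule.mem_sup_left ⟨v, rfl⟩) hv
      · rw [← sub_add_cancel (mt ρ d *ᵥ v) v]
        exact add_mem (Submodule.mem_sup_right ⟨v, rfl⟩) hv)).resolve_left fun e => nt fun v =>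
        ⟨sub_eq_zero.1 ((Submodule.mem_bot F).1 (e ▸ Submodule.mem_sup_left ⟨v, rfl⟩)),
          sub_eq_zero.1 ((Submodule.mem_bot F).1 (e ▸ Submodule.mem_sup_right ⟨v, rfl⟩))⟩
  have e : toLin' (mt ρ a) * toLin' (mt ρ b) = toLin' (mt ρ (a * b)) := by
    rw [mt_mul, toLin'_mul]; rfl
  rw [k1, k2, e, finrank_bot, finrank_top, Module.finrank_fin_fun] at h1
  have := rk_add_ker (ρ := ρ) a
  have := rk_add_ker (ρ := ρ) b
  have := rk_add_ker (ρ := ρ) (a * b)
  omega

/-! ### diagonalisation -/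

theorem rank_cb (B : GL (Fin 5) F) (g : G) (c : F) :
    (mt (cb ρ B) g - c • 1).rank = (mt ρ g - c • 1).rank := by
  have : mt (cb ρ B) g - c • 1 = ((B⁻¹ : GL (Fin 5) F) : M5 F) * (mt ρ g - c • 1) * B := by
    simp [mt_cb, mul_sub, sub_mul]
  rw [this, rank_mul_eq_left_of_isUnit_det _ _ (isUnits_det_units B),
    rank_mul_eq_right_of_isUnit_det _ _ (isUnits_det_units B⁻¹)]

theorem rk_cb (B : GL (Fin 5) F) (g : G) : rk (cb ρ B) g = rk ρ g := by
  simpa only [one_smul, rk] using rank_cb (ρ := ρ) B g 1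

theorem rank_isConj {x y : G} (h : IsConj x y) (c : F) :
    (mt ρ x - c • 1).rank = (mt ρ y - c • 1).rank := by
  obtain ⟨g, rfl⟩ := isConj_iff.1 h
  rw [← rank_cb (gl ρ g⁻¹) x c, mt_cb, ← map_inv, inv_inv, coe_gl, coe_gl, mt_mul, mt_mul]

theorem rk_isConj {x y : G} (h : IsConj x y) : rk ρ x = rk ρ y := by
  simpa only [one_smul, rk] using rank_isConj (ρ := ρ) h 1

theorem mt_eq_one_cb (B : GL (Fin 5) F) {g : G} : mt (cb ρ B) g = 1 ↔ mt ρ g = 1 := by
  rw [mt_cb, Units.mul_eq_one_iff_eq_inv, Units.inv_mul_eq_iff_eq_mul, Units.mul_inv]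

/-- a basis of common eigenvectors -/
theorem exists_cb_of_basis {A : Type*} (u : A → G) (b : Module.Basis (Fin 5) F (V5 F)) (d : A → V5 F)
    (h : ∀ a i, mt ρ (u a) *ᵥ b i = d a i • b i) :
    ∃ B : GL (Fin 5) F, ∀ a, mt (cb ρ B) (u a) = diagonal (d a) := by
  let B : M5 F := (Pi.basisFun F (Fin 5)).toMatrix b
  have hB : IsUnit B := by
    have := (Pi.basisFun F (Fin 5)).invertibleToMatrix b
    exact isUnit_of_invertible _
  obtain ⟨B', e⟩ := hB
  refine ⟨B', fun a => ?_⟩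
  rw [mt_cb, Matrix.mul_assoc, Units.inv_mul_eq_iff_eq_mul, e]
  ext i j
  have := congrFun (h a j) i
  rw [mul_diagonal, mul_comm]
  exact this

/-- simultaneous diagonalisation of commuting involutions -/
theorem exists_cb_diag2 (h2 : (2 : F) ≠ 0) {A : Type*} [Finite A] (u : A → G)
    (hc : ∀ a b, u a * u b = u b * u a) (hp : ∀ a, u a * u a = 1) :
    ∃ (B : GL (Fin 5) F) (d : A → V5 F), (∀ a i, d a i = 1 ∨ d a i = -1) ∧
      ∀ a, mt (cb ρ B) (u a) = diagonal (d a) := by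
  obtain ⟨b, c, h⟩ := Inv2.exists_eigenbasis_gl h2 (ρ := fun a => toLin' (mt ρ (u a)))
    (fun a b x => by simp only [toLin'_apply, mulVec_mulVec, ← mt_mul, hc a b])
    (fun a x => by simp only [toLin'_apply, mulVec_mulVec, ← mt_mul, hp a, mt_one, one_mulVec])
    (Module.finrank_fin_fun F)
  obtain ⟨B, hB⟩ := exists_cb_of_basis (ρ := ρ) u b (fun a i => ((c a i : ℤ) : F)) fun a i =>
    (h a i).trans (by rw [Units.smul_def, Int.cast_smul_eq_zsmul])
  exact ⟨B, _, fun a i => by rcases Int.units_eq_one_or (c a i) with e | e <;> simp [e], hB⟩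

/-- simultaneous diagonalisation of commuting elements of order prime to the characteristic -/
theorem exists_cb_diag [IsAlgClosed F] {A : Type*} (u : A → G) (hc : ∀ a b, u a * u b = u b * u a)
    {N : ℕ} (hN : (N : F) ≠ 0) (hp : ∀ a, u a ^ N = 1) :
    ∃ (B : GL (Fin 5) F) (d : A → V5 F), (∀ a i, d a i ^ N = 1) ∧
      ∀ a, mt (cb ρ B) (u a) = diagonal (d a) := by
  let π : A → Module.End F (V5 F) := fun a => toLin' (mt ρ (u a))
  have h1 := LS.iSup_wsp_eq_top π (fun a b => by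
      show toLin' _ ∘ₗ toLin' _ = toLin' _ ∘ₗ toLin' _
      rw [← toLin'_mul, ← toLin'_mul, ← mt_mul, ← mt_mul, hc]) hN fun a => by
    rw [← toLin'_pow, ← mt_pow, hp, mt_one, toLin'_one]; rfl
  have h2 : ⊤ ≤ Submodule.span F {v | ∃ l, v ∈ LS.wsp π l} := by
    rw [← h1]
    exact iSup_le fun l v hv => Submodule.subset_span ⟨l, hv⟩
  let b := Module.Basis.ofSpan h2
  have := Module.Finite.finite_basis b
  have := Fintype.ofFinite ((linearIndepOn_empty F id).extend
    (Set.empty_subset {v | ∃ l, v ∈ LS.wsp π l}))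
  let e := Fintype.equivFinOfCardEq ((Module.finrank_eq_card_basis b).symm.trans (Module.finrank_fin_fun F))
  have key : ∀ i, ∃ l, b.reindex e i ∈ LS.wsp π l := fun i =>
    Module.Basis.ofSpan_subset h2 ⟨e.symm i, (b.reindex_apply e i).symm⟩
  choose l hl using key
  obtain ⟨B, hB⟩ := exists_cb_of_basis (ρ := ρ) u (b.reindex e) (fun a i => l i a) fun a i => hl i a
  refine ⟨B, _, fun a i => ?_, hB⟩
  have := congrFun (congrFun (mt_pow (ρ := cb ρ B) (u a) N) i) i
  rwa [hp, mt_one, hB, diagonal_pow, diagonal_apply_eq, one_apply_eq, eq_comm] at this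

theorem rank_diag [DecidableEq F] (d : V5 F) (c : F) : (diagonal d - c • 1).rank = ∑ i, if d i = c then 0 else 1 := by
  rw [smul_one_eq_diagonal, diagonal_sub, rank_diagonal, Fintype.card_subtype, Finset.card_filter]
  simp only [sub_ne_zero, ite_not]

theorem rk_diag [DecidableEq F] {g : G} {d : V5 F} (h : mt ρ g = diagonal d) :
    rk ρ g = ∑ i, if d i = 1 then 0 else 1 := by
  rw [← rank_diag, rk, h, one_smul]

/-- conjugate diagonal elements have the same entries -/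
theorem exists_perm_of_isConj {x y : G} (h : IsConj x y) {d e : V5 F} (hx : mt ρ x = diagonal d)
    (hy : mt ρ y = diagonal e) : ∃ σ : Equiv.Perm (Fin 5), ∀ i, d (σ i) = e i := by
  classical
  have key : ∀ (d : V5 F) c, Fintype.card {i // d i = c} + ∑ i, (if d i = c then 0 else 1) = 5 := fun d c => by
    rw [Fintype.card_subtype, Finset.card_filter, ← Finset.sum_add_distrib]
    rw [Finset.sum_congr rfl (g := fun _ => 1) fun i _ => by split_ifs <;> rfl]
    rfl
  refine ⟨Equiv.ofFiberEquiv (f := e) (g := d) fun c => Fintype.equivOfCardEq ?_, Equiv.ofFiberEquiv_map _⟩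
  have h1 := rank_isConj (ρ := ρ) h c
  rw [hx, hy, rank_diag, rank_diag] at h1
  have h2 := key d c
  have h3 := key e c
  convert (show Fintype.card {i // e i = c} = Fintype.card {i // d i = c} by omega)

theorem rk_two {a b : G} (ha : a * a = 1) (hb : b * b = 1) (hc : a * b = b * a)
    (h1 : IsConj a b) (h2 : IsConj a (a * b)) : rk ρ a ≤ 2 := by
  classical
  by_cases two : (2 : F) = 0
  · have h3 : (mt ρ a - 1) * (mt ρ a - 1) = 0 := by
      have : (mt ρ a - 1) * (mt ρ a - 1) = mt ρ (a * a) - 1 - (2 : F) • (mt ρ a - 1) := by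
        rw [mt_mul, two_smul]; noncomm_ring
      rw [this, ha, mt_one, two, zero_smul, sub_zero, sub_self]
    have := rank_add_rank_le_card_of_mul_eq_zero h3
    rw [Fintype.card_fin] at this
    unfold rk
    omega
  obtain ⟨B, d, hd, e⟩ := exists_cb_diag2 (ρ := ρ) two ![a, b]
    (by simp [Fin.forall_fin_two, hc]) (by simp [Fin.forall_fin_two, ha, hb])
  have ea : mt (cb ρ B) a = diagonal (d 0) := e 0
  have eb : mt (cb ρ B) b = diagonal (d 1) := e 1
  have n1 : (-1 : F) ≠ 1 := fun e => two (by linear_combination -e)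
  have k := Finset.sum_congr (s₁ := Finset.univ) rfl (g := fun i => 2 * if d 0 i = 1 ∧ d 1 i = 1 then 0 else 1)
    (f := fun i => (if d 0 i = 1 then 0 else 1) + (if d 1 i = 1 then 0 else 1) +
      if d 0 i * d 1 i = 1 then 0 else 1) fun i _ => by
    rcases hd 0 i with e0 | e0 <;> rcases hd 1 i with e1 | e1 <;> simp [e0, e1, n1]
  rw [Finset.sum_add_distrib, Finset.sum_add_distrib, ← rk_diag ea, ← rk_diag eb,
    ← rk_diag (g := a * b) (by rw [mt_mul, ea, eb, diagonal_mul_diagonal]), ← rk_isConj h1, ← rk_isConj h2,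
    ← Finset.mul_sum, rk_cb] at k
  have : ∑ i, (if d 0 i = 1 ∧ d 1 i = 1 then 0 else 1) ≤ ∑ _i : Fin 5, 1 :=
    Finset.sum_le_sum fun i _ => by split_ifs <;> omega
  rw [show ∑ _i : Fin 5, 1 = 5 from rfl] at this
  omega

theorem eig_ker_mul_le (f g : Module.End F (V5 F)) : Module.finrank F (LinearMap.ker (f * g)) ≤
    Module.finrank F (LinearMap.ker f) + Module.finrank F (LinearMap.ker g) := by
  rw [← LinearMap.finrank_range_add_finrank_ker (g.domRestrict (LinearMap.ker (f * g)))]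
  refine add_le_add (Submodule.finrank_mono ?_) ?_
  · rintro _ ⟨v, rfl⟩
    exact v.2
  · rw [← Submodule.finrank_map_subtype_eq]
    refine Submodule.finrank_mono ?_
    rintro _ ⟨v, hv, rfl⟩
    exact hv

theorem rk_three [CharP F 3] {g : G} (h : g ^ 3 = 1) : rk ρ g ≤ 3 := by
  have h0 := rk_add_ker (ρ := ρ) g
  set f : Module.End F (V5 F) := toLin' (mt ρ g) with hf
  have h3 : f ^ 3 = 1 := by rw [hf, ← toLin'_pow, ← mt_pow, h, mt_one, toLin'_one]; rfl
  have h4 : (f - 1) * (f - 1) * (f - 1) = 0 := by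
    have : (f - 1) * (f - 1) * (f - 1) = f ^ 3 - 1 - (3 : F) • (f * f - f) := by
      rw [show (3 : F) = 1 + 1 + 1 by norm_num, add_smul, add_smul, one_smul, pow_three]
      simp only [mul_sub, sub_mul, mul_one, one_mul, mul_assoc]
      abel
    rw [this, h3, show (3 : F) = 0 from CharP.cast_eq_zero F 3, zero_smul, sub_zero, sub_self]
  have h1 := eig_ker_mul_le ((f - 1) * (f - 1)) (f - 1)
  have h2 := eig_ker_mul_le (f - 1) (f - 1)
  rw [h4, LinearMap.ker_zero, finrank_top, Module.finrank_fin_fun] at h1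
  obtain ⟨n, hn⟩ : ∃ n, n = Module.finrank F (LinearMap.ker (f - 1 : Module.End F (V5 F))) := ⟨_, rfl⟩
  have h5 : rk ρ g + n = 5 := hn ▸ h0
  have h6 : 5 ≤ n + n + n := hn ▸ h1.trans (Nat.add_le_add_right h2 _)
  omega

theorem eig_dvd_card {α : Type*} [Finite α] (τ : Equiv.Perm α) {o : ℕ}
    (h : ∀ i j, (τ ^ j) i = i → o ∣ j) : o ∣ Nat.card α := by
  classical
  have := Fintype.ofFinite α
  have := Fintype.ofFinite (MulAction.orbitRel.Quotient (zpowers τ) α)
  rw [Nat.card_congr (MulAction.selfEquivSigmaOrbits (zpowers τ) α), Nat.card_sigma]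
  refine Finset.dvd_sum fun ω _ => h ω.out _ ?_
  rw [Nat.card_eq_fintype_card, ← MulAction.minimalPeriod_eq_card]
  exact (MulAction.pow_smul_eq_iff_minimalPeriod_dvd (a := τ) (b := ω.out)).2 dvd_rfl

theorem eig_prim {r : ℕ} [Fact r.Prime] {c : F} (h : c ^ r = 1) (h1 : c ≠ 1) : IsPrimitiveRoot c r :=
  orderOf_eq_prime h h1 ▸ IsPrimitiveRoot.orderOf c

variable [IsAlgClosed F]

theorem dvd_rk {r k : ℕ} [Fact r.Prime] (hr : (r : F) ≠ 0) {g : G} (hg : g ^ r = 1)
    (hk : IsConj g (g ^ k)) : orderOf (k : ZMod r) ∣ rk ρ g := by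
  classical
  obtain ⟨B, d, hd, e⟩ := exists_cb_diag (ρ := ρ) (fun _ : Unit => g) (fun _ _ => rfl) hr fun _ => hg
  obtain ⟨σ, hσ⟩ := exists_perm_of_isConj hk (e ()) (by rw [mt_pow, e (), diagonal_pow])
  replace hσ : ∀ i, d () (σ i) = d () i ^ k := hσ
  rw [← rk_cb B, rk_diag (e ())]
  by_cases hrk : r ∣ k
  · rw [Finset.sum_eq_zero fun i _ => if_pos ?_]
    · exact dvd_zero _
    obtain ⟨j, rfl⟩ := hrk
    rw [← σ.apply_symm_apply i, hσ, pow_mul, hd, one_pow]
  have h1 : ∀ i, d () (σ i) ≠ 1 ↔ d () i ≠ 1 := fun i => by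
    rw [hσ]
    exact ⟨fun a b => a (by rw [b, one_pow]), fun a b => hrk ((eig_prim (hd () i) a).dvd_of_pow_eq_one k b)⟩
  have h2 : ∀ j i, d () ((σ ^ j) i) = d () i ^ k ^ j := fun j => by
    induction j with
    | zero => simp
    | succ j ih => intro i; rw [pow_succ', Equiv.Perm.mul_apply, hσ, ih, ← pow_mul, ← pow_succ]
  have h3 := eig_dvd_card (σ.subtypePerm (p := fun i => d () i ≠ 1) h1) (o := orderOf (k : ZMod r)) fun i j e => by
    have e1 := h2 j i
    rw [Equiv.Perm.subtypePerm_pow] at e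
    rw [show (σ ^ j) i = i from congrArg Subtype.val e] at e1
    have h4 := eig_prim (hd () i) i.2
    have h5 : 1 ≤ k ^ j := Nat.pos_of_ne_zero (pow_ne_zero _ fun e => hrk (e ▸ dvd_zero r))
    have h6 := h4.dvd_of_pow_eq_one (k ^ j - 1) (mul_right_cancel₀ (h4.ne_zero (Fact.out : r.Prime).ne_zero)
      (by rw [← pow_succ, Nat.sub_add_cancel h5, one_mul, ← e1]))
    rw [orderOf_dvd_iff_pow_eq_one, ← Nat.cast_pow, ← Nat.cast_one, ZMod.natCast_eq_natCast_iff]
    exact ((Nat.modEq_iff_dvd' h5).2 h6).symm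
  rw [Nat.card_eq_fintype_card, Fintype.card_subtype, Finset.card_filter] at h3
  simpa only [ite_not] using h3

theorem tr_eleven (h11 : (11 : F) ≠ 0) {u x : G} {k : ℕ} (hu : u ^ 11 = 1) (h1 : mt ρ u ≠ 1)
    (hx : x * u * x⁻¹ = u ^ k) (hk : orderOf (k : ZMod 11) = 5) :
    tr ρ x = 0 ∧ tr ρ u ^ 2 + tr ρ u + 3 = 0 ∧ tr ρ u⁻¹ = -1 - tr ρ u := by
  have k1 : (k : ZMod 11) ≠ 1 := fun e => by simp [e] at hk
  obtain ⟨j, hj⟩ : ∃ j : Fin 5, (k : ZMod 11) ^ j.1 = 3 :=
    (by decide : ∀ a : ZMod 11, a ^ 5 = 1 → a ≠ 1 → ∃ j : Fin 5, a ^ j.1 = 3) _ (hk ▸ pow_orderOf_eq_one _) k1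
  have : Fact (Nat.Prime 11) := ⟨by norm_num⟩
  have c1 : ∀ j : ℕ, x ^ j * u * (x ^ j)⁻¹ = u ^ k ^ j := fun j => by
    induction j with
    | zero => simp
    | succ j ih => rw [pow_succ k, pow_mul, ← ih, conj_pow, ← hx, pow_succ]; group
  have c3 : IsConj u (u ^ 3) := isConj_iff.2 ⟨_, (c1 j).trans (by
    rw [pow_eq_pow_mod _ hu, show k ^ j.1 % 11 = 3 % 11 from
      (ZMod.natCast_eq_natCast_iff _ _ _).1 (by rw [Nat.cast_pow, hj]; rfl)])⟩
  obtain ⟨B, d, hd, e⟩ := exists_cb_diag (ρ := ρ) (fun _ : Unit => u) (fun _ _ => rfl) (N := 11)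
    (by exact_mod_cast h11) fun _ => hu
  obtain ⟨σ, hσ⟩ := exists_perm_of_isConj c3 (e ()) (by rw [mt_pow, e (), diagonal_pow])
  replace hσ : ∀ i, d () (σ i) = d () i ^ 3 := hσ
  obtain ⟨i, hi⟩ : ∃ i, d () i ≠ 1 := by
    by_contra! hh
    exact h1 ((mt_eq_one_cb B).1 (by rw [e (), ← diagonal_one]; exact congrArg _ (funext hh)))
  have hz := hd () i
  have hp := eig_prim hz hi
  generalize hζ : d () i = ζ at hz hp hi
  let s : Fin 5 → ℕ := ![1, 3, 9, 5, 4]
  let t : Fin 5 → Fin 5 := ![i, σ i, σ (σ i), σ (σ (σ i)), σ (σ (σ (σ i)))]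
  have ht : ∀ l, d () (t l) = ζ ^ s l := fun l => by
    fin_cases l <;> simp only [t, s, hσ, hζ, ← pow_mul, Fin.zero_eta, Fin.mk_one, Fin.reduceFinMk, cons_val]
    · rw [pow_one]
    · exact pow_eq_pow_mod _ hz
    · exact pow_eq_pow_mod _ hz
  have hs : ∀ l, s l < 11 ∧ ¬ 11 ∣ s l := by decide
  have hb : Function.Bijective t := Finite.injective_iff_bijective.1 fun l l' e =>
    (by decide : Function.Injective s) (hp.pow_inj (hs l).1 (hs l').1 (by rw [← ht, ← ht, e]))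
  have h0 : ∑ i ∈ Finset.range 11, ζ ^ i = 0 := hp.geom_sum_eq_zero (by norm_num)
  simp only [Finset.sum_range_succ, Finset.sum_range_zero] at h0
  have t1 : tr ρ u = ζ + ζ ^ 3 + ζ ^ 9 + ζ ^ 5 + ζ ^ 4 := by
    rw [← tr_cb B, tr, e (), trace_diagonal, ← hb.sum_comp]
    simp [ht, s, Fin.sum_univ_five]
  have t2 : tr ρ u⁻¹ = ζ ^ 10 + ζ ^ 8 + ζ ^ 2 + ζ ^ 6 + ζ ^ 7 := by
    rw [inv_eq_of_mul_eq_one_left (show u ^ 10 * u = 1 by rw [← pow_succ, hu]), ← tr_cb B, tr, mt_pow, e (), diagonal_pow,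
      trace_diagonal, ← hb.sum_comp]
    simp only [Pi.pow_apply, ht, s, Fin.sum_univ_five, ← pow_mul, cons_val]
    rw [pow_eq_pow_mod (3 * 10) hz, pow_eq_pow_mod (9 * 10) hz, pow_eq_pow_mod (5 * 10) hz,
      pow_eq_pow_mod (4 * 10) hz]
  refine ⟨?_, ?_, by rw [t1, t2]; linear_combination h0⟩
  · rw [← tr_cb B]
    show ∑ l, mt (cb ρ B) x l l = 0
    refine Finset.sum_eq_zero fun l _ => ?_
    have e1 := congrArg (fun g => mt (cb ρ B) g l l) (mul_inv_eq_iff_eq_mul.1 hx)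
    simp only [mt_mul, mt_pow, e (), diagonal_pow, mul_diagonal, diagonal_mul, Pi.pow_apply] at e1
    by_contra n
    obtain ⟨l, rfl⟩ := hb.2 l
    have h2 : d () (t l) ^ 11 = 1 := hd () _
    have h3 := eig_prim h2 fun e => (hs l).2 (hp.dvd_of_pow_eq_one _ (by rw [← ht, e]))
    rw [mul_comm, pow_eq_pow_mod _ h2, ← pow_one (d () (t l)), ← pow_mul, one_mul] at e1
    have h4 := h3.pow_inj (by norm_num) (Nat.mod_lt _ (by norm_num)) (mul_right_cancel₀ n e1)
    exact k1 (by rw [← ZMod.natCast_mod, ← h4, Nat.cast_one])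
  · rw [t1]
    linear_combination 3 * h0 + (ζ ^ 7 + 2 * ζ ^ 3 + 2 * ζ ^ 2 + 2 * ζ) * hz

theorem enine (h3 : (3 : F) ≠ 0) {x y : G} (hx : x ^ 3 = 1) (hy : y ^ 3 = 1) (hc : x * y = y * x)
    (h0 : IsConj x x⁻¹) (h1 : IsConj x y) (h2 : IsConj x (x * y)) (h4 : IsConj x (x * y⁻¹)) :
    mt ρ x = 1 := by
  classical
  have i2 : ∀ g : G, g ^ 3 = 1 → g⁻¹ = g ^ 2 := fun g h => inv_eq_of_mul_eq_one_left (by rw [← pow_succ, h])
  have ev := dvd_rk (ρ := ρ) (r := 3) (k := 2) (by exact_mod_cast h3) hx (i2 x hx ▸ h0)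
  rw [orderOf_eq_prime (p := 2) (by decide) (by decide)] at ev
  obtain ⟨B, d, hd, e⟩ := exists_cb_diag (ρ := ρ) ![x, y] (by simp [Fin.forall_fin_two, hc]) (N := 3)
    (by exact_mod_cast h3) (by simp [Fin.forall_fin_two, hx, hy])
  have ea : mt (cb ρ B) x = diagonal (d 0) := e 0
  have eb : mt (cb ρ B) y = diagonal (d 1) := e 1
  have sq : ∀ a : F, a ^ 3 = 1 → a ≠ 1 → a ^ 2 ≠ 1 := fun a h n e => n (by linear_combination h - a * e)
  have k := Finset.sum_congr (s₁ := Finset.univ) rfl (g := fun i => 3 * if d 0 i = 1 ∧ d 1 i = 1 then 0 else 1)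
    (f := fun i => (if d 0 i = 1 then 0 else 1) + (if d 1 i = 1 then 0 else 1) +
      (if d 0 i * d 1 i = 1 then 0 else 1) + if d 0 i * d 1 i ^ 2 = 1 then 0 else 1) fun i _ => by
    have a3 := hd 0 i
    have b3 := hd 1 i
    generalize d 0 i = a at *
    generalize d 1 i = b at *
    by_cases ha : a = 1 <;> by_cases hb : b = 1
    · simp [ha, hb]
    · simp [ha, hb, sq b b3 hb]
    · simp [ha, hb]
    have e0 : a ^ 2 + a + 1 = 0 := (mul_eq_zero.1 (show (a - 1) * (a ^ 2 + a + 1) = 0 by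
      linear_combination a3)).resolve_left (sub_ne_zero.2 ha)
    have e1 : b ^ 2 + b + 1 = 0 := (mul_eq_zero.1 (show (b - 1) * (b ^ 2 + b + 1) = 0 by
      linear_combination b3)).resolve_left (sub_ne_zero.2 hb)
    rcases mul_eq_zero.1 (show (a - b) * (a + b + 1) = 0 by linear_combination e0 - e1) with e2 | e2
    · obtain rfl := sub_eq_zero.1 e2
      rw [if_neg ha, ← pow_two, if_neg (sq a a3 ha), if_pos (by rw [← pow_succ', a3]), if_neg fun e => ha e.1]
    · obtain rfl : b = a ^ 2 := by linear_combination e2 - e0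
      rw [if_neg ha, if_neg hb, if_pos (by rw [← pow_succ', a3]), if_neg fun e => hb (by
        linear_combination e - a ^ 2 * a3), if_neg fun e => ha e.1]
  rw [Finset.sum_add_distrib, Finset.sum_add_distrib, Finset.sum_add_distrib, ← rk_diag ea, ← rk_diag eb,
    ← rk_diag (g := x * y) (by rw [mt_mul, ea, eb, diagonal_mul_diagonal]),
    ← rk_diag (g := x * y⁻¹) (by rw [i2 y hy, mt_mul, mt_pow, ea, eb, diagonal_pow, diagonal_mul_diagonal]; rfl),
    ← rk_isConj h1, ← rk_isConj h2, ← rk_isConj h4, ← Finset.mul_sum, rk_cb] at k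
  have : ∑ i, (if d 0 i = 1 ∧ d 1 i = 1 then 0 else 1) ≤ ∑ _i : Fin 5, 1 :=
    Finset.sum_le_sum fun i _ => by split_ifs <;> omega
  rw [show ∑ _i : Fin 5, 1 = 5 from rfl] at this
  exact rk_eq_zero (by omega)

end CfsgLib.D5
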