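import Cfsg.Agent.Lib.D5.TvA
import Cfsg.Agent.Lib.Perm.PermModule

/-!
FLAG: `p`-groups in characteristic `p` are unitriangular.  See `plans/D5.md`.
-/

set_option autoImplicit false

namespace CfsgLib.D5

open Matrix Cfsg Cfsg.Geo CfsgLib.Asch Subgroup
open scoped MatrixGroups commutatorElement

variable {G F : Type*} [Group G] [Field F] {ρ : G →* S5 F}

/-- upper unitriangular -/
def UT (M : M5 F) : Prop := ∀ i j : Fin 5, j ≤ i → M i j = if i = j then 1 else 0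

namespace Flag

/-- the entries vanish below the `k`-th superdiagonal -/
def St (k : ℕ) (M : M5 F) : Prop := ∀ i j : Fin 5, (j : ℕ) < i + k → M i j = 0

variable {a b : ℕ} {M N : M5 F}

theorem St.add (h : St a M) (h' : St a N) : St a (M + N) := fun i j e => by
  rw [Matrix.add_apply, h i j e, h' i j e, add_zero]

theorem St.sub (h : St a M) (h' : St a N) : St a (M - N) := fun i j e => by
  rw [Matrix.sub_apply, h i j e, h' i j e, sub_zero]

theorem St.mono (h : St a M) (e : b ≤ a) : St b M := fun i j e' => h i j (by omega)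

theorem St.mul (h : St a M) (h' : St b N) : St (a + b) (M * N) := fun i j e => by
  rw [Matrix.mul_apply]
  refine Finset.sum_eq_zero fun k _ => ?_
  by_cases h1 : (k : ℕ) < i + a
  · rw [h i k h1, zero_mul]
  · rw [h' k j (by omega), mul_zero]

theorem St.mul_apply (h : St a M) (h' : St b N) (i k j : Fin 5) (hk : (k : ℕ) = i + a)
    (hj : (j : ℕ) = k + b) : (M * N) i j = M i k * N k j := by
  rw [Matrix.mul_apply]
  refine Finset.sum_eq_single k (fun l _ e => ?_) (by simp)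
  by_cases h1 : (l : ℕ) < i + a
  · rw [h i l h1, zero_mul]
  · rw [h' l j (by have := Fin.val_ne_of_ne e; omega), mul_zero]

theorem St.eq_zero (h : St 5 M) : M = 0 := by
  ext i j
  exact h i j (by omega)

theorem St.pow (h : St 1 M) (n : ℕ) : St (n + 1) (M ^ (n + 1)) := by
  induction n with
  | zero => simpa using h
  | succ n ih => rw [pow_succ]; exact ih.mul h

theorem ut_iff : UT M ↔ St 1 (M - 1) :=
  ⟨fun h i j e => by rw [Matrix.sub_apply, h i j (Fin.le_def.2 (by omega)), one_apply, sub_self],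
    fun h i j e => by
      have := h i j (by have := Fin.le_def.1 e; omega)
      rwa [Matrix.sub_apply, sub_eq_zero, one_apply] at this⟩

end Flag

open Flag



theorem UT.mul {M N : M5 F} (h : UT M) (h' : UT N) : UT (M * N) := by
  rw [ut_iff] at h h' ⊢
  rw [show M * N - 1 = (M - 1) * (N - 1) + (M - 1) + (N - 1) by noncomm_ring]
  exact (((h.mul h').mono (by omega)).add h).add (h')

theorem UT.inv {g : G} (h : UT (mt ρ g)) : UT (mt ρ g⁻¹) := by
  rw [ut_iff] at h ⊢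
  have e : mt ρ g⁻¹ - 1 = (mt ρ g⁻¹ - 1) * (1 - mt ρ g) + (1 - mt ρ g) := by
    rw [mul_sub, sub_mul _ _ (mt ρ g), mt_inv_mul]
    noncomm_ring
  have h1 : St 1 (1 - mt ρ g) := fun i j e => by rw [← neg_sub, Matrix.neg_apply, h i j e, neg_zero]
  have key : ∀ n, ∃ X, St 1 X ∧ mt ρ g⁻¹ - 1 = (mt ρ g⁻¹ - 1) * (1 - mt ρ g) ^ (n + 1) + X :=
    fun n => by
      induction n with
      | zero => exact ⟨_, h1, by simpa using e⟩
      | succ n ih =>
        obtain ⟨X, hX, ih⟩ := ih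
        refine ⟨_, ((h1.pow (n + 1)).mono (by omega)).add hX, ?_⟩
        rw [← add_assoc, pow_succ' _ (n + 1), ← mul_assoc, ← add_mul, ← e, ← ih]
  obtain ⟨X, hX, e⟩ := key 4
  rwa [e, (h1.pow 4).eq_zero, mul_zero, zero_add]

/-- the unitriangular elements -/
def utSub (ρ : G →* S5 F) : Subgroup G where
  carrier := {g | UT (mt ρ g)}
  mul_mem' {a b} ha hb := by
    show UT (mt ρ (a * b))
    rw [mt_mul]; exact ha.mul hb
  one_mem' := fun i j _ => by rw [mt_one, one_apply]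
  inv_mem' ha := UT.inv ha

theorem isPGroup_utSub (p : ℕ) [Fact p.Prime] [CharP F p] (h : Function.Injective ρ) :
    IsPGroup p (utSub ρ) := fun g => by
  refine ⟨5, Subtype.ext (mt_inj h ?_)⟩
  have h1 := ((ut_iff.1 g.2).pow 4).eq_zero
  have h2 : 5 ≤ p ^ 5 := (Nat.lt_pow_self (Fact.out : p.Prime).one_lt).le
  have h3 := sub_pow_char_pow_of_commute p 5 (Commute.one_right (mt ρ g))
  rw [pow_eq_zero_of_le h2 h1, one_pow, eq_comm, sub_eq_zero] at h3
  rw [Subgroup.coe_pow, mt_pow, h3, OneMemClass.coe_one, mt_one]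

theorem Flag.comm_eq (a b : G) : mt ρ ⁅a, b⁆ - 1 =
    ((mt ρ a - 1) * (mt ρ b - 1) - (mt ρ b - 1) * (mt ρ a - 1)) +
      ((mt ρ a - 1) * (mt ρ b - 1) - (mt ρ b - 1) * (mt ρ a - 1)) * (mt ρ (b * a)⁻¹ - 1) := by
  have e := mt_mul_inv (ρ := ρ) (b * a)
  rw [show ⁅a, b⁆ = a * b * (b * a)⁻¹ by rw [commutatorElement_def]; group, mt_mul, mt_mul]
  rw [mt_mul b a] at e
  generalize mt ρ (b * a)⁻¹ = X at e ⊢
  calc _ = mt ρ a * mt ρ b * X - mt ρ b * mt ρ a * X := by rw [e]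
    _ = _ := by noncomm_ring

theorem Flag.comm_st {a b : G} (ha : a ∈ utSub ρ) (hb : b ∈ utSub ρ) :
    St 2 (mt ρ ⁅a, b⁆ - 1) ∧
      (mt ρ ⁅a, b⁆ - 1) 0 2 = mt ρ a 0 1 * mt ρ b 1 2 - mt ρ b 0 1 * mt ρ a 1 2 ∧
      (mt ρ ⁅a, b⁆ - 1) 2 4 = mt ρ a 2 3 * mt ρ b 3 4 - mt ρ b 2 3 * mt ρ a 3 4 := by
  have h3 := ut_iff.1 (inv_mem (mul_mem hb ha))
  have h1 := ut_iff.1 ha
  have h2 := ut_iff.1 hb
  have h4 := (h1.mul h2).sub (h2.mul h1)
  have h5 := h4.mul h3
  rw [comm_eq]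
  refine ⟨h4.add (h5.mono (by omega)), ?_, ?_⟩
  · rw [Matrix.add_apply, h5 0 2 (by decide), add_zero, Matrix.sub_apply, h1.mul_apply h2 0 1 2 rfl rfl,
      h2.mul_apply h1 0 1 2 rfl rfl]
    simp
  · rw [Matrix.add_apply, h5 2 4 (by decide), add_zero, Matrix.sub_apply, h1.mul_apply h2 2 3 4 rfl rfl,
      h2.mul_apply h1 2 3 4 rfl rfl]
    simp

/-- second commutators live in the corner -/
theorem comm_corner {a b c d : G} (ha : a ∈ utSub ρ) (hb : b ∈ utSub ρ) (hc : c ∈ utSub ρ)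
    (hd : d ∈ utSub ρ) : mt ρ ⁅⁅a, b⁆, ⁅c, d⁆⁆ = 1 + single 0 4
      ((mt ρ a 0 1 * mt ρ b 1 2 - mt ρ b 0 1 * mt ρ a 1 2) *
          (mt ρ c 2 3 * mt ρ d 3 4 - mt ρ d 2 3 * mt ρ c 3 4) -
        (mt ρ c 0 1 * mt ρ d 1 2 - mt ρ d 0 1 * mt ρ c 1 2) *
          (mt ρ a 2 3 * mt ρ b 3 4 - mt ρ b 2 3 * mt ρ a 3 4)) := by
  obtain ⟨h1, e1, e2⟩ := comm_st ha hb
  obtain ⟨h2, e3, e4⟩ := comm_st hc hd
  have m : ∀ {a b : G}, a ∈ utSub ρ → b ∈ utSub ρ → ⁅a, b⁆ ∈ utSub ρ := fun ha hb =>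
    mul_mem (mul_mem (mul_mem ha hb) (inv_mem ha)) (inv_mem hb)
  have h3 := ut_iff.1 (inv_mem (mul_mem (m hc hd) (m ha hb)))
  have h4 := (h1.mul h2).sub (h2.mul h1)
  rw [← sub_eq_iff_eq_add', comm_eq, (h4.mul h3).eq_zero, add_zero, ← e1, ← e2, ← e3, ← e4,
    ← h1.mul_apply h2 0 2 4 rfl rfl, ← h2.mul_apply h1 0 2 4 rfl rfl, ← Matrix.sub_apply]
  ext i j
  by_cases e : 0 = i ∧ 4 = j
  · rw [← e.1, ← e.2, single_apply_same]
  · rw [single_apply_of_ne _ _ _ _ _ e, h4 i j (by omega)]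

theorem Flag.step [Finite G] (p : ℕ) [Fact p.Prime] [CharP F p] {U : Subgroup G}
    (hU : IsPGroup p U) {k : ℕ} (hk : k < 5) (v : Fin k → V5 F)
    (hv : ∀ s ∈ U, ∀ i, mt ρ s *ᵥ v i ∈ Submodule.span F (Set.range v)) :
    ∃ u, u ∉ Submodule.span F (Set.range v) ∧
      ∀ s ∈ U, mt ρ s *ᵥ u - u ∈ Submodule.span F (Set.range v) := by
  let r : Representation F U (V5 F) :=
    (Matrix.toLinAlgEquiv' (R := F) (n := Fin 5)).toMonoidHom.comp ((mtH ρ).comp U.subtype)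
  let W := Submodule.span F (Set.range v)
  have hW : ∀ s, W ≤ W.comap (r s) := fun s => Submodule.span_le.2 (by
    rintro _ ⟨i, rfl⟩
    exact hv s s.2 i)
  obtain ⟨_, ⟨u, -, rfl⟩, h1, h2⟩ := Perm.exists_fixed_of_isPGroup hU (r.quotient W hW)
    ((⊤ : Submodule F (V5 F)).map W.mkQ) (by rintro s _ ⟨v, -, rfl⟩; exact ⟨_, trivial, rfl⟩)
    (fun e => by
      rw [← le_bot_iff, Submodule.map_le_iff_le_comap, Submodule.comap_bot, Submodule.ker_mkQ,
        top_le_iff] at e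
      have := finrank_range_le_card (R := F) v
      rw [Set.finrank, show Submodule.span F (Set.range v) = ⊤ from e, finrank_top,
        Module.finrank_fintype_fun_eq_card, Fintype.card_fin, Fintype.card_fin] at this
      omega)
  exact ⟨u, fun e => h1 ((Submodule.Quotient.mk_eq_zero W).2 e),
    fun s hs => (Submodule.Quotient.eq W).1 (h2 ⟨s, hs⟩)⟩

theorem Flag.chain [Finite G] (p : ℕ) [Fact p.Prime] [CharP F p] {U : Subgroup G}
    (hU : IsPGroup p U) (k : ℕ) (hk : k ≤ 5) : ∃ v : Fin k → V5 F, LinearIndependent F v ∧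
      ∀ s ∈ U, ∀ i, ∃ c : Fin k → F, (∀ j, i ≤ j → c j = 0) ∧
        mt ρ s *ᵥ v i = v i + ∑ j, c j • v j := by
  induction k with
  | zero => exact ⟨Fin.elim0, linearIndependent_empty_type, fun _ _ i => i.elim0⟩
  | succ k ih =>
    obtain ⟨v, hv, h⟩ := ih (by omega)
    obtain ⟨u, h1, h2⟩ := step (ρ := ρ) p hU (by omega) v fun s hs i => by
      obtain ⟨c, -, e⟩ := h s hs i
      rw [e]
      exact add_mem (Submodule.subset_span ⟨i, rfl⟩)
        ((Submodule.mem_span_range_iff_exists_fun F).2 ⟨c, rfl⟩)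
    refine ⟨Fin.snoc v u, linearIndependent_finSnoc.2 ⟨hv, h1⟩, fun s hs i => ?_⟩
    induction i using Fin.lastCases with
    | last =>
      obtain ⟨c, hc⟩ := (Submodule.mem_span_range_iff_exists_fun F).1 (h2 s hs)
      refine ⟨Fin.snoc c 0, fun j e => by rw [Fin.last_le_iff.1 e, Fin.snoc_last], ?_⟩
      simp [Fin.sum_univ_castSucc, hc]
    | cast i =>
      obtain ⟨c, hc, e⟩ := h s hs i
      refine ⟨Fin.snoc c 0, fun j e => ?_, by simp [Fin.sum_univ_castSucc, e]⟩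
      induction j using Fin.lastCases with
      | last => rw [Fin.snoc_last]
      | cast j => rw [Fin.snoc_castSucc, hc j (Fin.castSucc_le_castSucc_iff.1 e)]



theorem exists_flag [Finite G] (p : ℕ) [Fact p.Prime] [CharP F p] {U : Subgroup G}
    (hU : IsPGroup p U) : ∃ B, U ≤ utSub (cb ρ B) := by
  obtain ⟨v, hv, h⟩ := chain (ρ := ρ) p hU 5 le_rfl
  have hu : IsUnit (Matrix.of fun i j => v j i : M5 F) := linearIndependent_cols_iff_isUnit.1 hv
  refine ⟨hu.unit, fun s hs => ?_⟩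
  choose c h1 h2 using h s hs
  have e : mt ρ s * hu.unit = hu.unit * (1 + Matrix.of fun i j => c j i) := by
    ext i j
    have := congrFun (h2 j) i
    rw [IsUnit.unit_spec, mul_add, mul_one, Matrix.add_apply, mul_apply, mul_apply]
    simpa [mulVec, dotProduct, mul_comm] using this
  intro i j hij
  rw [mt_cb, mul_assoc, e, Units.inv_mul_cancel_left, Matrix.add_apply, of_apply, h1 j i hij, add_zero,
    one_apply]

/-- without transvections `p`-subgroups are metabelian -/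
theorem metab [Finite G] (p : ℕ) [Fact p.Prime] [CharP F p] (h : Function.Injective ρ)
    (hn : ∀ d, ¬ IsTv ρ d) {U : Subgroup G} (hU : IsPGroup p U) {a b c d : G} (ha : a ∈ U)
    (hb : b ∈ U) (hc : c ∈ U) (hd : d ∈ U) : ⁅⁅a, b⁆, ⁅c, d⁆⁆ = 1 := by
  obtain ⟨B, hB⟩ := exists_flag (ρ := ρ) p hU
  have e := comm_corner (hB ha) (hB hb) (hB hc) (hB hd)
  obtain ⟨x, e⟩ : ∃ x, mt (cb ρ B) ⁅⁅a, b⁆, ⁅c, d⁆⁆ = 1 + single 0 4 x := ⟨_, e⟩
  by_cases hx : x = 0
  · exact mt_inj (cb_injective h B) (by rw [e, hx, mt_one]; simp)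
  · refine (hn ⁅⁅a, b⁆, ⁅c, d⁆⁆ ((isTv_cb B).1 ⟨Pi.single 0 x, Pi.single 4 1, ⟨?_, ?_, ?_⟩, ?_⟩)).elim
    · rw [e]
      congr 1
      ext i j
      simp only [vecMulVec_apply, Pi.single_apply, Matrix.single_apply]
      by_cases hi : i = 0 <;> by_cases hj : j = 4 <;> simp [hi, hj, eq_comm]
    · simpa using hx
    · simp
    · simp

end CfsgLib.D5
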