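import Cfsg.Agent.Lib.D5.Eig
import Cfsg.Agent.Lib.Dim4.TRA
import Cfsg.Agent.S0256
import Cfsg.Agent.S2392

/-!
KA: alternating groups.  See `plans/D5.md`.
-/

set_option autoImplicit false
set_option linter.unusedSectionVars false

namespace CfsgLib.D5

open Matrix Cfsg Cfsg.Geo CfsgLib.Asch Subgroup
open scoped MatrixGroups

variable {G F : Type*} [Group G] [Field F] {ρ : G →* S5 F}

theorem ka_real (g : alternatingGroup (Fin 7)) (h : g.1.cycleType ≠ {7}) : IsConj g g⁻¹ := by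
  obtain ⟨π, hπ⟩ := isConj_iff.1 (Equiv.Perm.isConj_of_cycleType_eq
    (Equiv.Perm.cycleType_inv g.1).symm)
  obtain ⟨c, hc, c1⟩ : ∃ c ∈ centralizer {g.1}, c ∉ alternatingGroup (Fin 7) := by
    rw [← SetLike.not_le_iff_exists, Equiv.Perm.centralizer_le_alternating_iff]
    rintro ⟨h1, h2, h3⟩
    rcases (Dim4.TRA.types le_rfl g).2 with k | k | k | k | k | k | k | k <;> rw [k] at h1 h2 h3 h
    exacts [absurd h2 (by decide), absurd h2 (by decide), absurd h2 (by decide),
      absurd (h3 3) (by decide), absurd (h3 2) (by decide), absurd (h1 2 (by decide)) (by decide),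
      absurd h2 (by decide), h rfl]
  by_cases h1 : π ∈ alternatingGroup (Fin 7)
  · exact isConj_iff.2 ⟨⟨π, h1⟩, Subtype.ext hπ⟩
  · refine isConj_iff.2 ⟨⟨π * c, ?_⟩, Subtype.ext ?_⟩
    · rw [Equiv.Perm.mem_alternatingGroup] at h1 c1 ⊢
      rw [map_mul, (Int.units_eq_one_or _).resolve_left h1, (Int.units_eq_one_or _).resolve_left c1]
      rfl
    · show π * c * g.1 * (π * c)⁻¹ = g.1⁻¹
      rw [← hπ, mul_assoc π, mem_centralizer_singleton_iff.1 hc]
      group

theorem ka_ord : orderOf ((2 : ℕ) : ZMod 7) = 3 := orderOf_eq_prime (by decide) (by decide)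

variable [Finite G] [IsAlgClosed F] (p : ℕ) [Fact p.Prime] [CharP F p]

open Dim4.TRA in
include p in
theorem kill_A7 (h : Hy ρ) (e : G ≃* alternatingGroup (Fin 7)) : Real ρ := by
  have cj : ∀ {x y}, (∃ c, c * x * c⁻¹ = y) → IsConj (e.symm x) (e.symm y) := fun k =>
    e.symm.toMonoidHom.map_isConj (isConj_iff.2 k)
  by_cases h7 : p = 7
  · refine real_of_reg p fun g hg => ?_
    have := cj (isConj_iff.1 (ka_real (e g) fun k => ?_))
    · simpa using this
    · rw [← e.orderOf_eq, ← orderOf_coe, ← Equiv.Perm.lcm_cycleType, k, h7] at hg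
      exact absurd hg (by decide)
  exfalso
  have : Fact (Nat.Prime 7) := ⟨by decide⟩
  have n7 : ((7 : ℕ) : F) ≠ 0 := fun k =>
    h7 ((Nat.prime_dvd_prime_iff_eq Fact.out Fact.out).1 ((CharP.cast_eq_zero_iff F p 7).1 k))
  let a : alternatingGroup (Fin 7) := ev (c[0, 2] * c[1, 3])
  let a' : alternatingGroup (Fin 7) := ev (c[0, 1] * c[2, 3])
  let b : alternatingGroup (Fin 7) := ev c[0, 1, 2, 3, 4, 5, 6]
  have hg : closure {a, b} = ⊤ := gen [[1, 0, 1, 1, 0, 1, 1], [0, 1, 1, 0, 1, 1, 0, 1, 0],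
    [0, 1, 1, 1, 0, 1, 1], [1, 0, 1, 0, 1, 1, 1, 0, 1, 0, 1, 0], [0, 1, 1, 0, 1, 1, 1]]
    (by decide +kernel)
  have h1 := scott5 (a := e.symm a) (b := e.symm b) h.abs (by
    have := congrArg (map e.symm.toMonoidHom) hg
    rwa [MonoidHom.map_closure, map_top_of_surjective _ e.symm.surjective, Set.image_pair] at this)
  have h2 : rk ρ (e.symm a) ≤ 2 := rk_two (b := e.symm a')
    (by rw [← map_mul, show a * a = 1 by decide +kernel, map_one])
    (by rw [← map_mul, show a' * a' = 1 by decide +kernel, map_one])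
    (by rw [← map_mul e.symm a, ← map_mul e.symm a', show a * a' = a' * a by decide +kernel])
    (cj ⟨ev c[0, 1, 2], by decide +kernel⟩)
    (map_mul e.symm a a' ▸ cj ⟨ev c[1, 2, 3], by decide +kernel⟩)
  have k : ∀ x, x ^ 7 = 1 → (∃ c, c * x * c⁻¹ = x ^ 2) → rk ρ (e.symm x) ≤ 3 := fun x hx hc => by
    have h3 := dvd_rk (ρ := ρ) (k := 2) n7 (by rw [← map_pow, hx, map_one])
      (map_pow e.symm x 2 ▸ cj hc)
    rw [ka_ord] at h3
    have := rk_le (ρ := ρ) (e.symm x)
    omega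
  have h3 := k b (by decide +kernel) ⟨ev (c[1, 2, 4] * c[3, 6, 5]), by decide +kernel⟩
  have h4 := k (a * b) (by decide +kernel) ⟨ev (c[0, 4, 1] * c[3, 6, 5]), by decide +kernel⟩
  rw [map_mul] at h4
  omega

omit [Finite G] [IsAlgClosed F] in
theorem ka_eight (hp : p ≠ 2) (σ : alternatingGroup (Fin 8) →* S5 F)
    (hσ : Function.Injective σ) : False := by
  obtain ⟨f⟩ := Agent.S0256.result (F := ZMod 2) (ZMod.card 2)
  have := Agent.S2392.result (ZMod.card 2) 4 (by decide) (K := F)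
    (by rwa [ringChar.eq F p, ZMod.ringChar_zmod_n])
    ((gl σ).comp (f.toMonoidHom.comp (QuotientGroup.mk' _))) fun g hg =>
      (QuotientGroup.eq_one_iff g).1 ((map_eq_one_iff ((gl σ).comp f.toMonoidHom)
        ((SpecialLinearGroup.toGL_injective.comp hσ).comp f.injective)).1 hg)
  omega

theorem kill_A8 (h : Hy ρ) (hp : p ≠ 2) (e : G ≃* alternatingGroup (Fin 8)) : False :=
  ka_eight p hp (ρ.comp e.symm.toMonoidHom) (h.inj.comp e.symm.injective)

theorem kill_A9 (h : Hy ρ) (hp : p ≠ 2) (e : G ≃* alternatingGroup (Fin 9)) : False := by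
  let f : Fin 8 ≃ {i : Fin 9 // i ≠ 0} := finSuccAboveEquiv 0
  let ι : alternatingGroup (Fin 8) →* alternatingGroup (Fin 9) :=
    ((Equiv.Perm.extendDomainHom f).comp (alternatingGroup _).subtype).codRestrict _ fun g =>
      (Equiv.Perm.sign_extendDomain _ f).trans g.2
  exact ka_eight p hp ((ρ.comp e.symm.toMonoidHom).comp ι) ((h.inj.comp e.symm.injective).comp
    fun a b k => Subtype.ext (Equiv.Perm.extendDomainHom_injective f (congrArg Subtype.val k)))

end CfsgLib.D5
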