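import Cfsg.Agent.Lib.D5.Eig

/-!
KL3S: `L₃(3)` and `L₃(4)` in the defining characteristic.  See `plans/D5.md`.
-/

set_option autoImplicit false

namespace CfsgLib.D5

open Matrix Cfsg Cfsg.Geo CfsgLib.Asch Subgroup
open scoped MatrixGroups

namespace KL3s

theorem exists_hom {G E K : Type*} [Group G] [Field E] [Field K] (e : G ≃* PSL(3, E)) (f : K ≃+* E) :
    ∃ η : SL(3, K) →* G, Function.Surjective η ∧ ∀ g, η g = 1 ↔ g ∈ center SL(3, K) := by
  let φ : PSL(3, K) ≃* G := (Classical.pslMapEquiv f).trans e.symm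
  refine ⟨φ.toMonoidHom.comp (QuotientGroup.mk' _), φ.surjective.comp (QuotientGroup.mk'_surjective _),
    fun g => ?_⟩
  exact (MulEquiv.map_eq_one_iff φ).trans (QuotientGroup.eq_one_iff g)

theorem isConj_of {G : Type*} [Group G] {g x y : G} (h : g * x = y * g) : IsConj x y :=
  isConj_iff.2 ⟨g, by rw [h, mul_inv_cancel_right]⟩

abbrev L3 := SL(3, ZMod 3)

def a : L3 := ⟨!![1, 0, 0; 0, 2, 0; 0, 0, 2], by decide +kernel⟩
def a' : L3 := ⟨!![2, 0, 0; 0, 1, 0; 0, 0, 2], by decide +kernel⟩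
def b : L3 := ⟨!![0, 0, 1; 0, 2, 1; 1, 1, 1], by decide +kernel⟩
def c : L3 := ⟨!![0, 0, 1; 1, 2, 0; 2, 2, 1], by decide +kernel⟩
def s : L3 := ⟨!![0, 0, 1; 1, 0, 0; 0, 1, 0], by decide +kernel⟩

theorem facts3 : a * a = 1 ∧ a' * a' = 1 ∧ a * a' = a' * a ∧ s * a = a' * s ∧ s * s * a = a * a' * (s * s) ∧
    b ^ 3 = 1 ∧ (a * b) ^ 13 = 1 ∧ c * (a * b) = (a * b) ^ 3 * c := by
  decide +kernel

def wd (l : List ℕ) : L3 := (l.map fun k => a * b ^ k).prod

theorem words : ∀ (i j : Fin 3) (h : i ≠ j), SpecialLinearGroup.transvection h (1 : ZMod 3) ∈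
    [a * wd [1, 1, 2, 2, 2, 1, 1, 1, 2, 2] * a, a * wd [2, 1, 2, 1] * a, wd [2, 2, 1, 1, 1, 2, 2, 2, 1, 1],
      a * wd [1, 2, 1, 2, 1, 1, 2, 1, 1, 2, 2], wd [1, 2, 1, 2], a * wd [2, 2, 1, 1, 2, 1, 1, 2, 1, 2, 1]] := by
  decide +kernel

theorem gen : Subgroup.closure {a, b} = (⊤ : Subgroup L3) := by
  have ha : a ∈ Subgroup.closure {a, b} := Subgroup.subset_closure (by simp)
  have hb : b ∈ Subgroup.closure {a, b} := Subgroup.subset_closure (by simp)
  have hw : ∀ l, wd l ∈ Subgroup.closure {a, b} := fun l => list_prod_mem fun x hx => by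
    obtain ⟨k, -, rfl⟩ := List.mem_map.1 hx
    exact mul_mem ha (pow_mem hb k)
  rw [eq_top_iff, ← Classical.sl_closure_transvection_of_addClosure (ι := Fin 3) ({1} : Set (ZMod 3))
    (Classical.zmod_addClosure_one 3), closure_le]
  rintro _ ⟨i, j, hij, c, rfl, rfl⟩
  have := words i j hij
  simp only [List.mem_cons, List.not_mem_nil, or_false] at this
  rcases this with e | e | e | e | e | e <;> rw [e]
  exacts [mul_mem (mul_mem ha (hw _)) ha, mul_mem (mul_mem ha (hw _)) ha, hw _, mul_mem ha (hw _), hw _,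
    mul_mem ha (hw _)]

theorem ord13 : orderOf ((3 : ℕ) : ZMod 13) = 3 := orderOf_eq_prime (by decide) (by decide)

open Classical (GF4)

abbrev L4 := SL(3, GF4)

def w : GF4 := ⟨0, 1⟩
def w' : GF4 := ⟨1, 1⟩

def z : L4 := ⟨!![w, 0, 0; 0, w, 0; 0, 0, w], by decide +kernel⟩
def x : L4 := ⟨!![1, 0, 0; 0, w, 0; 0, 0, w'], by decide +kernel⟩
def y : L4 := ⟨!![0, 0, 1; 1, 0, 0; 0, 1, 0], by decide +kernel⟩
def g0 : L4 := ⟨!![0, 0, 1; 0, 1, 0; 1, 0, 0], by decide +kernel⟩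
def g1 : L4 := ⟨!![1, 1, 1; 1, w', w; 1, w, w'], by decide +kernel⟩
def g2 : L4 := ⟨!![1, 1, w'; 1, w', 1; w, w', w'], by decide +kernel⟩
def g3 : L4 := ⟨!![1, 1, w; 1, w, 1; w', w, w], by decide +kernel⟩

theorem facts4 : x ^ 3 = 1 ∧ y ^ 3 = 1 ∧ x * y = y * x * z ∧ g0 * x = x ^ 2 * g0 * z ^ 2 ∧ g1 * x = y * g1 ∧
    g2 * x = x * y * g2 * z ^ 2 ∧ g3 * x = x * y ^ 2 * g3 ∧ x * y ≠ y * x ∧ z.1 = scalar (Fin 3) w ∧
    w ^ 3 = 1 := by
  decide +kernel

end KL3s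

open KL3s

variable {G F : Type*} [Group G] [Field F] {ρ : G →* S5 F}

variable [Finite G] [IsAlgClosed F] {E : Type} [Field E] [Fintype E]

theorem kill_L33 [CharP F 3] (h : Hy ρ) (hE : Fintype.card E = 3) (e : G ≃* PSL(3, E)) :
    False := by
  have : Fact (Nat.Prime 13) := ⟨by norm_num⟩
  obtain ⟨η, hη, -⟩ := exists_hom e (FiniteField.ringEquivOfCardEq ((ZMod.card 3).trans hE.symm))
  obtain ⟨f1, f2, f3, f4, f5, f6, f7, f8⟩ := facts3
  have h1 := scott5 (h.abs.comp hη) gen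
  have h2 := rk_two (ρ := ρ.comp η) f1 f2 f3 (isConj_of f4) (isConj_of f5)
  have h3 := rk_three (ρ := ρ.comp η) f6
  have h4 := dvd_rk (ρ := ρ.comp η) (r := 13) (by
    rw [Ne, CharP.cast_eq_zero_iff F 3]; norm_num) f7 (isConj_of f8)
  have h5 := rk_le (ρ := ρ.comp η) (a * b)
  rw [ord13] at h4
  omega

theorem kill_L34 [CharP F 2] (h : Hy ρ) (hE : Fintype.card E = 4) (e : G ≃* PSL(3, E)) :
    False := by
  obtain ⟨η, -, hη⟩ := exists_hom e (FiniteField.ringEquivOfCardEq (Classical.card_GF4.trans hE.symm))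
  obtain ⟨f1, f2, f3, f4, f5, f6, f7, f8, f9, f10⟩ := facts4
  have hz : η z = 1 := (hη z).2 (Matrix.SpecialLinearGroup.mem_center_iff.2 ⟨w, f10, f9.symm⟩)
  have hx : η x ^ 3 = 1 := by rw [← map_pow, f1, map_one]
  have hy : η y ^ 3 = 1 := by rw [← map_pow, f2, map_one]
  have inv : ∀ g : G, g ^ 3 = 1 → g⁻¹ = g ^ 2 := fun g hg =>
    inv_eq_of_mul_eq_one_right (by rw [← pow_succ', hg])
  have h1 := enine (ρ := ρ) (by
      rw [Ne, show (3 : F) = ((3 : ℕ) : F) by simp, CharP.cast_eq_zero_iff F 2]; norm_num) hx hy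
    (by simpa [hz] using congrArg η f3)
    (isConj_of (g := η g0) (by simpa [hz, inv _ hx] using congrArg η f4))
    (isConj_of (g := η g1) (by simpa using congrArg η f5))
    (isConj_of (g := η g2) (by simpa [hz] using congrArg η f6))
    (isConj_of (g := η g3) (by simpa [inv _ hy] using congrArg η f7))
  exact f8 (mem_center_iff.1 ((hη x).1 (mt_inj h.inj (h1.trans mt_one.symm))) y).symm

end CfsgLib.D5
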