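import Cfsg.Agent.Lib.D5.KW3
import Cfsg.Agent.Lib.D5.KL3s
import Cfsg.Agent.Lib.Classical.SLBasic
import Cfsg.Agent.S2392

/-!
KL3: `L₃(r)`.  See `plans/D5.md`.
-/

set_option autoImplicit false

namespace CfsgLib.D5

open Matrix Cfsg Cfsg.Geo CfsgLib.Asch Subgroup
open scoped MatrixGroups

variable {G F : Type*} [Group G] [Field F] {ρ : G →* S5 F}

/-- pull back along `X → X / Z(X) ≅ G` -/
theorem kl3_pull (h : Hy ρ) {X : Type*} [Group X] (e : G ≃* X ⧸ center X) :
    ∃ σ : X →* S5 F, σ.ker ≤ center X ∧ Abs σ :=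
  ⟨ρ.comp (e.symm.toMonoidHom.comp (QuotientGroup.mk' _)), fun g hg => (QuotientGroup.eq_one_iff g).1
    ((map_eq_one_iff _ e.symm.injective).1 ((map_eq_one_iff _ h.inj).1 hg)),
    h.abs.comp (e.symm.surjective.comp (QuotientGroup.mk'_surjective _))⟩

variable [Finite G] [IsAlgClosed F] (p : ℕ) [Fact p.Prime] [CharP F p]
  {E : Type} [Field E] [Fintype E]

include p in
theorem kill_L3 (h : Hy ρ) (h3 : 3 ≤ Fintype.card E) (e : G ≃* PSL(3, E)) : False := by
  classical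
  obtain ⟨σ, hk, ha⟩ := kl3_pull h e
  by_cases hp : ringChar F ≠ ringChar E
  · have := Cfsg.Agent.S2392.result rfl 3 le_rfl hp (gl σ) fun g hg => hk (Subtype.ext (congrArg Units.val hg))
    have := Nat.pow_le_pow_left h3 (3 - 1)
    omega
  have : CharP E p := ringChar.of_eq ((not_not.1 hp).symm.trans (ringChar.eq F p))
  have hd : p ∣ Fintype.card E := (CharP.cast_eq_zero_iff E p _).1 (FiniteField.cast_card_eq_zero E)
  obtain h4 | h4 | h4 : Fintype.card E = 3 ∨ Fintype.card E = 2 ^ 2 ∨ 5 ≤ Fintype.card E := by omega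
  · obtain rfl := (Nat.prime_dvd_prime_iff_eq Fact.out Nat.prime_three).1 (h4 ▸ hd)
    exact kill_L33 h h4 e
  · obtain rfl := (Nat.prime_dvd_prime_iff_eq Fact.out Nat.prime_two).1 (Nat.Prime.dvd_of_dvd_pow Fact.out (h4 ▸ hd))
    exact kill_L34 h h4 e
  obtain ⟨a, hg⟩ := IsCyclic.exists_ofOrder_eq_natCard (α := Eˣ)
  rw [Nat.card_eq_fintype_card, Fintype.card_units] at hg
  refine kw3 (ι := slToMat 3 E) (fun _ _ => Subtype.ext) hk (m := Fintype.card E - 1) ?_ (by omega)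
    (IsPrimitiveRoot.coe_units_iff.2 (hg ▸ IsPrimitiveRoot.orderOf a))
    (fun d h _ => ⟨⟨diagonal d, by rw [det_diagonal, h]⟩, rfl⟩) 
    ⟨⟨!![0, -1, 0; -1, 0, 0; 0, 0, -1], by simp [det_fin_three]⟩, rfl⟩
    ⟨⟨!![-1, 0, 0; 0, 0, -1; 0, -1, 0], by simp [det_fin_three]⟩, rfl⟩ (fun H hH => ?_) (fun k => ?_) ha
  · rw [Nat.cast_sub (by omega), (CharP.cast_eq_zero_iff F p _).2 hd]
    simp
  · have t : ∀ (i j : Fin 3) (hij : i ≠ j) (c : E), i = 0 ∨ j = 0 → SpecialLinearGroup.transvection hij c ∈ H :=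
      fun i j hij c k => by
        obtain ⟨k, k0, ki, kj⟩ : ∃ k : Fin 3, k ≠ 0 ∧ i ≠ k ∧ j ≠ k := by revert i j; decide
        exact hH _ k k0 fun l hl => by
          simp [slToMat, SpecialLinearGroup.transvection_coe, hl, hl.symm, ki, kj]
    refine Classical.sl_eq_top_of_transvection_mem H fun i j hij c => ?_
    by_cases hi : i = 0
    · exact t i j hij c (.inl hi)
    by_cases hj : j = 0
    · exact t i j hij c (.inr hj)
    rw [← mul_one c, ← Classical.sl_commutator_transvection hi (Ne.symm hj) hij, commutatorElement_def]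
    have h1 := t _ _ hi c (.inr rfl)
    have h2 := t _ _ (Ne.symm hj) 1 (.inl rfl)
    exact mul_mem (mul_mem (mul_mem h1 h2) (inv_mem h1)) (inv_mem h2)
  · have h7 := FiniteField.cast_card_eq_zero E
    rw [show Fintype.card E = 7 by omega] at h7
    push_cast at h7
    exact ⟨⟨!![3, 2, 0; 1, 1, 0; 0, 0, 1], by simp [det_fin_three]; norm_num⟩, 3, 2, 1, 1, rfl, by norm_num,
      by linear_combination h7⟩

end CfsgLib.D5
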