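import Cfsg.Agent.Lib.D5.Defs
import Cfsg.Agent.Lib.LS.SU

/-!
KU3X: `SU₃(r)` in cross characteristic.  See `plans/D5.md`.
-/

set_option autoImplicit false

namespace CfsgLib.D5.KX

open Module Matrix CfsgLib.Unitary Cfsg CfsgLib.LS

variable {K W G F V : Type*} [Field K] [AddCommGroup W] [Module K W] [Group G]
  [Field F] [AddCommGroup V] [Module F V] [Fintype F] {q : ℕ}

theorem exists_herm_char' (hF : Fintype.card F = q ^ 2) {ψ : F → K} (h : IsChar ψ) :
    ∃ ψ : F → K, IsChar ψ ∧ ∀ s, ψ (-s ^ q) = ψ s := by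
  obtain ⟨t₀, ht₀⟩ := exists_not_fixed hF
  obtain ⟨t₁, ht₁⟩ := h.ne
  refine ⟨fun t => ψ (t₁ / (t₀ - t₀ ^ q) * (t - t ^ q)), ⟨fun s t => ?_,
    by simp [zero_pow_q hF, h.zero], t₀, ?_⟩, fun s => ?_⟩
  · rw [← h.add, add_pow_q hF]; congr 1; ring
  · rwa [div_mul_cancel₀ _ (sub_ne_zero.2 ht₀.symm)]
  · simp only
    rw [neg_pow_q hF, pow_q_pow_q hF]; congr 1; ring

variable [FiniteDimensional K W] [IsAlgClosed K]

theorem exists_herm_form' (hK : ringChar K ≠ ringChar F)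
    (hF : Fintype.card F = q ^ 2) (ρ : G →* End K W) {u : V → V → G}
    (hadd : ∀ x x' y, u (x + x') y = u x y * u x' y)
    (hcomm : ∀ x y x' y', Commute (u x y) (u x' y'))
    (hswap : ∀ (t : F) x y, u (t • x) y = u (-t ^ q • y) x) {x₀ y₀ : V} (h₀ : ρ (u x₀ y₀) ≠ 1) :
    ∃ (ψ : F → K) (B : V → Dual F V) (x : V), IsChar ψ ∧ B ∈ formSet ρ u ψ 1 ∧
      (∀ x y, B x y = B y x ^ q) ∧ B x x ≠ 0 := by
  obtain ⟨l, hl, hl0⟩ := exists_fam_weight hK ρ hadd hcomm h₀
  obtain ⟨v, hv0, hv⟩ := mem_wts_one.1 hl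
  obtain ⟨ψ, hψ, hψq⟩ := exists_herm_char' hF (ψ := fun t : F => l (t • x₀, y₀))
    ⟨fun s t => weight_mul hv0 hv (by simp only [fam]; rw [add_smul, hadd, map_mul]),
      weight_one hv0 hv (by
        simp only [fam]
        rw [zero_smul, eq_one_of_add (u := fun x => u x y₀) fun a b => hadd a b _, map_one]),
      1, by rwa [one_smul]⟩
  obtain ⟨B, hB⟩ := exists_form ρ hadd hψ hl
  have hBl : (fun p : V × V => ψ (B p.2 p.1)) = l := funext fun p => (hB p.1 p.2).symm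
  have hs : ∀ x y, B x y = B y x ^ q := fun x y => hψ.eq_of fun t => by
    rw [← hψq (t * B y x ^ q), mul_pow, pow_q_pow_q hF, ← neg_mul, ← smul_eq_mul, ← smul_eq_mul,
      ← map_smul, ← map_smul, ← hB, ← hB]
    exact weight_congr hv0 hv (by simp only [fam]; rw [hswap])
  have h0 : B y₀ x₀ ≠ 0 := fun e => hl0 (by rw [hB, e, hψ.zero])
  obtain ⟨x, hx⟩ : ∃ x, B x x ≠ 0 := by
    by_contra hc
    push Not at hc
    obtain ⟨θ, hθ⟩ := exists_trace_eq hF (μ := 1) (one_pow q)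
    have := hc ((θ / B y₀ x₀) • x₀ + y₀)
    rw [map_add, hs _ (_ • x₀), hs _ y₀, map_add, map_add, hc, hc, zero_add, add_zero,
      ← hs, map_smul, smul_eq_mul, div_mul_cancel₀ _ h0, hθ] at this
    exact one_ne_zero this
  exact ⟨ψ, B, x, hψ, by rw [formSet, Set.mem_ofPred_eq, hBl]; exact hl, hs, hx⟩

variable [FiniteDimensional F V] in
theorem herm_bound_odd' (hK : ringChar K ≠ ringChar F)
    (hF : Fintype.card F = q ^ 2) (ρ : G →* End K W) (u : V → V → G)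
    (hadd : ∀ x x' y, u (x + x') y = u x y * u x' y)
    (hcomm : ∀ x y x' y', Commute (u x y) (u x' y'))
    (hswap : ∀ (t : F) x y, u (t • x) y = u (-t ^ q • y) x)
    (hconj : ∀ g : V ≃ₗ[F] V, ∃ γ : G, ∀ x y, γ * u x y * γ⁻¹ = u (g x) (g y))
    (w : V → G) (hw1 : ∀ x y z, Commute (w x) (u y z))
    (hw2 : ∀ x y, w y * w x = u x y * (w x * w y))
    {x₀ y₀ : V} (h₀ : ρ (u x₀ y₀) ≠ 1) : (Nat.card V - 1) * q ≤ (q + 1) * finrank K W := by
  obtain ⟨ψ, B, x, hψ, hB, hs, hx⟩ := exists_herm_form' hK hF ρ hadd hcomm hswap h₀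
  have hBq : B ∈ formSet ρ u ψ q := by
    set l := fun p : V × V => ψ (B p.2 p.1)
    have hm : ∀ γ : G, (∀ y z, Commute γ (u y z)) → ∀ v ∈ wsp (fam ρ u) l,
        ρ γ v ∈ wsp (fam ρ u) l := fun γ hγ v hv p => by
      rw [← End.mul_apply, ← map_mul, ← (hγ _ _).eq, map_mul, End.mul_apply]
      exact (congrArg (ρ γ) (hv p)).trans (map_smul _ _ _)
    obtain ⟨v, hv0, hv⟩ := mem_wts_one.1 hB
    have : Nontrivial (wsp (fam ρ u) l) := ⟨⟨⟨v, hv⟩, 0, fun e => hv0 (congrArg Subtype.val e)⟩⟩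
    have := card_le_finrank_sq (K := K) (V := wsp (fam ρ u) l) (S := F)
      (fun s => (ρ (w (s • x))).restrict (hm _ (hw1 _)))
      (fun s => (ρ (w (s • x))⁻¹).restrict (hm _ fun y z => (hw1 _ y z).inv_left))
      (fun s => by
        ext v
        change ((ρ (w (s • x)) * ρ (w (s • x))⁻¹) v.1 : W) = v
        rw [← map_mul, mul_inv_cancel, map_one]; rfl)
      (fun s t => l (s • x, t • x)) (fun s s' e => by
        refine mul_right_cancel₀ hx (hψ.eq_of fun t => ?_)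
        have := congrFun e (t ^ q)
        simp only [l, map_smul, smul_eq_mul] at this
        rw [hs _ x, map_smul, smul_eq_mul, mul_pow, pow_q_pow_q hF, ← hs] at this
        convert this using 2 <;> ring)
      (fun s t => by
        ext v
        change ((ρ (w (t • x)) * ρ (w (s • x))) v.1 : W) =
          l (s • x, t • x) • ((ρ (w (s • x)) * ρ (w (t • x))) v.1 : W)
        rw [← map_mul, hw2, map_mul, ← map_mul ρ (w _), End.mul_apply]
        exact hm _ (fun y z => (hw1 _ y z).mul_left (hw1 _ y z)) _ v.2 (s • x, t • x))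
    rw [Nat.card_eq_fintype_card, hF] at this
    exact (Nat.pow_le_pow_iff_left two_ne_zero).1 this
  have h1 := herm_count hF adj_true (fun _ _ _ => trivial)
    (formSet_finite ρ u ψ q) (closed_formSet ρ u ψ q fun g _ => hconj g) hBq hs hx
  calc _ ≤ (q + 1) * (formSet ρ u ψ q).ncard * q := Nat.mul_le_mul_right _ h1
    _ ≤ _ := by rw [mul_assoc]; exact Nat.mul_le_mul_left _ (ncard_formSet ρ u hψ q)

theorem su_bound_odd' (hK : ringChar K ≠ ringChar F)
    (hF : Fintype.card F = q ^ 2) {m n : ℕ} (hm : 1 ≤ m) (hn : n = 2 * m + 1)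
    (ρ : SU n F q →* End K W) (hker : ∀ g, ρ g = 1 → g ∈ Subgroup.center _) :
    q ^ n - q ≤ (q + 1) * finrank K W := by
  obtain ⟨P, hP⟩ := exists_hypP (Fin m) Unit hF
  obtain ⟨Φ, hΦ⟩ := exists_hom_SU hF
    (Fintype.equivOfCardEq (by simp [hn, two_mul]) : (Fin m ⊕ Fin m) ⊕ Unit ≃ Fin n) hP
    (hypJ_sq _ _)
  obtain ⟨x, y, hxy⟩ := exists_suU_not_scalar (r := Unit) hF (⟨0, by omega⟩ : Fin m)
  obtain ⟨θ, hθ⟩ := exists_trace_eq hF (μ := 1) (one_pow q)
  have := herm_bound_odd' hK hF (ρ.comp Φ) (suU Unit (conj_conj hF)) (suU_add _) (suU_comm _)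
    (suU_swap _) (fun g => by
      have hd := (LinearEquiv.isUnit_det' g).ne_zero
      have hd' : conj hF (LinearMap.det (g : (Fin m → F) →ₗ[F] (Fin m → F))) ≠ 0 := by simpa
      refine exists_suD _ g (conj hF (LinearMap.det (g : (Fin m → F) →ₗ[F] (Fin m → F))) /
        LinearMap.det (g : (Fin m → F) →ₗ[F] (Fin m → F))) ?_ ?_
      · rw [map_div₀, conj_conj]; field_simp
      · simp only [Fintype.card_unique, pow_one]; field_simp)
    (suW (conj_conj hF) hθ) (suW_comm _ hθ) (suW_rel _ hθ)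
    (x₀ := x) (y₀ := y) fun h => by
      obtain ⟨s, hs⟩ := (mem_center_SU_iff hF (by omega)).1 (hker _ h)
      exact hxy s (hΦ _ s hs)
  rwa [Nat.card_fun, Nat.card_eq_fintype_card, hF, Nat.card_eq_fintype_card, Fintype.card_fin,
    ← pow_mul, Nat.sub_one_mul, ← pow_succ, ← hn] at this

end CfsgLib.D5.KX

namespace CfsgLib.D5

open Matrix Cfsg Cfsg.Geo CfsgLib.Asch Subgroup
open scoped MatrixGroups

variable {G F : Type*} [Group G] [Field F] {ρ : G →* S5 F}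

theorem ku3x_bound [IsAlgClosed F] {E : Type} [Field E] [Fintype E] {r m n : ℕ}
    (hE : Fintype.card E = r ^ 2) (hp : ringChar F ≠ ringChar E) (hm : 1 ≤ m) (hn : n = 2 * m + 1)
    (σ : SU n E r →* S5 F) (hσ : σ.ker ≤ center _) : r ^ n - r ≤ (r + 1) * 5 := by
  simpa using KX.su_bound_odd' hp hE hm hn
    ((toLinAlgEquiv' : M5 F ≃ₐ[F] _).toRingEquiv.toRingHom.toMonoidHom.comp (mtH σ)) fun g hg =>
      hσ (Subtype.ext (toLinAlgEquiv'.injective (hg.trans (map_one _).symm)))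

theorem su3_cross [IsAlgClosed F] {E : Type} [Field E] [Fintype E] {r : ℕ}
    (hE : Fintype.card E = r ^ 2) (h3 : 3 ≤ r) (hp : ringChar F ≠ ringChar E)
    (σ : SU 3 E r →* S5 F) (hσ : σ.ker ≤ center _) : False := by
  have h1 := ku3x_bound hE hp (m := 1) (n := 3) le_rfl rfl σ hσ
  have h2 : 3 ^ 2 * r ≤ r ^ 3 := Nat.mul_le_mul_right r (Nat.pow_le_pow_left h3 2)
  omega

theorem su5_cross [IsAlgClosed F] {E : Type} [Field E] [Fintype E] {r : ℕ}
    (hE : Fintype.card E = r ^ 2) (h3 : 3 ≤ r) (hp : ringChar F ≠ ringChar E)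
    (σ : SU 5 E r →* S5 F) (hσ : σ.ker ≤ center _) : False := by
  have h1 := ku3x_bound hE hp (m := 2) (n := 5) one_le_two rfl σ hσ
  have h2 : 3 ^ 4 * r ≤ r ^ 5 := Nat.mul_le_mul_right r (Nat.pow_le_pow_left h3 4)
  omega

end CfsgLib.D5
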