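import Cfsg.Agent.Lib.D5.Defs
import Cfsg.Agent.Lib.Schur.Cover
import Cfsg.Agent.Lib.Classical.SLCard
import Cfsg.Agent.Lib.Classical.SLBasic
import Cfsg.Agent.Lib.Unitary.Center
import Cfsg.Agent.Lib.Unitary.Simple
import Cfsg.Agent.S0102
import Cfsg.Agent.S2086
import Cfsg.Agent.S2089
import Cfsg.Agent.S2092
import Cfsg.Agent.S2111
import Cfsg.Agent.S2112

/-!
LIFT: the centre.  See `plans/D5.md`.
-/

set_option autoImplicit false

namespace CfsgLib.D5

open Matrix Cfsg Cfsg.Geo CfsgLib.Asch Subgroup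
open scoped MatrixGroups

variable {G F : Type*} [Group G] [Field F] {ρ : G →* S5 F}

variable [Finite G]

theorem center_eq_bot_of_five (h : Hy ρ) (h5 : ¬ 5 ∣ Nat.card (center G)) : center G = ⊥ :=
  eq_bot_iff.2 fun g hg => by
    by_contra h1
    have : Fact (Nat.Prime 5) := ⟨by norm_num⟩
    exact h5 (orderOf_eq_prime (h.pow_five hg) h1 ▸ orderOf_dvd_natCard _ hg)

theorem center_eq_bot_of_not_dvd (h : Hy ρ) (h25 : ¬ 25 ∣ Nat.card (Bar G)) : center G = ⊥ := by
  have : Fact (Nat.Prime 5) := ⟨by norm_num⟩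
  have hs := QuotientGroup.mk'_surjective (center G)
  have : Group.IsPerfect G := ⟨h.qs.perf⟩
  have hp : Group.IsPerfect (Bar G) := Group.IsPerfect.ofSurjective hs
  refine center_eq_bot_of_five h ?_
  have := Cfsg.Agent.S0102.result hp.commutator_eq_top (p := 5) (fun P => ?_) _ hs
    (QuotientGroup.ker_mk' _).le h.qs.perf
  · rwa [QuotientGroup.ker_mk'] at this
  obtain ⟨k, hk⟩ := P.isPGroup'.exists_card_eq
  refine isCyclic_of_card_dvd_prime (p := 5) ?_
  rw [hk]
  refine (pow_dvd_pow 5 (Nat.le_of_not_lt fun h2 => h25 ?_)).trans (pow_one 5).dvd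
  exact (pow_dvd_pow 5 (show 2 ≤ k from h2)).trans (hk ▸ card_subgroup_dvd_card _)

omit [Finite G] in
theorem Iso.of_center {X : Type*} [Group X] (e : Iso G X) (hz : center G = ⊥) : Nonempty (G ≃* X) :=
  let ⟨e⟩ := e
  ⟨(((QuotientGroup.quotientMulEquivOfEq hz).trans QuotientGroup.quotientBot).symm).trans e⟩

theorem Iso.of_not_dvd (h : Hy ρ) {X : Type*} [Group X] (e : Iso G X) (h25 : ¬ 25 ∣ Nat.card X) :
    Nonempty (G ≃* X) :=
  e.of_center (center_eq_bot_of_not_dvd h (by obtain ⟨e⟩ := e; rwa [Nat.card_congr e.toEquiv]))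

omit [Finite G] in
theorem lift_stem (hG : commutator G = ⊤) {X : Type*} [Group X] (e : Bar G ≃* X) :
    IsStemExtension (e.toMonoidHom.comp (QuotientGroup.mk' (center G))) ∧
      (e.toMonoidHom.comp (QuotientGroup.mk' (center G))).ker = center G := by
  have hk : (e.toMonoidHom.comp (QuotientGroup.mk' (center G))).ker = center G := by
    rw [← MonoidHom.comap_ker, MonoidHom.ker_eq_bot _ e.injective, MonoidHom.comap_bot,
      QuotientGroup.ker_mk']
  exact ⟨⟨e.surjective.comp (QuotientGroup.mk'_surjective _), hk.le, hG ▸ le_top⟩, hk⟩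

omit [Finite G] in
theorem Iso.of_mult (h : Hy ρ) {X A : Type*} [Group X] [CommGroup A] (e : Iso G X)
    (hA : HasSchurMultiplier X A) (h5 : ¬ 5 ∣ Nat.card A) : Nonempty (G ≃* X) := by
  refine e.of_center (eq_bot_iff.2 fun g hg => ?_)
  obtain ⟨e⟩ := e
  obtain ⟨h1, h2⟩ := lift_stem h.qs.perf e
  have h3 := Schur.card_stemKer_dvd hA (Schur.centralExt_of_stem h1)
  rw [Schur.stemKer_eq_ker_of_stem h1, h2] at h3
  by_contra h0
  have : Fact (Nat.Prime 5) := ⟨by norm_num⟩
  exact h5 ((orderOf_eq_prime (h.pow_five hg) h0 ▸ orderOf_dvd_natCard _ hg).trans h3)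

omit [Finite G] in
theorem Iso.of_cyc (h : Hy ρ) {X : Type*} [Group X] (e : Iso G X) {a b : ℕ} (ha : 0 < a) (ha' : a < 5)
    (hA : HasCyclicSchurMultiplier X (Nat.gcd a b)) : Nonempty (G ≃* X) :=
  e.of_mult h hA fun h5 => by
    rw [Nat.card_congr Multiplicative.toAdd, Nat.card_zmod] at h5
    have := Nat.le_of_dvd ha (h5.trans (Nat.gcd_dvd_left a b))
    omega

omit [Finite G] in
theorem Iso.lift (h : Hy ρ) {Γ : Type*} [Group Γ] [Finite Γ] (hΓ : commutator Γ = ⊤) (e : Iso G (Bar Γ))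
    (hA : HasCyclicSchurMultiplier (Bar Γ) (Nat.card (center Γ))) :
    ∃ η : Γ →* G, Function.Surjective η ∧ η.ker ≤ center _ := by
  obtain ⟨e⟩ := e
  have : Group.IsPerfect Γ := ⟨hΓ⟩
  have h0 : IsStemExtension (QuotientGroup.mk' (center Γ)) :=
    ⟨QuotientGroup.mk'_surjective _, (QuotientGroup.ker_mk' _).le, hΓ ▸ le_top⟩
  have h1 := (lift_stem h.qs.perf e).1
  obtain ⟨η, hη⟩ := Schur.exists_lift_of_perfect_cover hA (Schur.centralExt_of_stem h0) (by
    rw [Schur.stemKer_eq_ker_of_stem h0, QuotientGroup.ker_mk', Nat.card_congr Multiplicative.toAdd,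
      Nat.card_zmod]) (Schur.centralExt_of_stem h1)
  refine ⟨η, Schur.surjective_of_lift h0.1 h1 η hη, fun x hx => (QuotientGroup.eq_one_iff x).1 ?_⟩
  rw [← QuotientGroup.mk'_apply, ← hη, MonoidHom.comp_apply, MonoidHom.mem_ker.1 hx, map_one]

variable {E : Type} [Field E] [Fintype E]

theorem lift_L2 (h : Hy ρ) (h4 : 4 ≤ Fintype.card E) (e : Iso G PSL(2, E)) :
    Nonempty (G ≃* PSL(2, E)) := by
  have hc := Classical.psl2_card_mul (F := E)
  by_cases h1 : Fintype.card E = 4 ∨ Fintype.card E = 9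
  · refine e.of_not_dvd h ?_
    rcases h1 with h1 | h1 <;> rw [h1] at hc <;> norm_num at hc <;> omega
  · exact e.of_cyc h (by norm_num) (by norm_num)
      (Cfsg.Agent.S2086.result rfl 2 le_rfl (fun _ => h4) (by simpa using h1))

theorem lift_L3 (h : Hy ρ) (e : Iso G PSL(3, E)) : Nonempty (G ≃* PSL(3, E)) := by
  have hc := Classical.psl_card_mul (ι := Fin 3) (F := E)
  rw [Classical.sl3_card, Fintype.card_fin] at hc
  by_cases h1 : Fintype.card E = 2 ∨ Fintype.card E = 4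
  · refine e.of_not_dvd h ?_
    rcases h1 with h1 | h1 <;> rw [h1] at hc <;> norm_num at hc <;> omega
  · exact e.of_cyc h (by norm_num) (by norm_num)
      (Cfsg.Agent.S2086.result rfl 3 (by norm_num) (by norm_num) (by simpa using h1))

theorem lift_U3 (h : Hy ρ) {r : ℕ} (hE : Fintype.card E = r ^ 2) (h3 : 3 ≤ r)
    (e : Iso G (PSU 3 E r)) : Nonempty (G ≃* PSU 3 E r) :=
  e.of_cyc h (by norm_num) (by norm_num)
    (Cfsg.Agent.S2089.result 3 r hE le_rfl (by omega) (by simp))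

theorem lift_S4 (h : Hy ρ) (h3 : 3 ≤ Fintype.card E) (e : Iso G (PSp 2 E)) :
    Nonempty (G ≃* PSp 2 E) :=
  e.of_cyc h (by norm_num) (by norm_num)
    (Cfsg.Agent.S2092.result rfl 2 le_rfl (fun _ => h3) (by simp))

theorem lift_Sz (h : Hy ρ) (e : Lie.IsoSuzuki (Bar G)) : Lie.IsoSuzuki G := by
  obtain ⟨E, _, _, m, hm, hE, e⟩ := e
  refine ⟨E, inferInstance, inferInstance, m, hm, hE, ?_⟩
  rcases hm.eq_or_lt with rfl | hm
  · exact Iso.of_mult h e (Cfsg.Agent.S2112.result hE) (by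
      rw [Nat.card_congr Multiplicative.toAdd, Nat.card_prod, Nat.card_zmod]; norm_num)
  · exact Iso.of_cyc h e (a := 1) (b := 1) one_pos (by norm_num) (Cfsg.Agent.S2111.result hm hE)

theorem lift_L5 (h : Hy ρ) (e : Iso G PSL(5, E)) :
    ∃ η : SL(5, E) →* G, Function.Surjective η ∧ η.ker ≤ center _ :=
  Iso.lift h (Classical.sl_commutator_eq_top (by simp)) e (by
    rw [Classical.sl_card_center, Fintype.card_fin]
    exact Cfsg.Agent.S2086.result rfl 5 (by norm_num) (by norm_num) (by simp))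

theorem lift_U5 (h : Hy ρ) {r : ℕ} (hE : Fintype.card E = r ^ 2) (e : Iso G (PSU 5 E r)) :
    ∃ η : SU 5 E r →* G, Function.Surjective η ∧ η.ker ≤ center _ :=
  Iso.lift h (Unitary.su_commutator_eq_top hE (by norm_num) (by norm_num)) e (by
    rw [Unitary.card_center_SU hE (by norm_num)]
    exact Cfsg.Agent.S2089.result 5 r hE (by norm_num) (by norm_num) (by simp))

end CfsgLib.D5
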