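import Cfsg.Agent.Lib.D5.Flag
import Cfsg.Agent.Lib.D5.Lift
import Cfsg.Agent.Lib.D5.KU3x
import Cfsg.Agent.S2392

/-!
KL5: `L₅(r)` and `U₅(r)` without transvections.  See `plans/D5.md`.
-/

set_option autoImplicit false

namespace CfsgLib.D5

open Matrix Cfsg Cfsg.Geo CfsgLib.Asch Subgroup
open scoped MatrixGroups commutatorElement

variable {G F : Type*} [Group G] [Field F] {ρ : G →* S5 F}

variable [Finite G] [IsAlgClosed F] (p : ℕ) [Fact p.Prime] [CharP F p]

omit [IsAlgClosed F] in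
theorem kl5_core {Γ E : Type*} [Group Γ] [Field E] [CharP E p] (h : Hy ρ) (hn : ∀ d, ¬ IsTv ρ d)
    (τ : Γ →* S5 E) (hτ : Function.Injective τ) (η : Γ →* G)
    (hη : ∀ g, η g = 1 → ∃ s : E, mt τ g = s • 1) {a b c d : Γ} (ha : UT (mt τ a))
    (hb : UT (mt τ b)) (hc : UT (mt τ c)) (hd : UT (mt τ d)) :
    (mt τ a 0 1 * mt τ b 1 2 - mt τ b 0 1 * mt τ a 1 2) *
          (mt τ c 2 3 * mt τ d 3 4 - mt τ d 2 3 * mt τ c 3 4) -
        (mt τ c 0 1 * mt τ d 1 2 - mt τ d 0 1 * mt τ c 1 2) *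
          (mt τ a 2 3 * mt τ b 3 4 - mt τ b 2 3 * mt τ a 3 4) = 0 := by
  have := metab p h.inj hn ((isPGroup_utSub p hτ).map η) (mem_map_of_mem η (x := a) ha)
    (mem_map_of_mem η (x := b) hb) (mem_map_of_mem η (x := c) hc) (mem_map_of_mem η (x := d) hd)
  obtain ⟨s, hs⟩ := hη ⁅⁅a, b⁆, ⁅c, d⁆⁆ (by simpa only [map_commutatorElement] using this)
  rw [comm_corner (ρ := τ) ha hb hc hd] at hs
  simpa using congrFun (congrFun hs 0) 4

theorem kl5_ut {E : Type*} [Field E] {i j : Fin 5} (h : i < j) : UT (transvection i j (1 : E)) :=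
  fun k l hl => by
    have : ¬ (i = k ∧ j = l) := fun e => by omega
    simp [transvection, one_apply, this]

include p in
theorem kill_L5 (h : Hy ρ) (hn : ∀ d, ¬ IsTv ρ d) (e : TL G 5 Odd) : False := by
  obtain ⟨E, _, _, hE, e⟩ := e
  obtain ⟨η, -, hη⟩ := lift_L5 h e
  by_cases hp : ringChar F = ringChar E
  · have : CharP E p := ringChar.of_eq (hp ▸ ringChar.eq F p)
    let t : ∀ i j : Fin 5, i < j → S5 E := fun i j hij =>
      ⟨transvection i j 1, det_transvection_of_ne i j hij.ne 1⟩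
    have := kl5_core p h hn (MonoidHom.id _) Function.injective_id η (fun g hg => by
        obtain ⟨r, -, hr⟩ := Matrix.SpecialLinearGroup.mem_center_iff.1 (hη hg)
        exact ⟨r, hr.symm.trans (by rw [scalar_apply, smul_one_eq_diagonal])⟩)
      (a := t 0 1 (by decide)) (b := t 1 2 (by decide)) (c := t 2 3 (by decide))
      (d := t 3 4 (by decide)) (kl5_ut (by decide)) (kl5_ut (by decide)) (kl5_ut (by decide))
      (kl5_ut (by decide))
    have ht : ∀ i j hij, mt (MonoidHom.id _) (t i j hij) = 1 + single i j 1 := fun _ _ _ => rfl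
    simp [ht] at this
  · have := Cfsg.Agent.S2392.result rfl 5 (by norm_num) hp ((gl ρ).comp η) fun g hg =>
      hη (mt_inj h.inj (congrArg Units.val hg |>.trans mt_one.symm))
    have h2 : 2 ^ 4 ≤ Fintype.card E ^ 4 := Nat.pow_le_pow_left Fintype.one_lt_card 4
    norm_num at this h2
    omega

/-- the antidiagonal Gram matrix -/
def kl5J (E : Type*) [Field E] : M5 E :=
  !![0, 0, 0, 0, 1; 0, 0, 0, 1, 0; 0, 0, 1, 0, 0; 0, 1, 0, 0, 0; 1, 0, 0, 0, 0]

/-- a long root element -/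
def kl5a {E : Type*} [Field E] (σ : E →+* E) : LS.SUJ σ (kl5J E) :=
  LS.SUJ.mk !![1, 1, 0, 0, 0; 0, 1, 0, 0, 0; 0, 0, 1, 0, 0; 0, 0, 0, 1, -1; 0, 0, 0, 0, 1]
    (by rw [det_of_upperTriangular (by
          intro i j; fin_cases i <;> fin_cases j <;> simp)]; simp [Fin.prod_univ_five])
    (by ext i j; fin_cases i <;> fin_cases j <;> simp [kl5J, mul_apply, Fin.sum_univ_five])

/-- a short root element -/
def kl5b {E : Type*} [Field E] {σ : E →+* E} (hσ : ∀ a, σ (σ a) = a) {θ : E} (hθ : θ + σ θ = 1)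
    (t : E) : LS.SUJ σ (kl5J E) :=
  LS.SUJ.mk !![1, 0, 0, 0, 0; 0, 1, t, -(θ * t * σ t), 0; 0, 0, 1, -σ t, 0; 0, 0, 0, 1, 0;
      0, 0, 0, 0, 1]
    (by rw [det_of_upperTriangular (by
          intro i j; fin_cases i <;> fin_cases j <;> simp)]; simp [Fin.prod_univ_five])
    (by
      ext i j
      fin_cases i <;> fin_cases j <;> simp [kl5J, mul_apply, Fin.sum_univ_five, hσ]
      linear_combination (-(t * σ t)) * hθ)

include p in
theorem kill_U5 (h : Hy ρ) (hn : ∀ d, ¬ IsTv ρ d) (e : TU G 5 Odd) : False := by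
  obtain ⟨E, _, _, r, hE, hr, e⟩ := e
  obtain ⟨η, -, hη⟩ := lift_U5 h hE e
  by_cases hp : ringChar F = ringChar E
  · have : CharP E p := ringChar.of_eq (hp ▸ ringChar.eq F p)
    obtain ⟨P, hP⟩ := LS.exists_hypP (Fin 2) Unit hE
    let ε : Fin 5 ≃ (Fin 2 ⊕ Fin 2) ⊕ Unit := Equiv.ofBijective
      ![.inl (.inl 0), .inl (.inl 1), .inr (), .inl (.inr 1), .inl (.inr 0)] (by decide)
    have hJ : (P.submatrix ε ε)ᵀ * (P.submatrix ε ε).map (Unitary.conj hE) = kl5J E := by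
      rw [transpose_submatrix, ← submatrix_map, submatrix_mul_equiv, hP]
      ext i j
      fin_cases i <;> fin_cases j <;> simp [ε, kl5J, LS.hypJ]
    obtain ⟨Φ, hΦ⟩ := LS.exists_hom_SU hE (Equiv.refl _) hJ (by
      ext i j; fin_cases i <;> fin_cases j <;> simp [kl5J, mul_apply, Fin.sum_univ_five])
    obtain ⟨θ, hθ⟩ := Unitary.exists_trace_eq hE (μ := 1) (one_pow r)
    obtain ⟨t, ht⟩ := Unitary.exists_not_fixed hE
    have ua : UT (mt (LS.SUJ _ _).subtype (kl5a (Unitary.conj hE))) := fun i j => by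
      fin_cases i <;> fin_cases j <;> simp [mt, kl5a, LS.SUJ.mk]
    have ub : ∀ t, UT (mt (LS.SUJ _ _).subtype (kl5b (Unitary.conj_conj hE) hθ t)) :=
      fun t i j => by fin_cases i <;> fin_cases j <;> simp [mt, kl5b, LS.SUJ.mk]
    have := kl5_core p h hn _ (subtype_injective _) (η.comp Φ) (fun g hg => by
        obtain ⟨s, hs⟩ := (Unitary.mem_center_SU_iff hE (by norm_num)).1 (hη hg)
        exact ⟨s, hΦ g s hs⟩) ua (ub 1) ua (ub t)
    simp [mt, kl5a, kl5b, LS.SUJ.mk, Unitary.conj_apply] at this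
    exact ht (by linear_combination -this)
  · have h2 := Unitary.two_le_q hE
    obtain ⟨k, rfl⟩ := hr
    exact su5_cross hE (by omega) hp (ρ.comp η) fun g hg => hη (h.inj (hg.trans (map_one ρ).symm))

end CfsgLib.D5
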