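import Cfsg.Agent.Lib.D5.Eig
import Cfsg.Agent.Lib.LS.SLSp
import Cfsg.Agent.Lib.MatConj.FormStar
import Cfsg.Agent.S2586
import Cfsg.Agent.S2589

/-!
KS4: `PSp₄(r)`.  See `plans/D5.md`.
-/

set_option autoImplicit false

namespace CfsgLib.D5

open Matrix Cfsg Cfsg.Geo CfsgLib.Asch Subgroup
open scoped MatrixGroups

variable {G F : Type*} [Group G] [Field F] {ρ : G →* S5 F}

/-- semisimple elements of `PSp` are real -/
theorem ks4_real {E : Type*} [Field E] [Fintype E] (p : ℕ) [Fact p.Prime] [CharP E p] {m : ℕ} (x : PSp m E)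
    (hx : (orderOf x).Coprime p) : IsConj x x⁻¹ := by
  obtain ⟨A, rfl⟩ := QuotientGroup.mk'_surjective _ x
  have h1 := pow_orderOf_eq_one (QuotientGroup.mk' (center (symplecticGroup (Fin m) E)) A)
  rw [← map_pow, QuotientGroup.mk'_apply, QuotientGroup.eq_one_iff, Symp.mem_center_iff] at h1
  have h2 : (orderOf A).Coprime p := by
    by_cases h : p = 2
    · subst h
      exact hx.coprime_dvd_left (orderOf_dvd_of_pow_eq_one (mem_bot.1
        ((Symp.center_eq_bot_of_two_eq_zero CharTwo.two_eq_zero).le (Symp.mem_center_iff.2 h1))))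
    · refine (hx.mul_left ((Nat.coprime_primes Nat.prime_two Fact.out).2 (Ne.symm h))).coprime_dvd_left
        (orderOf_dvd_of_pow_eq_one ?_)
      rw [pow_mul]
      rcases h1 with e | e <;> rw [e]
      exacts [one_pow _, Symp.sp_ext fun v => by rw [pow_two, mul_smul, Symp.spNegOne_smul, Symp.spNegOne_smul, neg_neg,
        one_smul]]
  rw [← map_inv]
  exact MonoidHom.map_isConj _ ((Agent.S2589.result A A⁻¹ h2).2 (Agent.S2586.result A))

variable [Finite G] [IsAlgClosed F] (p : ℕ) [Fact p.Prime] [CharP F p]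
  {E : Type} [Field E] [Fintype E]

theorem kill_S4 (h : Hy ρ) (h3 : 3 ≤ Fintype.card E)
    (hc : ringChar E = p ∨ Odd (Fintype.card E)) (e : G ≃* PSp 2 E) :
    Real ρ ∨ (Fintype.card E = 3 ∧ p ≠ 3) := by
  by_cases hp : ringChar E = p
  · have : CharP E p := ringChar.of_eq hp
    refine .inl (real_of_reg p fun g hg => ?_)
    simpa using e.symm.toMonoidHom.map_isConj (ks4_real p (e g) (by rwa [MulEquiv.orderOf_eq]))
  have ho := hc.resolve_left hp
  have h1 := LS.sp_bound (K := F) (W := V5 F) (F := E) (m := 2) (by rw [ringChar.eq F p]; exact Ne.symm hp)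
    (LS.two_ne_zero_of_odd ho) one_le_two ((toLinAlgEquiv' (R := F) (n := Fin 5)).toMonoidHom.comp
      ((mtH ρ).comp (e.symm.toMonoidHom.comp (QuotientGroup.mk' _)))) fun g hg =>
    (QuotientGroup.eq_one_iff g).1 ((MulEquiv.map_eq_one_iff e.symm).1 (mt_inj h.inj
      (((toLinAlgEquiv' (R := F) (n := Fin 5)).map_eq_one_iff.1 hg).trans mt_one.symm)))
  rw [Module.finrank_fin_fun, Nat.card_eq_fintype_card] at h1
  have h4 : Fintype.card E = 3 := by
    by_contra k
    have := Nat.pow_le_pow_left (show 4 ≤ Fintype.card E by omega) 2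
    omega
  refine .inr ⟨h4, fun k => hp ?_⟩
  have : CharP E 3 := charP_of_card_eq_prime h4
  rw [k, ringChar.eq E 3]

end CfsgLib.D5
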