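import Cfsg.Agent.Lib.D5.KL3
import Cfsg.Agent.Lib.D5.KU3x
import Cfsg.Agent.Lib.D4.Wit2
import Cfsg.Agent.S5777

/-!
KU3: `U₃(r)`.  See `plans/D5.md`.
-/

set_option autoImplicit false

namespace CfsgLib.D5

open Matrix Cfsg Cfsg.Geo CfsgLib.Asch Subgroup
open scoped MatrixGroups

variable {G F : Type*} [Group G] [Field F] {ρ : G →* S5 F}

open _root_.CfsgLib.Unitary in
/-- `SU₃(r)` is generated by the stabilisers of two basis vectors -/
theorem ku3_gen {E : Type} [Field E] [Fintype E] {r : ℕ} (hE : Fintype.card E = r ^ 2) (h3 : 3 ≤ r)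
    (H : Subgroup (SU 3 E r)) (hH : ∀ g : SU 3 E r, ∀ k, k ≠ 0 → (∀ i, i ≠ k → g.1.1 i k = 0 ∧ g.1.1 k i = 0) → g ∈ H) :
    H = ⊤ := by
  let j : SU 3 E r →* GL (Fin 3) E := SpecialLinearGroup.toGL.comp (SU 3 E r).subtype
  have inj : Function.Injective j := SpecialLinearGroup.toGL_injective.comp Subtype.val_injective
  have sur : ∀ g ∈ GU 3 E r ⊓ specialLinear (Fin 3) E, ∃ x, j x = g := fun g hg =>
    ⟨mkSU g.1 (congrArg Units.val hg.2) hg.1, Units.ext rfl⟩
  have mem : ∀ x, j x ∈ GU 3 E r ⊓ specialLinear (Fin 3) E := fun x => ⟨x.2, Units.ext x.1.2⟩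
  let v : Fin 3 → E := Pi.single 2 1
  have v0 : v ≠ 0 := fun e => by simpa [v] using congrFun e 2
  have key : ∀ x, j x ∈ subspaceStabilizer (Submodule.span E {v}) → ∀ i, i ≠ 2 → x.1.1 i 2 = 0 ∧ x.1.1 2 i = 0 :=
    fun x hx i hi => by
      obtain ⟨c, hc⟩ := Submodule.mem_span_singleton.1 ((hx v).1 (Submodule.mem_span_singleton_self v))
      replace hc : c • v = x.1.1 *ᵥ v := hc
      have h1 : hermForm 3 E r (x.1.1 *ᵥ Pi.single i 1) (x.1.1 *ᵥ v) = _ := x.2 _ _
      have h2 : hermForm 3 E r (x.1.1 *ᵥ v) (x.1.1 *ᵥ v) = _ := x.2 _ _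
      rw [← hc, herm_smul_right, herm_single_right hE] at h1 h2
      rw [herm_single_right hE] at h1 h2
      refine ⟨by simpa [v, hi] using (congrFun hc i).symm, ?_⟩
      have c0 : c ≠ 0 := fun e => by simp [e, v] at h2
      simpa [hi.symm, c0] using h1
  have hm := (Cfsg.Agent.S5777.result r hE h3).2.1 (Submodule.span E {v}) (by simpa using v0) (fun w hw w0 => by
    obtain ⟨c, rfl⟩ := Submodule.mem_span_singleton.1 hw
    have c0 : c ≠ 0 := fun e => w0 (by simp [e])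
    exact ⟨⟨v, Submodule.mem_span_singleton_self v, by simp [herm_smul_right, v, herm_single_left, c0]⟩,
      v, Submodule.mem_span_singleton_self v, by simp [herm_smul_left, v, herm_single_left, c0]⟩)
    (by rw [finrank_span_singleton v0]; decide)
  rcases hm.2 (H.map j) (fun g hg => by
      obtain ⟨x, rfl⟩ := sur g hg.2
      exact mem_map_of_mem j (hH x 2 (by decide) (key x hg.1))) (map_le_iff_le_comap.2 fun x _ => mem x) with e | e
  · let w : SU 3 E r := mkSU !![0, 0, -1; 0, -1, 0; -1, 0, 0] (by simp [det_fin_three]) fun u v => by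
      simp [herm_def, Fin.sum_univ_three, dotProduct, neg_pow_q hE]; ring
    have := key w (e ▸ mem_map_of_mem j (hH w 1 (by decide) (by simp [w, coe_mkSU, Fin.forall_fin_succ]))).1 0 (by decide)
    simp [w, coe_mkSU] at this
  · exact eq_top_iff.2 fun x _ => (mem_map_iff_mem inj).1 (e ▸ mem x)

variable [Finite G] [IsAlgClosed F] (p : ℕ) [Fact p.Prime] [CharP F p]
  {E : Type} [Field E] [Fintype E]

open _root_.CfsgLib.Unitary in
include p in
theorem kill_U3 (h : Hy ρ) {r : ℕ} (hE : Fintype.card E = r ^ 2) (h3 : 3 ≤ r)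
    (e : G ≃* PSU 3 E r) : False := by
  classical
  obtain ⟨σ, hk, ha⟩ := kl3_pull h e
  by_cases hp : ringChar F ≠ ringChar E
  · exact su3_cross hE h3 hp σ hk
  have : CharP E p := ringChar.of_eq ((not_not.1 hp).symm.trans (ringChar.eq F p))
  have hd : p ∣ r := (CharP.cast_eq_zero_iff E p _).1 (natCast_q hE)
  obtain ⟨a, hg⟩ := IsCyclic.exists_ofOrder_eq_natCard (α := Eˣ)
  rw [Nat.card_eq_fintype_card, Fintype.card_units, hE, sq_sub_one_eq r (by omega)] at hg
  have ho : orderOf (a ^ (r - 1)) = r + 1 := by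
    rw [orderOf_pow_of_dvd (by omega) (hg ▸ dvd_mul_left _ _), hg, Nat.mul_div_cancel _ (by omega)]
  refine kw3 (ι := (slToMat 3 E).comp (SU 3 E r).subtype) (fun _ _ e => Subtype.ext (Subtype.ext e)) hk (m := r + 1) ?_
    (by omega) (IsPrimitiveRoot.coe_units_iff.2 (ho ▸ IsPrimitiveRoot.orderOf _)) D4.Wit.exists_diag
    ⟨mkSU !![0, -1, 0; -1, 0, 0; 0, 0, -1] (by simp [det_fin_three]) fun u v => ?_, rfl⟩
    ⟨mkSU !![-1, 0, 0; 0, 0, -1; 0, -1, 0] (by simp [det_fin_three]) fun u v => ?_, rfl⟩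
    (ku3_gen hE h3) (fun k => ?_) ha
  · rw [Nat.cast_succ, (CharP.cast_eq_zero_iff F p _).2 hd]
    simp
  · simp [herm_def, Fin.sum_univ_three, dotProduct, neg_pow_q hE]; ring
  · simp [herm_def, Fin.sum_univ_three, dotProduct, neg_pow_q hE]; ring
  · have h5 := natCast_q hE
    obtain ⟨α, hα⟩ := exists_norm_eq hE (natCast_pow_q hE 4)
    obtain ⟨β, hβ⟩ := exists_norm_eq hE (natCast_pow_q hE 2)
    rw [pow_succ'] at hα hβ
    rw [show r = 5 by omega] at h5
    push_cast at h5 hα hβ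
    refine ⟨mkSU !![α, β, 0; -β ^ r, α ^ r, 0; 0, 0, 1] (by simp [det_fin_three]; linear_combination hα + hβ + h5)
      fun u v => ?_, α, β, -β ^ r, α ^ r, rfl, by linear_combination hα + hβ + h5, by linear_combination hα - 2 * hβ⟩
    simp [herm_def, Fin.sum_univ_three, dotProduct, neg_pow_q hE, add_pow_q hE, mul_pow, pow_q_pow_q hE]
    linear_combination (u 0 * v 0 ^ r + u 1 * v 1 ^ r) * (hα + hβ + h5)

end CfsgLib.D5
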