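import Cfsg.Agent.Lib.D5.Defs

/-!
REFL: traces of products of rank one matrices.  See `plans/D5.md`.
-/

set_option autoImplicit false

namespace CfsgLib.D5

open Matrix Cfsg Cfsg.Geo CfsgLib.Asch Subgroup
open scoped MatrixGroups

variable {G F : Type*} [Group G] [Field F] {ρ : G →* S5 F}

section
variable {n : Type*} [Fintype n] [DecidableEq n]

omit [DecidableEq n] in
theorem refl_aba {A : Matrix n n F} (hA : ∃ v φ, A = vecMulVec v φ) (B : Matrix n n F) :
    A * B * A = (A * B).trace • A := by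
  obtain ⟨v, φ, rfl⟩ := hA
  rw [vecMulVec_mul, vecMulVec_mul_vecMulVec, trace_vecMulVec, vecMulVec_smul, dotProduct_comm]

theorem refl_swap {A B C : Matrix n n F} (hA : ∃ v φ, A = vecMulVec v φ)
    (hC : C = (1 - A) * B * (1 - A)) (P R : Matrix n n F) :
    (P * (A * (B * R))).trace = (P * (B * R)).trace - (P * (B * (A * R))).trace -
      (P * (C * R)).trace + (A * B).trace * (P * (A * R)).trace := by
  have e : A * B = B - B * A - C + (A * B).trace • A := by
    rw [← refl_aba hA, hC]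
    noncomm_ring
  rw [← Matrix.mul_assoc A B R]
  conv_lhs => rw [e]
  simp only [add_mul, sub_mul, mul_add, mul_sub, smul_mul_assoc, mul_smul_comm, trace_add,
    trace_sub, trace_smul, smul_eq_mul, Matrix.mul_assoc]

omit [DecidableEq n] in
theorem refl_zero {A C : Matrix n n F} (hA : ∃ v φ, A = vecMulVec v φ)
    (hC : ∃ v φ, C = vecMulVec v φ) (h : (A * C).trace = 0) : A * C = 0 ∨ C * A = 0 := by
  obtain ⟨v, φ, rfl⟩ := hA
  obtain ⟨u, χ, rfl⟩ := hC
  rw [vecMulVec_mul_vecMulVec, trace_vecMulVec, dotProduct_smul, smul_eq_mul, mul_eq_zero] at h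
  rcases h with h | h
  · left; rw [vecMulVec_mul_vecMulVec, h, zero_smul, vecMulVec_zero]
  · right; rw [vecMulVec_mul_vecMulVec, dotProduct_comm, h, zero_smul, vecMulVec_zero]

omit [DecidableEq n] in
theorem refl_cut {A C : Matrix n n F} (hA : ∃ v φ, A = vecMulVec v φ)
    (hC : ∃ v φ, C = vecMulVec v φ) (B R : Matrix n n F) :
    (A * C).trace * (A * (B * (C * R))).trace = (A * B * C).trace * (A * (C * R)).trace := by
  obtain ⟨v, φ, rfl⟩ := hA
  obtain ⟨u, χ, rfl⟩ := hC
  simp only [← Matrix.mul_assoc, vecMulVec_mul, vecMul_vecMulVec, trace_vecMulVec,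
    dotProduct_smul, smul_eq_mul]
  ring

end

theorem refl_tr {ι n : Type*} [Fintype n] [DecidableEq n] (M N : ι → Matrix n n F)
    (hM : ∀ a, ∃ v φ, M a = vecMulVec v φ) (hN : ∀ a, ∃ v φ, N a = vecMulVec v φ)
    (hc : ∀ a b, ∃ c, M c = (1 - M a) * M b * (1 - M a) ∧ N c = (1 - N a) * N b * (1 - N a))
    (h1 : ∀ a, (M a).trace = (N a).trace) (h2 : ∀ a b, (M a * M b).trace = (N a * N b).trace)
    (h3 : ∀ a b c, (M a * M b * M c).trace = (N a * N b * N c).trace)
    (h0 : ∀ a b, M a * M b = 0 ↔ N a * N b = 0) (l : List ι) :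
    (l.map M).prod.trace = (l.map N).prod.trace := by
  induction hn : l.length using Nat.strong_induction_on generalizing l with
  | _ m ih =>
  subst hn
  have sw : ∀ (p r : List ι) (a b : ι), (p ++ a :: b :: r).length = l.length →
      ((p ++ b :: a :: r).map M).prod.trace = ((p ++ b :: a :: r).map N).prod.trace →
      ((p ++ a :: b :: r).map M).prod.trace = ((p ++ a :: b :: r).map N).prod.trace := by
    intro p r a b hl e
    obtain ⟨c, hc1, hc2⟩ := hc a b
    have i1 : ∀ x, ((p ++ x :: r).map M).prod.trace = ((p ++ x :: r).map N).prod.trace :=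
      fun x => ih _ (by rw [← hl]; simp) _ rfl
    simp only [List.map_append, List.map_cons, List.prod_append, List.prod_cons] at e i1 ⊢
    rw [refl_swap (hM a) hc1, refl_swap (hN a) hc2, e, i1, i1, i1, h2]
  match l, ih, sw with
  | [], _, _ => rfl
  | [a], _, _ => simpa using h1 a
  | [a, b], _, _ => simpa using h2 a b
  | a :: b :: c :: r, ih, sw =>
    by_cases hx : (M a * M c).trace = 0
    · refine sw [a] r b c rfl ?_
      rcases refl_zero (hM a) (hM c) hx with e | e
      · simp only [List.map_append, List.map_cons, List.prod_append, List.prod_cons, List.map_nil,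
          List.prod_nil, mul_one, ← Matrix.mul_assoc, e, (h0 a c).1 e, zero_mul]
      · refine sw [] (b :: r) a c rfl ?_
        simp only [List.nil_append, List.map_cons, List.prod_cons, ← Matrix.mul_assoc, e,
          (h0 c a).1 e, zero_mul]
    · refine mul_left_cancel₀ hx ?_
      have i1 := ih _ (by simp) (a :: c :: r) rfl
      simp only [List.map_cons, List.prod_cons] at i1 ⊢
      rw [refl_cut (hM a) (hM c), h2, refl_cut (hN a) (hN c), i1, h3]

theorem refl_tr' {ι n : Type*} [Fintype n] [DecidableEq n] (M N : ι → Matrix n n F)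
    (h : ∀ l : List ι, (l.map M).prod.trace = (l.map N).prod.trace) (l : List ι) :
    (l.map fun a => 1 - M a).prod.trace = (l.map fun a => 1 - N a).prod.trace := by
  have key : ∀ l₂ l₁ : List ι, ((l₁.map M).prod * (l₂.map fun a => 1 - M a).prod).trace =
      ((l₁.map N).prod * (l₂.map fun a => 1 - N a).prod).trace := by
    intro l₂
    induction l₂ with
    | nil => intro l₁; simpa using h l₁
    | cons a l₂ ih =>
      intro l₁
      have i1 := ih (l₁ ++ [a])
      simp only [List.map_append, List.prod_append, List.map_cons, List.map_nil, List.prod_cons,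
        List.prod_nil, mul_one, Matrix.mul_assoc] at i1
      simp only [List.map_cons, List.prod_cons, sub_mul, mul_sub, one_mul, trace_sub, ih l₁, i1]
  simpa using key l []

variable [Finite G] {ε : F} {D : Set G}

theorem refl_map_one {A : M5 F} (σ : F →+* F) (hA : ∃ v φ, A = vecMulVec v φ) :
    ∃ v φ, A.map σ = vecMulVec v φ := by
  obtain ⟨v, φ, rfl⟩ := hA
  exact ⟨σ ∘ v, σ ∘ φ, by ext i j; simp [vecMulVec_apply]⟩

theorem refl_map_sub (σ : F →+* F) (A : M5 F) : (1 - A).map σ = 1 - A.map σ := by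
  ext i j
  simp [Matrix.one_apply, apply_ite σ]

theorem refl_map_zero (σ : F →+* F) (A : M5 F) : A = 0 ↔ A.map σ = 0 :=
  ⟨fun h => by rw [h]; ext; simp, fun h => Matrix.map_injective σ.injective (by
    rw [show (fun M : M5 F => M.map σ) A = A.map σ from rfl, h]; ext; simp)⟩

theorem refl_map_prod {ι : Type*} (σ : F →+* F) (M : ι → M5 F) (l : List ι) :
    σ (l.map fun a => 1 - M a).prod.trace = (l.map fun a => 1 - (M a).map σ).prod.trace := by
  rw [AddMonoidHom.map_trace σ]
  congr 1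
  induction l with
  | nil => ext i j; simp [Matrix.one_apply, apply_ite σ]
  | cons a l ih => rw [List.map_cons, List.prod_cons, Matrix.map_mul, ih, refl_map_sub]; rfl

theorem RSet.exists_list (h : RSet ρ ε D) (g : G) : ∃ l : List D, (l.map (↑)).prod = g := by
  have hg : g ∈ (closure D).toSubmonoid := h.gen ▸ mem_top g
  rw [closure_toSubmonoid_of_finite] at hg
  induction hg using Submonoid.closure_induction with
  | mem x hx => exact ⟨[⟨x, hx⟩], by simp⟩
  | one => exact ⟨[], rfl⟩
  | mul x y _ _ hx hy =>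
    obtain ⟨l₁, rfl⟩ := hx
    obtain ⟨l₂, rfl⟩ := hy
    exact ⟨l₁ ++ l₂, by simp⟩

omit [Finite G] in
theorem RSet.mt_eq (h : RSet ρ ε D) (a : G) : mt ρ a = ε • (1 - rm ρ ε a) := by
  rw [rm, sub_sub_cancel, smul_smul, h.eps, one_smul]

omit [Finite G] in
theorem RSet.mt_prod (h : RSet ρ ε D) (l : List D) :
    mt ρ (l.map (↑)).prod = ε ^ l.length • (l.map fun a : D => 1 - rm ρ ε a).prod := by
  induction l with
  | nil => simp [mt_one]
  | cons a l ih =>
    rw [List.map_cons, List.prod_cons, mt_mul, ih, h.mt_eq, List.map_cons, List.prod_cons,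
      smul_mul_smul_comm, List.length_cons, pow_succ']

omit [Finite G] in
theorem RSet.rm_cj (h : RSet ρ ε D) {a : G} (ha : a ∈ D) (b : G) :
    rm ρ ε (a * b * a) = (1 - rm ρ ε a) * rm ρ ε b * (1 - rm ρ ε a) := by
  have e : mt ρ a * mt ρ a = 1 := by rw [← mt_mul, h.inv a ha, mt_one]
  simp only [rm, sub_sub_cancel, mt_mul, mul_sub, sub_mul, mul_one, smul_mul_assoc, mul_smul_comm,
    smul_smul, h.eps, e, one_smul, smul_sub]

omit [Finite G] in
theorem RSet.eps_fix (h : RSet ρ ε D) (σ : F →+* F) : σ ε = ε := by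
  rcases mul_self_eq_one_iff.1 h.eps with e | e <;> simp [e]

omit [Finite G] in
theorem RSet.tr_fix (h : RSet ρ ε D) (σ : F →+* F) {a : G} (ha : a ∈ D) :
    σ (rm ρ ε a).trace = (rm ρ ε a).trace := by
  have e : mt ρ a * mt ρ a = 1 := by rw [← mt_mul, h.inv a ha, mt_one]
  have e2 : rm ρ ε a * rm ρ ε a = (2 : F) • rm ρ ε a := by
    simp only [rm, mul_sub, sub_mul, mul_one, one_mul, smul_mul_assoc, mul_smul_comm, smul_smul,
      h.eps, e, one_smul, smul_sub]
    module
  obtain ⟨v, φ, hv⟩ := h.one a ha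
  have e3 := congrArg trace e2
  rw [hv, vecMulVec_mul_vecMulVec, vecMulVec_smul, trace_smul, trace_smul, trace_vecMulVec,
    dotProduct_comm φ, smul_eq_mul, smul_eq_mul] at e3
  rw [hv, trace_vecMulVec]
  rcases mul_eq_mul_right_iff.1 e3 with e4 | e4
  · rw [e4, map_ofNat]
  · rw [e4, map_zero]

theorem RSet.tr_map (h : RSet ρ ε D) (σ : F →+* F)
    (h2 : ∀ a ∈ D, ∀ b ∈ D, σ (X2 ρ ε a b) = X2 ρ ε a b)
    (h3 : ∀ a ∈ D, ∀ b ∈ D, ∀ c ∈ D, σ (Y3 ρ ε a b c) = Y3 ρ ε a b c) (g : G) :
    σ (tr ρ g) = tr ρ g := by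
  obtain ⟨l, rfl⟩ := h.exists_list g
  have key := refl_tr' (fun a : D => rm ρ ε a) (fun a : D => (rm ρ ε a).map σ) (refl_tr _ _
    (fun a => h.one a a.2) (fun a => refl_map_one σ (h.one a a.2))
    (fun a b => ⟨⟨_, h.cj a a.2 b b.2⟩, h.rm_cj a.2 b, by
      rw [h.rm_cj a.2 b, Matrix.map_mul, Matrix.map_mul, refl_map_sub]⟩)
    (fun a => by rw [← AddMonoidHom.map_trace σ]; exact (h.tr_fix σ a.2).symm)
    (fun a b => by rw [← Matrix.map_mul, ← AddMonoidHom.map_trace σ]; exact (h2 a a.2 b b.2).symm)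
    (fun a b c => by
      rw [← Matrix.map_mul, ← Matrix.map_mul, ← AddMonoidHom.map_trace σ]
      exact (h3 a a.2 b b.2 c c.2).symm)
    (fun a b => by rw [← Matrix.map_mul, refl_map_zero])) l
  rw [tr, h.mt_prod, trace_smul, smul_eq_mul, map_mul, map_pow, h.eps_fix, refl_map_prod, ← key]

theorem RSet.tr_inv (h : RSet ρ ε D) (σ : F →+* F)
    (h0 : ∀ a ∈ D, ∀ b ∈ D, rm ρ ε a * rm ρ ε b = 0 → rm ρ ε b * rm ρ ε a = 0)
    (h2 : ∀ a ∈ D, ∀ b ∈ D, σ (X2 ρ ε a b) = X2 ρ ε a b)
    (h3 : ∀ a ∈ D, ∀ b ∈ D, ∀ c ∈ D, σ (Y3 ρ ε a b c) = Y3 ρ ε c b a) (g : G) :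
    σ (tr ρ g) = tr ρ g⁻¹ := by
  obtain ⟨l, rfl⟩ := h.exists_list g
  have key := refl_tr' (fun a : D => rm ρ ε a) (fun a : D => ((rm ρ ε a).map σ)ᵀ) (refl_tr _ _
    (fun a => h.one a a.2)
    (fun a => by
      obtain ⟨v, φ, e⟩ := refl_map_one σ (h.one a a.2)
      exact ⟨φ, v, by rw [e, transpose_vecMulVec]⟩)
    (fun a b => ⟨⟨_, h.cj a a.2 b b.2⟩, h.rm_cj a.2 b, by
      rw [h.rm_cj a.2 b, Matrix.map_mul, Matrix.map_mul, refl_map_sub, transpose_mul,
        transpose_mul, transpose_sub, transpose_one, Matrix.mul_assoc]⟩)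
    (fun a => by rw [trace_transpose, ← AddMonoidHom.map_trace σ]; exact (h.tr_fix σ a.2).symm)
    (fun a b => by
      rw [← transpose_mul, trace_transpose, ← Matrix.map_mul, ← AddMonoidHom.map_trace σ,
        trace_mul_comm]
      exact (h2 b b.2 a a.2).symm)
    (fun a b c => by
      rw [← transpose_mul, ← transpose_mul, trace_transpose, ← Matrix.mul_assoc, ← Matrix.map_mul,
        ← Matrix.map_mul, ← AddMonoidHom.map_trace σ]
      exact (h3 c c.2 b b.2 a a.2).symm)
    (fun a b => by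
      rw [← transpose_mul, transpose_eq_zero, ← Matrix.map_mul, ← refl_map_zero]
      exact ⟨h0 a a.2 b b.2, h0 b b.2 a a.2⟩)) l.reverse
  have e : (l.map ((↑) : D → G)).prod⁻¹ = (l.reverse.map (↑)).prod := by
    rw [List.prod_inv_reverse, List.map_reverse, List.map_map]
    congr 2
    exact List.map_congr_left fun a _ => inv_eq_of_mul_eq_one_right (h.inv a a.2)
  rw [e, tr, tr, h.mt_prod, h.mt_prod, trace_smul, trace_smul, smul_eq_mul, smul_eq_mul, map_mul,
    map_pow, h.eps_fix, refl_map_prod, key, List.length_reverse, ← trace_transpose,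
    transpose_list_prod, List.map_map, List.map_reverse]
  congr 4
  exact List.map_congr_left fun a _ => by simp

end CfsgLib.D5
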