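import Cfsg.Agent.Lib.D5.KU4a
import Cfsg.Agent.Lib.D5.Refl
import Cfsg.Agent.S0822

/-!
KU4: `U₄(2)`.  See `plans/D5.md`.
-/

set_option autoImplicit false

namespace CfsgLib.D5

open Matrix Cfsg Cfsg.Geo CfsgLib.Asch Subgroup
open scoped MatrixGroups

variable {G F : Type*} [Group G] [Field F] {ρ : G →* S5 F}

theorem ku4_mt (a : G) : mt ρ a = rm ρ (-1) a - 1 := by simp [rm]

theorem IsNg.ku4_mul {a : G} (h : IsNg ρ a) (B : M5 F) :
    rm ρ (-1) a * B * rm ρ (-1) a = (rm ρ (-1) a * B).trace • rm ρ (-1) a := by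
  obtain ⟨v, φ, h⟩ := h
  rw [show rm ρ (-1) a = vecMulVec v φ by rw [rm, h.eq]; simp, vecMulVec_mul, trace_vecMulVec,
    vecMulVec_mul_vecMulVec, vecMulVec_smul, dotProduct_comm]

theorem IsNg.ku4_tr {a : G} (h : IsNg ρ a) : (rm ρ (-1) a).trace = 2 := by
  obtain ⟨v, φ, h⟩ := h
  rw [show rm ρ (-1) a = vecMulVec v φ by rw [rm, h.eq]; simp, trace_vecMulVec, dotProduct_comm,
    h.dot]

theorem IsNg.ku4_sq {a : G} (h : IsNg ρ a) :
    rm ρ (-1) a * rm ρ (-1) a = (2 : F) • rm ρ (-1) a := by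
  have := h.ku4_mul 1
  rwa [mul_one, h.ku4_tr] at this

theorem IsNg.ku4_conj {a : G} (h : IsNg ρ a) (b : G) : rm ρ (-1) (a * b * a) =
    X2 ρ (-1) a b • rm ρ (-1) a - rm ρ (-1) a * rm ρ (-1) b - rm ρ (-1) b * rm ρ (-1) a +
      rm ρ (-1) b := by
  rw [rm, mt_mul, mt_mul, ku4_mt a, ku4_mt b, X2, ← h.ku4_mul]
  have := h.ku4_sq
  rw [two_smul] at this
  simp only [mul_sub, sub_mul, mul_one, one_mul, this, neg_smul, one_smul]
  abel

theorem ku4_yy {a b c : G} (ha : IsNg ρ a) (hb : IsNg ρ b) (hc : IsNg ρ c) :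
    Y3 ρ (-1) a b c * Y3 ρ (-1) c b a = X2 ρ (-1) a b * X2 ρ (-1) b c * X2 ρ (-1) a c := by
  obtain ⟨v, φ, ha⟩ := ha
  obtain ⟨w, ψ, hb⟩ := hb
  obtain ⟨u, θ, hc⟩ := hc
  have e : ∀ {a v φ}, Ng ρ a v φ → rm ρ (-1) a = vecMulVec v φ := fun h => by rw [rm, h.eq]; simp
  simp only [Y3, X2, e ha, e hb, e hc, vecMulVec_mul_vecMulVec, trace_vecMulVec,
    smul_dotProduct, smul_eq_mul, dotProduct_comm v, dotProduct_comm w, dotProduct_comm u]
  ring

theorem ku4_pair (h2 : (2 : F) ≠ 0) (hi : Function.Injective ρ) {a b : G} (ha : IsNg ρ a)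
    (hb : IsNg ρ b) (aa : a * a = 1) (bb : b * b = 1) (h : a * b = b * a ∨ (a * b) ^ 3 = 1) :
    a = b ∨ (rm ρ (-1) a * rm ρ (-1) b = 0 ∧ rm ρ (-1) b * rm ρ (-1) a = 0) ∨
      X2 ρ (-1) a b = 1 := by
  have key : ∀ x : F, x • rm ρ (-1) a = x • rm ρ (-1) b → a = b ∨ x = 0 := fun x e => by
    refine or_iff_not_imp_right.2 fun x0 => mt_inj hi ?_
    rw [ku4_mt a, ku4_mt b, smul_right_injective _ x0 e]
  have sy : X2 ρ (-1) b a = X2 ρ (-1) a b := trace_mul_comm _ _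
  rcases h with h | h
  · have h1 : rm ρ (-1) a * rm ρ (-1) b = rm ρ (-1) b * rm ρ (-1) a := by
      have := congrArg (mt ρ) h
      rw [mt_mul, mt_mul, ku4_mt a, ku4_mt b] at this
      simp only [mul_sub, sub_mul, mul_one, one_mul] at this
      linear_combination (norm := abel) this
    have h3 : X2 ρ (-1) a b • rm ρ (-1) a = (2 : F) • (rm ρ (-1) a * rm ρ (-1) b) := by
      rw [X2, ← ha.ku4_mul, mul_assoc, ← h1, ← mul_assoc, ha.ku4_sq, smul_mul_assoc]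
    have h4 : X2 ρ (-1) a b • rm ρ (-1) b = (2 : F) • (rm ρ (-1) a * rm ρ (-1) b) := by
      rw [← sy, X2, ← hb.ku4_mul, ← h1, mul_assoc, hb.ku4_sq, mul_smul_comm]
    refine (key _ (h3.trans h4.symm)).imp_right fun e => .inl ?_
    rw [e, zero_smul, eq_comm, smul_eq_zero_iff_right h2] at h3
    exact ⟨h3, h1 ▸ h3⟩
  · have h1 : a * b * a = b * a * b := by
      rw [← inv_eq_of_mul_eq_one_right (show b * a * b * (b * a * b) = 1 by
        calc _ = b * (a * (b * b) * a) * b := by group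
          _ = 1 := by rw [bb, mul_one, aa, mul_one, bb])]
      exact eq_inv_of_mul_eq_one_left (by rw [← h]; simp only [pow_succ]; group)
    have h3 := ha.ku4_conj b
    rw [h1, hb.ku4_conj a, sy] at h3
    refine (key (X2 ρ (-1) a b - 1) ?_).imp_right fun e => .inr (sub_eq_zero.1 e)
    rw [sub_smul, sub_smul, one_smul, one_smul]
    linear_combination (norm := abel) -h3

variable [Finite G] [IsAlgClosed F] (p : ℕ) [Fact p.Prime] [CharP F p]
  {E : Type} [Field E] [Fintype E]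

theorem kill_U42 (h : Hy ρ) (h2 : p ≠ 2) (h3 : p ≠ 3) (hE : Fintype.card E = 3)
    (e : G ≃* PSp 2 E) : O42 ρ p := by
  obtain ⟨f⟩ := Agent.S0822.result Classical.card_GF4 hE
  have hp := (Fact.out : p.Prime)
  have two : (2 : F) ≠ 0 := fun k => h2 ((Nat.prime_dvd_prime_iff_eq hp Nat.prime_two).1
    ((CharP.cast_eq_zero_iff F p 2).1 (by exact_mod_cast k)))
  obtain ⟨D, r, ng, h23⟩ := u42_rset two h Classical.card_GF4 (e.trans f.symm)
  have pr := fun a ha b hb => ku4_pair two h.inj (ng a ha) (ng b hb) (r.inv a ha) (r.inv b hb)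
    (h23 a ha b hb)
  have xx : ∀ a ∈ D, ∀ b ∈ D, X2 ρ (-1) a b = 4 ∨ X2 ρ (-1) a b = 0 ∨ X2 ρ (-1) a b = 1 :=
    fun a ha b hb => by
    refine (pr a ha b hb).imp ?_ (Or.imp_left fun k => by rw [X2, k.1, trace_zero])
    rintro rfl
    rw [X2, (ng a ha).ku4_sq, trace_smul, (ng a ha).ku4_tr]
    norm_num
  have xz : ∀ a ∈ D, ∀ b ∈ D, ∃ n : ℕ, X2 ρ (-1) a b = n := fun a ha b hb => by
    rcases xx a ha b hb with k | k | k
    exacts [⟨4, by simp [k]⟩, ⟨0, by simp [k]⟩, ⟨1, by simp [k]⟩]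
  have cyc : ∀ a b c, Y3 ρ (-1) a b c = Y3 ρ (-1) b c a := fun a b c => by
    rw [Y3, Y3, mul_assoc, trace_mul_comm]
  have deg : ∀ a ∈ D, ∀ b ∈ D, ∀ c ∈ D, X2 ρ (-1) a b ≠ 1 →
      ∃ n : ℤ, Y3 ρ (-1) a b c = n ∧ Y3 ρ (-1) c b a = n := fun a ha b hb c hc k => by
    rcases (pr a ha b hb).imp_right (Or.resolve_right · k) with rfl | k
    · obtain ⟨n, hn⟩ := xz a ha c hc
      have : Y3 ρ (-1) a a c = (2 * n : ℤ) := by
        rw [Y3, (ng a ha).ku4_sq, smul_mul_assoc, trace_smul, ← X2, hn]; simp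
      exact ⟨_, this, (cyc _ _ _).trans this⟩
    · exact ⟨0, by simp [Y3, k.1], by simp [Y3, mul_assoc, k.2]⟩
  have yy : ∀ a ∈ D, ∀ b ∈ D, ∀ c ∈ D, (∃ n : ℤ, Y3 ρ (-1) a b c = n ∧ Y3 ρ (-1) c b a = n) ∨
      Y3 ρ (-1) a b c * Y3 ρ (-1) c b a = 1 ∧ Y3 ρ (-1) a b c ^ 6 = 1 := fun a ha b hb c hc => by
    by_cases k1 : X2 ρ (-1) a b = 1
    swap
    · exact .inl (deg a ha b hb c hc k1)
    by_cases k2 : X2 ρ (-1) b c = 1
    swap
    · exact .inl (cyc a b c ▸ cyc a c b ▸ deg b hb c hc a ha k2)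
    by_cases k3 : X2 ρ (-1) a c = 1
    swap
    · obtain ⟨n, e1, e2⟩ := deg a ha c hc b hb k3
      exact .inl ⟨n, (cyc a b c).trans e2, (cyc a c b).symm.trans e1⟩
    have e1 := ku4_yy (ng a ha) (ng b hb) (ng c hc)
    rw [k1, k2, k3, mul_one, mul_one] at e1
    have e2 : X2 ρ (-1) (a * b * a) c = 2 - Y3 ρ (-1) a b c - Y3 ρ (-1) c b a := by
      rw [cyc c b a, X2, (ng a ha).ku4_conj, add_mul, sub_mul, sub_mul, smul_mul_assoc, trace_add,
        trace_sub, trace_sub, trace_smul, ← X2, ← X2, ← Y3, ← Y3, k1, k2, k3, smul_eq_mul]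
      ring
    refine .inr ⟨e1, ?_⟩
    generalize Y3 ρ (-1) a b c = y at *
    generalize Y3 ρ (-1) c b a = y' at *
    rcases xx _ (r.cj a ha b hb) c hc with k | k | k <;> rw [e2] at k
    · have : y + 1 = 0 := pow_eq_zero_iff two_ne_zero |>.1 (by linear_combination -y * k - e1)
      rw [eq_neg_of_add_eq_zero_left this]; norm_num
    · have : y - 1 = 0 := pow_eq_zero_iff two_ne_zero |>.1 (by linear_combination -y * k - e1)
      rw [sub_eq_zero.1 this, one_pow]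
    · have : y ^ 2 - y + 1 = 0 := by linear_combination -y * k - e1
      linear_combination (y ^ 4 + y ^ 3 - y - 1) * this
  have hx : ∀ a ∈ D, ∀ b ∈ D, frobenius F p (X2 ρ (-1) a b) = X2 ρ (-1) a b := fun a ha b hb => by
    obtain ⟨n, hn⟩ := xz a ha b hb
    rw [hn, map_natCast]
  have k2 : ¬ 2 ∣ p := fun k => h2 ((Nat.prime_dvd_prime_iff_eq Nat.prime_two hp).1 k).symm
  have k3 : ¬ 3 ∣ p := fun k => h3 ((Nat.prime_dvd_prime_iff_eq Nat.prime_three hp).1 k).symm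
  refine ⟨⟨_, _, _, Classical.card_GF4, ⟨e.trans f.symm⟩⟩,
    (by omega : p % 6 = 1 ∨ p % 6 = 5).imp (fun k => ⟨k, fun g => ?_⟩) fun k => ⟨k, fun g => ?_⟩⟩
  · refine r.tr_map (frobenius F p) hx (fun a ha b hb c hc => ?_) g
    rcases yy a ha b hb c hc with ⟨n, e1, -⟩ | ⟨-, e1⟩
    · rw [e1, map_intCast]
    · rw [frobenius_def, pow_eq_pow_mod p e1, k, pow_one]
  · refine (r.tr_inv (frobenius F p) (fun a ha b hb k => ?_) hx (fun a ha b hb c hc => ?_) g).symm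
    · rcases pr a ha b hb with rfl | q | q
      · exact k
      · exact q.2
      · rw [X2, k, trace_zero] at q
        exact absurd q zero_ne_one
    · rcases yy a ha b hb c hc with ⟨n, e1, e2⟩ | ⟨e0, e1⟩
      · rw [e1, e2, map_intCast]
      · rw [frobenius_def, pow_eq_pow_mod p e1, k]
        linear_combination -Y3 ρ (-1) a b c ^ 5 * e0 + Y3 ρ (-1) c b a * e1

end CfsgLib.D5
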