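import Cfsg.Agent.Lib.D5.Defs
import Cfsg.Agent.Lib.LS.Weight
import Cfsg.Agent.Lib.Inv2.Diag
import Cfsg.Agent.Lib.Unitary.SU32
import Cfsg.Agent.S1631

/-!
KU4A: the transvections of `U₄(2)` act as negative reflections.  See `plans/D5.md`.
-/

set_option autoImplicit false

namespace CfsgLib.D5

open Matrix Cfsg Cfsg.Geo CfsgLib.Asch Subgroup
open scoped MatrixGroups

variable {G F : Type*} [Group G] [Field F] {ρ : G →* S5 F}

/-- the diagonal matrix of a sign vector -/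
def ku_dg (F : Type*) [Field F] (c : Fin 5 → ℤˣ) : M5 F := diagonal fun k => ((c k : ℤ) : F)

/-- the trace of a sign vector -/
def ku_S (c : Fin 5 → ℤˣ) : ℤ := ∑ k, (c k : ℤ)

theorem ku_dg_mul (c d : Fin 5 → ℤˣ) : ku_dg F c * ku_dg F d = ku_dg F (c * d) := by
  simp [ku_dg, diagonal_mul_diagonal]

/-- commuting involutions are simultaneously diagonal -/
theorem ku_diag (h2 : (2 : F) ≠ 0) {A : Type*} [Finite A] (t : A → G) (hs : ∀ a, t a * t a = 1)
    (hc : ∀ a b, t a * t b = t b * t a) :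
    ∃ (B : GL (Fin 5) F) (c : A → Fin 5 → ℤˣ), ∀ a, mt (cb ρ B) (t a) = ku_dg F (c a) := by
  obtain ⟨b, c, h⟩ := Inv2.exists_eigenbasis_gl h2 (ρ := fun a => (mt ρ (t a)).mulVecLin)
    (fun a b x => by simp only [mulVecLin_apply, mulVec_mulVec, ← mt_mul, hc a b])
    (fun a x => by simp only [mulVecLin_apply, mulVec_mulVec, ← mt_mul, hs, mt_one, one_mulVec])
    (n := 5) (by simp)
  let _ := (Pi.basisFun F (Fin 5)).invertibleToMatrix b
  refine ⟨unitOfInvertible ((Pi.basisFun F (Fin 5)).toMatrix b), c, fun a => ?_⟩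
  rw [mt_cb, Matrix.mul_assoc, Units.inv_mul_eq_iff_eq_mul]
  ext i j
  have := congrFun (h a j) i
  simp only [mulVecLin_apply, Pi.smul_apply, Units.smul_def, zsmul_eq_mul] at this
  rw [ku_dg, mul_diagonal, mul_comm]
  exact this

theorem ku_cases : ∀ c : Fin 5 → ℤˣ, ∏ k, c k = 1 →
    c = 1 ∨ ku_S c = 1 ∨ ∃ i, ∀ k, c k = if k = i then 1 else -1 := by decide +kernel

theorem ku_vals : ∀ c : Fin 5 → ℤˣ, ∏ k, c k = 1 → ku_S c = 5 ∨ ku_S c = 1 ∨ ku_S c = -3 := by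
  decide +kernel

theorem ku_comb : ∀ a : Fin 5 → ℤˣ, ku_S a = 1 → ∀ b, ku_S b = 1 → a * b ≠ 1 → ∀ c, ku_S c = 1 →
    ku_S (a * b) = ku_S (a * c) → ku_S (a * b) = ku_S (b * c) → ∀ d, ku_S d = 1 →
    ku_S (a * b) = ku_S (a * d) → ku_S (a * b) = ku_S (b * d) → ku_S (a * b) = ku_S (c * d) →
    ku_S (a * b * (c * d)) ≠ 1 := by decide +kernel

theorem ku_prod (h2 : (2 : F) ≠ 0) {g : G} {c : Fin 5 → ℤˣ} (h : mt ρ g = ku_dg F c) :
    ∏ k, c k = 1 := Inv2.units_cast_injective h2 (by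
  have := det_mt (ρ := ρ) g
  rw [h, ku_dg, det_diagonal] at this
  simpa using this)

theorem ku_conj (h2 : (2 : F) ≠ 0) {g k : G} {c d : Fin 5 → ℤˣ} (h : mt ρ g = ku_dg F c)
    (h' : mt ρ k = ku_dg F d) (e : IsConj g k) : ku_S c = ku_S d := by
  have h1 : ((ku_S c - ku_S d : ℤ) : F) = 0 := by
    have := tr_isConj (ρ := ρ) e
    rw [tr, tr, h, h'] at this
    simpa [ku_S, ku_dg, sub_eq_zero] using this
  have h4 : (4 : F) ≠ 0 := by
    rw [show (4 : F) = 2 * 2 by norm_num]; exact mul_ne_zero h2 h2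
  have h8 : (8 : F) ≠ 0 := by
    rw [show (8 : F) = 2 * 4 by norm_num]; exact mul_ne_zero h2 h4
  rcases ku_vals c (ku_prod h2 h) with a | a | a <;> rcases ku_vals d (ku_prod h2 h') with b | b | b <;>
    rw [a, b] at h1 ⊢ <;> norm_num [h4, h8] at h1

theorem ku_ng (h2 : (2 : F) ≠ 0) (hi : Function.Injective ρ) (t : Fin 4 → G)
    (hs : ∀ i, t i * t i = 1) (hc : ∀ i j, t i * t j = t j * t i) (h0 : t 0 ≠ 1)
    (h01 : t 0 * t 1 ≠ 1) (h1 : ∀ i, IsConj (t 0) (t i))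
    (h4 : IsConj (t 0) (t 0 * t 1 * (t 2 * t 3)))
    (h5 : ∀ i j, i < j → IsConj (t 0 * t 1) (t i * t j)) : IsNg ρ (t 0) := by
  obtain ⟨B, c, h⟩ := ku_diag (ρ := ρ) h2 t hs hc
  have one : ∀ {g}, mt (cb ρ B) g = ku_dg F 1 → g = 1 := fun e =>
    mt_inj (cb_injective hi B) (by rw [e, mt_one]; simp [ku_dg])
  have hm : ∀ i j, mt (cb ρ B) (t i * t j) = ku_dg F (c i * c j) := fun i j => by
    rw [mt_mul, h, h, ku_dg_mul]
  rcases ku_cases _ (ku_prod h2 (h 0)) with e | e | ⟨i, e⟩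
  · exact absurd (one (e ▸ h 0)) h0
  · have k := fun i => (ku_conj h2 (h 0) (h i) (h1 i)).symm.trans e
    have l := fun i j hij => ku_conj h2 (hm 0 1) (hm i j) (h5 i j hij)
    exact absurd ((ku_conj h2 (h 0) (by rw [mt_mul, hm, hm, ku_dg_mul]) h4).symm.trans e)
      (ku_comb _ e _ (k 1) (fun q => h01 (one (q ▸ hm 0 1))) _ (k 2) (l 0 2 (by decide))
        (l 1 2 (by decide)) _ (k 3) (l 0 3 (by decide)) (l 1 3 (by decide)) (l 2 3 (by decide)))
  · refine (isNg_cb B).1 ⟨Pi.single i 1, Pi.single i 2, ?_, by simp⟩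
    rw [h]
    ext a b
    by_cases ab : a = b
    · subst ab
      by_cases ai : a = i
      · simp [ku_dg, e, vecMulVec_apply, ai]; norm_num
      · simp [ku_dg, e, vecMulVec_apply, ai]
    · simp only [ku_dg, diagonal_apply_ne _ ab, Matrix.sub_apply, one_apply_ne ab, vecMulVec_apply,
        Pi.single_apply]
      split_ifs with x y
      · exact absurd (x.trans y.symm) ab
      all_goals simp

namespace KU

open CfsgLib.Classical CfsgLib.Unitary CfsgLib.Unitary.SU32 CfsgLib.Transv3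

/-- transvections of `SU₄(2)` -/
noncomputable def tw (w : Fin 4 → GF4) (h : w ≠ 0 ∧ hermForm 4 GF4 2 w w = 0 := by decide +kernel) :
    SU 4 GF4 2 := uT hGF4 ⟨w, h⟩

/-- the elements of the field -/
abbrev o : GF4 := ⟨0, 0⟩
/-- the elements of the field -/
abbrev l : GF4 := ⟨1, 0⟩
/-- the elements of the field -/
abbrev w : GF4 := ⟨0, 1⟩
/-- the elements of the field -/
abbrev u : GF4 := ⟨1, 1⟩

/-- four commuting transvections -/
noncomputable def t : Fin 4 → SU 4 GF4 2 :=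
  ![tw ![l, l, o, o], tw ![o, o, l, l], tw ![l, l, l, l], tw ![l, l, w, w]]

theorem t_mem (i : Fin 4) : t i ∈ Set.range (uT (n := 4) hGF4) := by
  fin_cases i <;> exact ⟨_, rfl⟩

/-- entrywise equality -/
def Eq4 (a b : SU 4 GF4 2) : Prop := ∀ i j, a.1.1 i j = b.1.1 i j

instance (a b : SU 4 GF4 2) : Decidable (Eq4 a b) :=
  @Nat.decidableForallFin _ _ fun _ => @Nat.decidableForallFin _ _ fun _ =>
    (inferInstance : DecidableEq GF4) _ _

theorem ext4 {a b : SU 4 GF4 2} (h : Eq4 a b) : a = b :=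
  Subtype.ext (Subtype.ext (Matrix.ext h))

theorem t_comm : ∀ i j, t i * t j = t j * t i := fun i j =>
  ext4 ((by decide +kernel : ∀ i j, Eq4 (t i * t j) (t j * t i)) i j)

theorem t_ne : t 0 * t 1 ≠ 1 := fun e =>
  absurd (congrArg (fun g : SU 4 GF4 2 => g.1.1 0 0) e) (by decide +kernel)

/-- the fifth transvection -/
noncomputable def t4 : SU 4 GF4 2 := tw ![l, l, u, u]

theorem t_four : t 0 * t 1 * (t 2 * t 3) = t4 :=
  ext4 (by decide +kernel)

theorem cj2 {x y a b : SU 4 GF4 2} (ha : a * a = 1) (hb : b * b = 1)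
    (h : Eq4 (b * x * b) (a * y * a)) : IsConj x y :=
  isConj_iff.2 ⟨a * b, by
    rw [_root_.mul_inv_rev, inv_eq_of_mul_eq_one_right ha, inv_eq_of_mul_eq_one_right hb]
    calc _ = a * (b * x * b) * a := by group
      _ = a * a * y * (a * a) := by rw [ext4 h]; group
      _ = y := by rw [ha]; group⟩

theorem tw_sq (v : Fin 4 → GF4) (h : v ≠ 0 ∧ hermForm 4 GF4 2 v v = 0) : tw v h * tw v h = 1 := by
  have := pow_orderOf_eq_one (tw v h)
  rwa [(su_three hGF4 le_rfl).1.1 (tw v h) ⟨_, rfl⟩, sq] at this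

theorem t_conj (i j : Fin 4) (h : i < j) : IsConj (t 0 * t 1) (t i * t j) := by
  rcases (by revert i j; decide : i = 0 ∧ j = 1 ∨ i = 0 ∧ j = 2 ∨ i = 0 ∧ j = 3 ∨ i = 1 ∧ j = 2 ∨
    i = 1 ∧ j = 3 ∨ i = 2 ∧ j = 3) with ⟨rfl, rfl⟩ | ⟨rfl, rfl⟩ | ⟨rfl, rfl⟩ | ⟨rfl, rfl⟩ |
    ⟨rfl, rfl⟩ | ⟨rfl, rfl⟩
  · exact IsConj.refl _
  · exact cj2 (tw_sq ![l, l, w, u] (by decide +kernel)) (tw_sq ![o, o, l, w] (by decide +kernel))
      (by decide +kernel)
  · exact cj2 (tw_sq ![l, l, u, l] (by decide +kernel)) (tw_sq ![o, o, l, w] (by decide +kernel))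
      (by decide +kernel)
  · exact cj2 (tw_sq ![l, w, u, u] (by decide +kernel)) (tw_sq ![l, w, o, o] (by decide +kernel))
      (by decide +kernel)
  · exact cj2 (tw_sq ![l, w, l, l] (by decide +kernel)) (tw_sq ![l, w, o, o] (by decide +kernel))
      (by decide +kernel)
  · exact cj2 (tw_sq ![l, w, u, l] (by decide +kernel)) (tw_sq ![o, l, o, u] (by decide +kernel))
      (by decide +kernel)

end KU

theorem u42_rset [Finite G] [IsAlgClosed F] (h2 : (2 : F) ≠ 0) (h : Hy ρ) {E : Type} [Field E]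
    [Fintype E] (hE : Fintype.card E = 4) (e : G ≃* PSU 4 E 2) :
    ∃ D : Set G, RSet ρ (-1) D ∧ (∀ d ∈ D, IsNg ρ d) ∧
      ∀ a ∈ D, ∀ b ∈ D, a * b = b * a ∨ (a * b) ^ 3 = 1 := by
  have hZ : center (SU 4 Classical.GF4 2) = ⊥ :=
    card_eq_one.1 (Unitary.card_center_SU Unitary.SU32.hGF4 (by norm_num))
  let η : SU 4 Classical.GF4 2 ≃* G := (QuotientGroup.quotientBot.symm.trans
    (QuotientGroup.quotientMulEquivOfEq hZ.symm)).trans (e.trans (Unitary.psuMapEquiv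
      (FiniteField.ringEquivOfCardEq (hE.trans Classical.card_GF4.symm)))).symm
  obtain ⟨⟨h1, h3⟩, ⟨d, -, hd⟩, hg⟩ := Transv3.su_three Unitary.SU32.hGF4 (le_refl 4)
  generalize hD : Set.range (Transv3.uT (n := 4) Unitary.SU32.hGF4) = D at h1 h3 hd hg
  have sq : ∀ a ∈ D, a * a = 1 := fun a ha => by
    have := pow_orderOf_eq_one a
    rwa [h1 a ha, sq] at this
  have cj : ∀ a ∈ D, ∀ b ∈ D, IsConj a b := fun a ha b hb =>
    IsConj.trans (IsConj.symm (hd.le ha)) (hd.le hb)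
  have tm : ∀ i, KU.t i ∈ D := fun i => hD ▸ KU.t_mem i
  have ng0 : IsNg (ρ.comp η.toMonoidHom) (KU.t 0) := ku_ng (ρ := ρ.comp η.toMonoidHom) h2
    (h.inj.comp η.injective) KU.t
    (fun i => sq _ (tm i)) KU.t_comm (fun k => absurd (h1 _ (tm 0)) (by rw [k, orderOf_one]; decide))
    KU.t_ne (fun i => cj _ (tm 0) _ (tm i)) (KU.t_four ▸ cj _ (tm 0) KU.t4 (hD.le ⟨_, rfl⟩)) KU.t_conj
  have ng : ∀ a ∈ D, IsNg ρ (η a) := fun a ha => by
    obtain ⟨g, rfl⟩ := isConj_iff.1 (cj _ (tm 0) a ha)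
    obtain ⟨v, φ, k⟩ := ng0.conj g
    exact ⟨v, φ, k.eq, k.dot⟩
  refine ⟨η '' D, ⟨by simp, ?_, ?_, ?_, ?_⟩, ?_, ?_⟩
  · rw [show (η : _ → G) = η.toMonoidHom from rfl, ← MonoidHom.map_closure, hg,
      map_top_of_surjective _ η.surjective]
  · rintro _ ⟨a, ha, rfl⟩ _ ⟨b, hb, rfl⟩
    refine ⟨a * b * a, hd.ge (IsConj.trans (hd.le hb) (isConj_iff.2 ⟨a, ?_⟩)), by simp⟩
    rw [inv_eq_of_mul_eq_one_right (sq a ha)]
  · rintro _ ⟨a, ha, rfl⟩
    rw [← map_mul, sq a ha, map_one]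
  · rintro _ ⟨a, ha, rfl⟩
    obtain ⟨v, φ, k⟩ := ng a ha
    exact ⟨v, φ, by rw [rm, k.eq]; simp⟩
  · rintro _ ⟨a, ha, rfl⟩
    exact ng a ha
  · rintro _ ⟨a, ha, rfl⟩ _ ⟨b, hb, rfl⟩
    refine (h3 a ha b hb).imp (fun k => ?_) fun k => by rw [← map_mul, ← map_pow, k, map_one]
    rw [← map_mul, ← map_mul, ← inv_eq_of_mul_eq_one_right ((pow_two _).symm.trans k),
      _root_.mul_inv_rev, inv_eq_of_mul_eq_one_right (sq a ha), inv_eq_of_mul_eq_one_right (sq b hb)]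

end CfsgLib.D5
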