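import Cfsg.Agent.Lib.D5.Defs
import Cfsg.Agent.Lib.D5.Eig
import Cfsg.Agent.Lib.LS.Weight

/-!
KW: weights for a rank two torus with Weyl group `S₃`.  See `plans/D5.md`.
-/

set_option autoImplicit false

namespace CfsgLib.D5

open Matrix Cfsg Cfsg.Geo CfsgLib.Asch Subgroup
open scoped MatrixGroups

variable {G F : Type*} [Group G] [Field F] {ρ : G →* S5 F}

/-- every element has a non-zero generalised diagonal -/
theorem kw_perm (w : G) : ∃ σ : Equiv.Perm (Fin 5), ∀ (u v : G) (d e : V5 F), w * u * w⁻¹ = v →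
    mt ρ u = diagonal d → mt ρ v = diagonal e → ∀ i, e (σ i) = d i := by
  obtain ⟨σ, -, hσ⟩ := Finset.exists_ne_zero_of_sum_ne_zero
    ((det_apply (mt ρ w)).symm.trans_ne ((det_mt w).trans_ne one_ne_zero))
  refine ⟨σ, fun u v d e h hu hv i => ?_⟩
  have h1 : mt ρ w (σ i) i ≠ 0 := fun e => hσ (by
    rw [Finset.prod_eq_zero (f := fun i => mt ρ w (σ i) i) (Finset.mem_univ i) e, smul_zero])
  have h2 := congrArg (fun g => mt ρ g (σ i) i) (mul_inv_eq_iff_eq_mul.1 h)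
  simp only [mt_mul, hu, hv, mul_diagonal, diagonal_mul] at h2
  exact mul_right_cancel₀ h1 (h2.symm.trans (mul_comm _ _))

theorem kw_six {a b : F} (ha : a ≠ 0) (hb : b ≠ 0) (h1 : ¬ (a * b = 1 ∧ a ^ 3 = 1)) (h2 : a ≠ b) (h3 : a ≠ 1)
    (h4 : b ≠ 1) : Function.Injective
      ![(a, b), (b, a), (a * b⁻¹, b⁻¹), (b⁻¹, a * b⁻¹), (b * a⁻¹, a⁻¹), (a⁻¹, b * a⁻¹)] := by
  intro i j e
  fin_cases i <;> fin_cases j <;> first
    | rfl
    | (exfalso
       simp only [Fin.zero_eta, Fin.mk_one, Fin.reduceFinMk, cons_val, Prod.mk.injEq] at e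
       grind)

/-- the stabiliser of a subspace -/
def kwStab (ρ : G →* S5 F) (W : Submodule F (V5 F)) : Subgroup G where
  carrier := {g | ∀ v, mt ρ g *ᵥ v ∈ W ↔ v ∈ W}
  one_mem' v := by rw [mt_one, one_mulVec]
  mul_mem' {g h} hg hh v := by rw [mt_mul, ← mulVec_mulVec, hg, hh]
  inv_mem' {g} hg v := by rw [← hg, mulVec_mulVec, mt_mul_inv, one_mulVec]

/-- the pointwise stabiliser of a subspace -/
def kwFix (ρ : G →* S5 F) (W : Submodule F (V5 F)) : Subgroup G where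
  carrier := {g | ∀ v ∈ W, mt ρ g *ᵥ v = v}
  one_mem' v _ := by rw [mt_one, one_mulVec]
  mul_mem' {g h} hg hh v hv := by rw [mt_mul, ← mulVec_mulVec, hh v hv, hg v hv]
  inv_mem' {g} hg v hv := by nth_rw 1 [← hg v hv]; rw [mulVec_mulVec, mt_inv_mul, one_mulVec]

/-- an eigenspace -/
def kwEig (ρ : G →* S5 F) (z : G) (c : F) : Submodule F (V5 F) where
  carrier := {v | mt ρ z *ᵥ v = c • v}
  zero_mem' := by simp
  add_mem' {v w} hv hw := by
    show _ = _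
    rw [mulVec_add, hv, hw, smul_add]
  smul_mem' t v hv := by
    show _ = _
    rw [mulVec_smul, hv, smul_comm]

theorem kw_cent (z : G) (c : F) : centralizer {z} ≤ kwStab ρ (kwEig ρ z c) := by
  have key : ∀ g ∈ centralizer {z}, ∀ v ∈ kwEig ρ z c, mt ρ g *ᵥ v ∈ kwEig ρ z c := fun g hg v hv => by
    show _ = _
    rw [mulVec_mulVec, ← mt_mul, hg z rfl, mt_mul, ← mulVec_mulVec, hv, mulVec_smul]
  intro g hg v
  refine ⟨fun h => ?_, key g hg v⟩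
  have := key _ (inv_mem hg) _ h
  rwa [mulVec_mulVec, mt_inv_mul, one_mulVec] at this

theorem mem_kwEig {z : G} {d : V5 F} (h : mt ρ z = diagonal d) {c : F} {v : V5 F} :
    v ∈ kwEig ρ z c ↔ ∀ i, d i = c ∨ v i = 0 := by
  show _ = _ ↔ _
  rw [h, funext_iff]
  simp only [mulVec_diagonal, Pi.smul_apply, smul_eq_mul, mul_eq_mul_right_iff]

theorem kw_diag {x y w₁ w₂ : G} {m : ℕ} (h4 : 4 ≤ m) {a b : V5 F} (ea : mt ρ x = diagonal a)
    (eb : mt ρ y = diagonal b) (a0 : ∀ i, a i ≠ 0) (b0 : ∀ i, b i ≠ 0) (h1 : w₁ * x * w₁⁻¹ = y)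
    (h1' : w₁ * y * w₁⁻¹ = x) (h2 : w₂ * x * w₂⁻¹ = x * y⁻¹) (h2' : w₂ * y * w₂⁻¹ = y⁻¹)
    (hf : ∀ n : ℕ, mt ρ ((x * y⁻¹) ^ n) = 1 → m ∣ n)
    (hg : centralizer {x * y} ⊔ centralizer {w₂ * (x * y) * w₂⁻¹} = ⊤)
    (h6 : m = 6 → (x * y) ^ 3 ∈
      closure {g | ∃ c ∈ centralizer {x * y}, g = c * (x * y⁻¹) ^ 2 * c⁻¹}) : ¬ Abs ρ := by
  intro habs
  have ei : mt ρ y⁻¹ = diagonal fun i => (b i)⁻¹ := by
    rw [← Matrix.mul_one (mt ρ y⁻¹), ← diagonal_one, show (fun _ => (1 : F)) = fun i => b i * (b i)⁻¹ from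
      funext fun i => (mul_inv_cancel₀ (b0 i)).symm, ← diagonal_mul_diagonal, ← eb, ← Matrix.mul_assoc,
      mt_inv_mul, Matrix.one_mul]
  have e1 : mt ρ (x * y⁻¹) = diagonal fun i => a i * (b i)⁻¹ := by rw [mt_mul, ea, ei, diagonal_mul_diagonal]
  have e2 : mt ρ (x * y) = diagonal fun i => a i * b i := by rw [mt_mul, ea, eb, diagonal_mul_diagonal]
  have e3 : mt ρ (w₂ * (x * y) * w₂⁻¹) = diagonal fun i => a i * (b i)⁻¹ * (b i)⁻¹ := by
    rw [← conj_mul, h2, h2', mt_mul, e1, ei, diagonal_mul_diagonal]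
  have hf' : ∀ n : ℕ, (∀ i, (a i * (b i)⁻¹) ^ n = 1) → m ∣ n := fun n h => hf n (by
    rw [mt_pow, e1, diagonal_pow, ← diagonal_one]; exact congrArg _ (funext h))
  obtain ⟨σ, hσ⟩ := kw_perm (ρ := ρ) w₁
  obtain ⟨τ, hτ⟩ := kw_perm (ρ := ρ) w₂
  have s1 : ∀ i, a (σ i) = b i := hσ _ _ _ _ h1' eb ea
  have s2 : ∀ i, b (σ i) = a i := hσ _ _ _ _ h1 ea eb
  have t2 : ∀ i, b (τ i) = (b i)⁻¹ := fun i => inv_eq_iff_eq_inv.1 (hτ _ _ _ _ h2' eb ei i)
  have t1 : ∀ i, a (τ i) = a i * (b i)⁻¹ := fun i => by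
    rw [← hτ _ _ _ _ h2 ea e1 i, t2, inv_inv, mul_inv_cancel_right₀ (b0 i)]
  have cs : ∀ i, (a i * b i = 1 ∧ a i ^ 3 = 1) ∨ a i = b i ∨ a i = 1 ∨ b i = 1 := fun i => by
    by_contra! h
    have k := kw_six (a0 i) (b0 i) (fun e => h.1 e.1 e.2) h.2.1 h.2.2.1 h.2.2.2
    have : Function.Injective ![i, σ i, τ i, σ (τ i), τ (σ i), σ (τ (σ i))] :=
      Function.Injective.of_comp (f := fun j => (a j, b j)) (by
        convert k
        ext j <;> fin_cases j <;> simp [s1, s2, t1, t2])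
    simpa using Fintype.card_le_of_injective _ this
  have uq : ∀ i j, a i = b i → a i ≠ 1 → a j = b j → a j ≠ 1 → i = j := fun i j p1 p2 p3 p4 => by
    by_contra n
    have q1 : ∀ i, a i = b i → a (τ i) = 1 := fun i p => by rw [t1, p, mul_inv_cancel₀ (b0 i)]
    have q2 : ∀ i, a i = b i → a i ≠ 1 → b (τ i) ≠ 1 := fun i p p' => by rw [t2, ← p]; exact inv_ne_one.2 p'
    have r1 := q1 i p1
    have r2 := q1 j p3
    have r3 := q2 i p1 p2
    have r4 := q2 j p3 p4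
    have r5 := s1 (τ i)
    have r6 := s1 (τ j)
    have r7 := s2 (τ i)
    have r8 := s2 (τ j)
    have r9 : τ i ≠ τ j := τ.injective.ne n
    have r10 : σ (τ i) ≠ σ (τ j) := σ.injective.ne r9
    have : Function.Injective ![i, j, τ i, τ j, σ (τ i), σ (τ j)] := by
      intro k l e
      fin_cases k <;> fin_cases l <;> first
        | rfl
        | (exfalso
           simp only [Fin.zero_eta, Fin.mk_one, Fin.reduceFinMk, cons_val] at e
           grind)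
    simpa using Fintype.card_le_of_injective _ this
  have c2 : ∀ i, (a i * b i = 1 ∧ a i ^ 3 = 1) ∨
      ∃ j, a j = b j ∧ a j ≠ 1 ∧ (i = j ∨ (τ i = j ∧ a i = 1 ∧ b i = (a j)⁻¹) ∨
        (τ (σ i) = j ∧ a i = (a j)⁻¹ ∧ b i = 1)) := fun i => by
    by_cases n : a i * b i = 1 ∧ a i ^ 3 = 1
    · exact Or.inl n
    have := a0 i
    have := b0 i
    rcases (cs i).resolve_left n with e | e | e
    · exact Or.inr ⟨i, e, fun e' => n (by rw [← e, e']; simp), Or.inl rfl⟩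
    · refine Or.inr ⟨τ i, ?_, ?_, Or.inr (Or.inl ⟨rfl, e, ?_⟩)⟩ <;> rw [t1, e] <;> [rw [t2]; skip; skip] <;> grind
    · refine Or.inr ⟨τ (σ i), ?_, ?_, Or.inr (Or.inr ⟨rfl, ?_, e⟩)⟩ <;> rw [t1, s1, s2, e] <;>
        [rw [t2, s2]; skip; skip] <;> grind
  obtain ⟨i₀, p1, p2⟩ : ∃ j, a j = b j ∧ a j ≠ 1 := by
    by_contra! h
    have := Nat.le_of_dvd (by norm_num) (hf' 3 fun i => by
      obtain e | ⟨j, q1, q2, -⟩ := c2 i
      · have := b0 i
        grind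
      · exact (q2 (h j q1)).elim)
    omega
  have c3 : ∀ i, (a i * b i = 1 ∧ a i ^ 3 = 1) ∨ i = i₀ ∨ (τ i = i₀ ∧ a i = 1 ∧ b i = (a i₀)⁻¹) ∨
      (τ (σ i) = i₀ ∧ a i = (a i₀)⁻¹ ∧ b i = 1) := fun i => (c2 i).imp_right fun ⟨j, q1, q2, q3⟩ =>
    uq j i₀ q1 q2 p1 p2 ▸ q3
  have k0 := a0 i₀
  by_cases hk : a i₀ ^ 2 = 1
  · have m6 : m = 6 := by
      have h := hf' 6 fun i => by
        have := b0 i
        rcases c3 i with e | rfl | e | e <;> grind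
      have := Nat.le_of_dvd (by norm_num) h
      interval_cases m <;> simp_all
    have h7 : closure {g | ∃ c ∈ centralizer {x * y}, g = c * (x * y⁻¹) ^ 2 * c⁻¹} ≤
        kwFix ρ (kwEig ρ (x * y) (a i₀)) := (closure_le _).2 (by
      rintro _ ⟨c, hc, rfl⟩ v hv
      have h8 := (kw_cent (ρ := ρ) _ (a i₀) (inv_mem hc) v).2 hv
      have h9 : mt ρ ((x * y⁻¹) ^ 2) *ᵥ (mt ρ c⁻¹ *ᵥ v) = mt ρ c⁻¹ *ᵥ v := by
        rw [mt_pow, e1, diagonal_pow]
        ext i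
        rw [mulVec_diagonal, Pi.pow_apply]
        rcases (mem_kwEig e2).1 h8 i with e' | e'
        · have := b0 i
          rw [show (a i * (b i)⁻¹) ^ 2 = 1 by rcases c3 i with e | rfl | e | e <;> grind, one_mul]
        · rw [e', mul_zero]
      rw [mt_mul, mt_mul, ← mulVec_mulVec, ← mulVec_mulVec, h9, mulVec_mulVec, mt_mul_inv, one_mulVec])
    have h8 : a (τ i₀) * b (τ i₀) = a i₀ := by rw [t1, t2, ← p1]; grind
    have h9 := congrFun (h7 (h6 m6) (Pi.single (τ i₀) 1) ((mem_kwEig e2).2 fun i => by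
      by_cases e : i = τ i₀
      · exact Or.inl (e ▸ h8)
      · exact Or.inr (Pi.single_eq_of_ne e _))) (τ i₀)
    rw [mt_pow, e2, diagonal_pow, mulVec_diagonal, Pi.pow_apply, h8, Pi.single_eq_same] at h9
    grind
  have q1 : ∀ i, a i * b i = 1 ↔ a i * b i = 1 ∧ a i ^ 3 = 1 := fun i => by
    rcases c3 i with e | rfl | e | e <;> grind
  have q2 : ∀ i, a i * (b i)⁻¹ * (b i)⁻¹ = 1 ↔ a i * b i = 1 := fun i => by
    have := b0 i
    rcases c3 i with e | rfl | e | e <;> grind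
  have q3 : kwEig ρ (w₂ * (x * y) * w₂⁻¹) 1 = kwEig ρ (x * y) 1 := by
    ext v
    simp only [mem_kwEig e2, mem_kwEig e3, q2]
  have q4 : ⊤ ≤ kwStab ρ (kwEig ρ (x * y) 1) := hg ▸ sup_le (kw_cent _ _) (q3 ▸ kw_cent _ _)
  rcases habs.irr _ fun g v hv => (q4 (mem_top g) v).2 hv with e | e
  · obtain ⟨i, hi⟩ : ∃ i, i ∉ ({i₀, τ⁻¹ i₀, σ⁻¹ (τ⁻¹ i₀)} : Finset (Fin 5)) :=
      (Finset.exists_mem_notMem_of_card_lt_card (t := Finset.univ)
        (Finset.card_le_three.trans_lt (by simp))).imp fun _ h => h.2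
    simp only [Finset.mem_insert, Finset.mem_singleton, not_or] at hi
    have h5 : a i * b i = 1 := by
      rcases c3 i with e | e | e | e
      · exact e.1
      · exact (hi.1 e).elim
      · exact (hi.2.1 (by simp [← e.1])).elim
      · exact (hi.2.2 (by simp [← e.1])).elim
    have h7 : Pi.single i 1 ∈ kwEig ρ (x * y) (1 : F) := (mem_kwEig e2).2 fun j => by
      by_cases e : j = i
      · exact Or.inl (e ▸ h5)
      · exact Or.inr (Pi.single_eq_of_ne e _)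
    rw [e, Submodule.mem_bot] at h7
    simpa using congrFun h7 i
  · have h7 := (mem_kwEig e2 (v := fun _ => 1)).1 (e ▸ Submodule.mem_top) i₀
    grind

theorem kw [IsAlgClosed F] {x y w₁ w₂ : G} {m : ℕ} (hm : (m : F) ≠ 0) (h4 : 4 ≤ m)
    (hc : x * y = y * x) (hx : x ^ m = 1) (hy : y ^ m = 1) (h1 : w₁ * x * w₁⁻¹ = y)
    (h1' : w₁ * y * w₁⁻¹ = x) (h2 : w₂ * x * w₂⁻¹ = x * y⁻¹) (h2' : w₂ * y * w₂⁻¹ = y⁻¹)
    (hf : ∀ n : ℕ, ρ ((x * y⁻¹) ^ n) = 1 → m ∣ n)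
    (hg : centralizer {x * y} ⊔ centralizer {w₂ * (x * y) * w₂⁻¹} = ⊤)
    (h6 : m = 6 → (x * y) ^ 3 ∈
      closure {g | ∃ c ∈ centralizer {x * y}, g = c * (x * y⁻¹) ^ 2 * c⁻¹}) : ¬ Abs ρ := by
  obtain ⟨B, d, hd, e⟩ := exists_cb_diag (ρ := ρ) ![x, y] (by simp [Fin.forall_fin_two, hc]) hm
    (by simp [Fin.forall_fin_two, hx, hy])
  have n0 : ∀ a i, d a i ≠ 0 := fun a i e => by simpa [e, show m ≠ 0 by omega] using hd a i
  exact fun h => kw_diag h4 (e 0) (e 1) (n0 0) (n0 1) h1 h1' h2 h2'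
    (fun n hn => hf n (Subtype.ext ((mt_eq_one_cb B).1 hn))) hg h6 (h.cb B)

end CfsgLib.D5
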