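import Cfsg.Agent.Lib.D5.KW

/-!
KW3: the weight argument `kw` for groups of `3 × 3` matrices.  See `plans/D5.md`.
-/

set_option autoImplicit false

namespace CfsgLib.D5

open Matrix Cfsg Cfsg.Geo CfsgLib.Asch Subgroup
open scoped MatrixGroups

variable {G F : Type*} [Group G] [Field F] {ρ : G →* S5 F} {E : Type*} [Field E]

theorem kw3_dg (u v w : E) : diagonal ![u, v, w] = !![u, 0, 0; 0, v, 0; 0, 0, w] := by
  ext i j; fin_cases i <;> fin_cases j <;> simp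

theorem kw3_comm {M : Matrix (Fin 3) (Fin 3) E} {d : Fin 3 → E} {k : Fin 3}
    (e : ∀ i, i ≠ k → M i k = 0 ∧ M k i = 0) (h : ∀ i j, i ≠ k → j ≠ k → d i = d j) :
    M * diagonal d = diagonal d * M := by
  ext i j
  rw [mul_diagonal, diagonal_mul, mul_comm]
  by_cases hi : i = k <;> by_cases hj : j = k
  · rw [hi, hj]
  · rw [hi, (e j hj).2, mul_zero, mul_zero]
  · rw [hj, (e i hi).1, mul_zero, mul_zero]
  · rw [h i j hi hj]

theorem kw3_six {a α β γ δ : E} (k1 : α * δ - β * γ = 1) (k2 : α * δ + 2 * β * γ = 0) (k3 : a * a - a + 1 = 0) :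
    diagonal ![a, a, (1 - a) * (1 - a)] ^ 3 = (diagonal ![a, 1 - a, 1] ^ 2 * (!![α, β, 0; γ, δ, 0; 0, 0, 1] *
      diagonal ![a, 1 - a, 1] ^ 2 * !![δ, -β, 0; -γ, α, 0; 0, 0, 1])) ^ 2 := by
  have s2 : diagonal ![a, 1 - a, 1] ^ 2 = !![a - 1, 0, 0; 0, -a, 0; 0, 0, 1] := by
    rw [sq, kw3_dg, mul_fin_three]
    ext i j; fin_cases i <;> fin_cases j <;> simp <;> grind
  rw [s2, pow_three', sq, kw3_dg]
  simp only [mul_fin_three]
  ext i j; fin_cases i <;> fin_cases j <;> simp <;> grind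

theorem kw3 [IsAlgClosed F] {ι : G →* Matrix (Fin 3) (Fin 3) E}
    (inj : Function.Injective ι) (hk : ρ.ker ≤ center G) {m : ℕ} (hm : (m : F) ≠ 0) (h4 : 4 ≤ m) {a : E}
    (ha : IsPrimitiveRoot a m)
    (hd : ∀ d : Fin 3 → E, ∏ i, d i = 1 → (∀ i, d i ^ m = 1) → ∃ g, ι g = diagonal d)
    (w1 : ∃ w, ι w = !![0, -1, 0; -1, 0, 0; 0, 0, -1]) (w2 : ∃ w, ι w = !![-1, 0, 0; 0, 0, -1; 0, -1, 0])
    (hg : ∀ H : Subgroup G, (∀ g k, k ≠ 0 → (∀ i, i ≠ k → ι g i k = 0 ∧ ι g k i = 0) → g ∈ H) → H = ⊤)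
    (h6 : m = 6 → ∃ c α β γ δ, ι c = !![α, β, 0; γ, δ, 0; 0, 0, 1] ∧ α * δ - β * γ = 1 ∧
      α * δ + 2 * β * γ = 0) : ¬ Abs ρ := by
  obtain ⟨b, hab⟩ : ∃ b, a * b = 1 := ⟨_, mul_inv_cancel₀ (ha.ne_zero (by omega))⟩
  have hba : b * a = 1 := (mul_comm _ _).trans hab
  have am := ha.pow_eq_one
  have bm : b ^ m = 1 := by rw [← one_mul (b ^ m), ← am, ← mul_pow, hab, one_pow, am]
  have iv : ∀ {g : G} {M}, ι g * M = 1 → ι g⁻¹ = M := fun {g M} e => by
    rw [← mul_one (ι g⁻¹), ← e, ← mul_assoc, ← map_mul, inv_mul_cancel, map_one, one_mul]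
  obtain ⟨x, hx⟩ := hd ![a, 1, b] (by simp [Fin.prod_univ_three, hab]) (by simp [Fin.forall_fin_succ, am, bm])
  obtain ⟨y, hy⟩ := hd ![1, a, b] (by simp [Fin.prod_univ_three, hab]) (by simp [Fin.forall_fin_succ, am, bm])
  obtain ⟨⟨w₁, h1⟩, ⟨w₂, h2⟩⟩ := And.intro w1 w2
  have hy' : ι y⁻¹ = diagonal ![1, b, a] := iv (by rw [hy, one_fin_three]; simp [kw3_dg, hab, hba])
  have hs : ι (x * y⁻¹) = diagonal ![a, b, 1] := by rw [map_mul, hx, hy']; simp [kw3_dg, hba]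
  have ht : ι (x * y) = diagonal ![a, a, b * b] := by rw [map_mul, hx, hy]; simp [kw3_dg]
  have ht' : ι (w₂ * (x * y) * w₂⁻¹) = diagonal ![a, b * b, a] := by
    rw [map_mul, map_mul, ht, h2, iv (M := ι w₂) (by rw [h2, one_fin_three]; simp), h2]
    simp [kw3_dg]
  have pw : ∀ {g : G} {d : Fin 3 → E}, ι g = diagonal d → (∀ i, d i ^ m = 1) → g ^ m = 1 := fun e k =>
    inj (by rw [map_pow, e, diagonal_pow, map_one, ← diagonal_one]; exact congrArg _ (funext k))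
  have c1 : ∀ g, (∀ i, i ≠ 2 → ι g i 2 = 0 ∧ ι g 2 i = 0) → g ∈ centralizer {x * y} := fun g e =>
    mem_centralizer_singleton_iff.2 (inj (by
      rw [map_mul, map_mul ι _ g, ht]; exact kw3_comm e (by simp [Fin.forall_fin_succ])))
  refine kw (x := x) (y := y) (w₁ := w₁) (w₂ := w₂) hm h4 ?_ (pw hx (by simp [Fin.forall_fin_succ, am, bm]))
    (pw hy (by simp [Fin.forall_fin_succ, am, bm])) ?_ ?_ ?_ ?_ (fun n hn => ha.dvd_of_pow_eq_one n ?_)
    (hg _ fun g k k0 e => ?_) fun e => ?_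
  iterate 5
    try rw [mul_inv_eq_iff_eq_mul]
    refine inj ?_
    simp only [map_mul, hx, hy, hy', h1, h2, kw3_dg]
    simp [hba]
  · have := congrFun (congrFun (congrArg ι (mem_center_iff.1 (hk hn) w₂)) 1) 2
    rw [map_mul, map_mul, map_pow, hs, h2, diagonal_pow, mul_diagonal, diagonal_mul] at this
    have k : b ^ n = 1 := by simpa using this.symm
    rw [← mul_one (a ^ n), ← k, ← mul_pow, hab, one_pow, k]
  · obtain rfl | rfl : k = 2 ∨ k = 1 := by omega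
    · exact mem_sup_left (c1 g e)
    · refine mem_sup_right (mem_centralizer_singleton_iff.2 (inj ?_))
      rw [map_mul, map_mul ι _ g, ht']
      exact kw3_comm e (by simp [Fin.forall_fin_succ])
  · obtain ⟨c, α, β, γ, δ, hc, k1, k2⟩ := h6 e
    have hc' : ι c⁻¹ = !![δ, -β, 0; -γ, α, 0; 0, 0, 1] := iv (by
      rw [hc, one_fin_three, mul_fin_three]
      ext i j; fin_cases i <;> fin_cases j <;> simp <;> grind)
    have a2 := ha.pow_ne_one_of_pos_of_lt two_ne_zero (by omega)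
    have a3 := ha.pow_ne_one_of_pos_of_lt three_ne_zero (by omega)
    rw [e] at am
    have k3 : a * a - a + 1 = 0 := (mul_eq_zero.1 (by linear_combination (a - 1) * am)).resolve_left
      (mul_ne_zero (sub_ne_zero.2 a2) (sub_ne_zero.2 a3))
    obtain rfl : b = 1 - a := by linear_combination b * k3 - (a - 1) * hab
    have m1 : (x * y⁻¹) ^ 2 * (c * (x * y⁻¹) ^ 2 * c⁻¹) ∈
        closure {g | ∃ c ∈ centralizer {x * y}, g = c * (x * y⁻¹) ^ 2 * c⁻¹} :=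
      mul_mem (subset_closure ⟨1, one_mem _, by simp⟩)
        (subset_closure ⟨c, c1 c (by simp [hc, Fin.forall_fin_succ]), rfl⟩)
    refine (inj ?_ : _ = (x * y) ^ 3) ▸ pow_mem m1 2
    symm
    rw [map_pow, ht, map_pow, map_mul, map_mul, map_mul, map_pow, hs, hc, hc']
    exact kw3_six k1 k2 k3

end CfsgLib.D5
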