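import Cfsg.Agent.Lib.D5.Defs
import Cfsg.Agent.Lib.Unitary.Simple
import Cfsg.Agent.Lib.Unitary.Order
import Cfsg.Agent.Lib.Asch.UnitaryB
import Cfsg.Agent.Lib.Classical.SLCard
import Cfsg.Agent.Lib.Classical.SLBasic

/-!
W1: invariant forms, subgroups of index five.  See `plans/D5.md`.
-/

set_option autoImplicit false

namespace CfsgLib.D5

open Matrix Cfsg Cfsg.Geo CfsgLib.Asch Subgroup
open scoped MatrixGroups commutatorElement

variable {G F : Type*} [Group G] [Field F] {ρ : G →* S5 F}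

theorem w1_top {X Y : Type*} [Group X] [Finite X] [Group Y] {ι : X →* Y} (hι : Function.Injective ι)
    (hn : ∀ N : Subgroup X, N.Normal → N ≤ center X ∨ N = ⊤) (hz : Nat.card (center X) ≤ 5)
    (hX : 600 < Nat.card X) {P : Subgroup Y} (h : P ≤ ι.range) (hc : Nat.card X ∣ 5 * Nat.card P) :
    P = ι.range := by
  have e : (P.comap ι).map ι = P := map_comap_eq_self h
  set K := P.comap ι
  have hK : Nat.card P = Nat.card K := by rw [← e, card_map_of_injective hι]
  rw [hK, ← K.index_mul_card] at hc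
  have h5 : K.index ≤ 5 := Nat.le_of_dvd (by norm_num) (Nat.dvd_of_mul_dvd_mul_right Nat.card_pos hc)
  rcases hn K.normalCore inferInstance with h1 | h1
  · exfalso
    have h2 : K.normalCore.index ≤ 120 := by
      classical
      haveI := Fintype.ofFinite (X ⧸ K)
      rw [normalCore_eq_ker, index_ker]
      refine (card_le_card_group _).trans ?_
      rw [Nat.card_eq_fintype_card, Fintype.card_perm, ← Nat.card_eq_fintype_card]
      exact Nat.factorial_le h5
    have h3 := (card_le_of_le h1).trans hz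
    rw [← K.normalCore.index_mul_card] at hX
    have := Nat.mul_le_mul h2 h3
    omega
  · rw [← e, eq_top_iff.2 (h1.ge.trans K.normalCore_le), MonoidHom.range_eq_map]

theorem w1_tr (σ : F →+* F) {M N : M5 F} (h : Mᵀ * M.map σ = 1) (hN : M * N = 1) :
    N.trace = σ M.trace := by
  have h1 : Nᵀ = M.map σ := by
    rw [← one_mul (M.map σ), ← transpose_one, ← hN, transpose_mul, mul_assoc, h, mul_one]
  rw [← trace_transpose, h1, AddMonoidHom.map_trace]

variable [Fintype F]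

theorem w1_normal (N : Subgroup (S5 F)) (hn : N.Normal) : N ≤ center (S5 F) ∨ N = ⊤ := by
  have := Classical.psl_fin_isSimpleGroup (F := F) 5 (by norm_num) (by norm_num)
  refine (IsSimpleGroup.eq_bot_or_eq_top_of_normal (N.map (QuotientGroup.mk' (center (S5 F))))
    (hn.map _ (QuotientGroup.mk'_surjective _))).imp
    (fun h x hx => (QuotientGroup.eq_one_iff x).1 (h.le (mem_map_of_mem _ hx))) fun h => ?_
  rw [eq_top_iff, ← Classical.sl_fin_commutator_eq_top (F := F) 5 (by norm_num) (by norm_num),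
    commutator_def, commutator_le]
  intro a _ b _
  obtain ⟨x, hx, e⟩ := h.ge (mem_top (QuotientGroup.mk' _ a))
  obtain ⟨z, hz, rfl⟩ := (QuotientGroup.mk'_eq_mk' _).1 e
  have e2 : ⁅x * z, b⁆ = x * (b * x⁻¹ * b⁻¹) := by
    rw [commutatorElement_def, mul_assoc x z b, ← mem_center_iff.1 hz b]; group
  exact e2 ▸ mul_mem hx (hn.conj_mem _ (inv_mem hx) b)

theorem w1_form {P : Subgroup (GL (Fin 5) F)} (hP : env P = ⊤) {q : ℕ} (hF : Fintype.card F = q ^ 2)
    (h : ∀ x ∈ P, ((x⁻¹ : GL (Fin 5) F) : M5 F).trace = (x : M5 F).trace ^ q) :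
    ∃ (σ : F ≃+* F) (f : V5 F → V5 F → F), (σ : F →+* F) = Unitary.conj hF ∧ IsUnitaryForm σ f ∧
      FixesForm (matrixSet P) f := by
  let σ : F ≃+* F := RingEquiv.ofRingHom (Unitary.conj hF) (Unitary.conj hF)
    (RingHom.ext (Unitary.conj_conj hF)) (RingHom.ext (Unitary.conj_conj hF))
  obtain ⟨f, hf⟩ := exists_unitary_of_trace hP σ
    (fun e => Unitary.conj_ne_id hF (RingHom.ext fun a => DFunLike.congr_fun e a))
    (Unitary.conj_conj hF) h
  exact ⟨σ, f, rfl, hf⟩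

theorem form_of_real {H P : Subgroup (GL (Fin 5) F)} (hP : IsResidualCore H P)
    (h : P ≤ specialLinear (Fin 5) F) (hr : Real (ofSub h)) :
    (∃ Q : V5 F → F, IsNondegenerateQuadraticForm Q ∧ FixesQuadForm (matrixSet P) Q) ∨
      ∃ f : V5 F → V5 F → F, IsSymplecticForm f ∧ FixesForm (matrixSet P) f := by
  obtain ⟨f, hf, hs | hs⟩ := exists_bilin_of_trace (span_eq_top_of_absIrred hP.absIrred)
    fun x hx => hr ⟨x, hx⟩
  · by_cases h2 : (2 : F) = 0
    · exact Or.inr ⟨f, symplectic_of_symm_of_two h2 (by simp) hP.absIrred.1 hs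
        fun x hx => ⟨1, fun u v => by rw [hf _ ⟨x, hx, rfl⟩]; simp⟩, hf⟩
    · exact Or.inl ⟨_, quadratic_of_symm hs h2, fun s h v => hf s h v v⟩
  · exact Or.inr ⟨f, hs, hf⟩

theorem form_of_herm {H P : Subgroup (GL (Fin 5) F)} (hP : IsResidualCore H P)
    (h : P ≤ specialLinear (Fin 5) F) {q : ℕ} (hF : Fintype.card F = q ^ 2)
    (hr : Herm (ofSub h) q) :
    ∃ (σ : F ≃+* F) (f : V5 F → V5 F → F), IsUnitaryForm σ f ∧ FixesForm (matrixSet P) f :=
  let ⟨σ, f, _, hf⟩ := w1_form (span_eq_top_of_absIrred hP.absIrred) hF fun x hx => hr ⟨x, hx⟩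
  ⟨σ, f, hf⟩

theorem herm_of_le {P : Subgroup (GL (Fin 5) F)} (h : P ≤ specialLinear (Fin 5) F) {q : ℕ}
    (hF : Fintype.card F = q ^ 2) (hP : P ≤ GU 5 F q) : Herm (ofSub h) q := fun g =>
  w1_tr (Unitary.conj hF) ((Unitary.mem_GU_iff hF g.1).1 (hP g.2)) (mt_mul_inv (ρ := ofSub h) g)

theorem eq_sl_of_full {P : Subgroup (GL (Fin 5) F)} (h : P ≤ specialLinear (Fin 5) F)
    (hc : Nat.card (S5 F) ∣ 5 * Nat.card P) : P = specialLinear (Fin 5) F := by
  have e : (SpecialLinearGroup.toGL : S5 F →* GL (Fin 5) F).range = specialLinear (Fin 5) F := by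
    ext g
    rw [mem_SL]
    exact ⟨by rintro ⟨x, rfl⟩; exact x.2, fun h => ⟨⟨g, h⟩, Units.ext rfl⟩⟩
  rw [← e] at h ⊢
  refine w1_top SpecialLinearGroup.toGL_injective w1_normal ?_ ?_ h hc
  · rw [Classical.sl_card_center]
    exact Nat.gcd_le_left _ (by simp) |>.trans (by simp)
  · have h2 : 2 ≤ Fintype.card F := Fintype.one_lt_card
    rw [Classical.sl_card]
    refine lt_of_lt_of_le (by norm_num : 600 < 2 ^ (5 * (5 - 1) / 2) * 1)
      (Nat.mul_le_mul (Nat.pow_le_pow_left h2 _) (Nat.succ_le_of_lt (Finset.prod_pos fun i _ => ?_)))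
    exact Nat.sub_pos_of_lt (Nat.one_lt_pow (by omega) h2)

theorem eq_su_of_uni {P : Subgroup (GL (Fin 5) F)} {q : ℕ} (hF : Fintype.card F = q ^ 2)
    (h : P ≤ GU 5 F q ⊓ specialLinear (Fin 5) F) (hc : Nat.card (SU 5 F q) ∣ 5 * Nat.card P) :
    P = GU 5 F q ⊓ specialLinear (Fin 5) F := by
  have e : (suGL 5 F q).range = GU 5 F q ⊓ specialLinear (Fin 5) F := range_suGL 5
  rw [← e] at h ⊢
  refine w1_top (suGL_injective 5)
    (fun N _ => Unitary.su_le_center_or_eq_top hF (by norm_num) (by omega) N) ?_ ?_ h hc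
  · rw [Unitary.card_center_SU hF (by norm_num)]
    exact Nat.gcd_le_left _ (by simp)
  · have h2 := Unitary.two_le_q hF
    have h1 := Unitary.card_SU hF (n := 5) (by norm_num)
    rw [Finset.prod_range_succ', if_pos (by decide), zero_add, pow_one, ← mul_assoc, mul_comm] at h1
    rw [Nat.eq_of_mul_eq_mul_right (Nat.succ_pos q) h1]
    refine lt_of_lt_of_le (by norm_num : 600 < 2 ^ (5 * (5 - 1) / 2) * 1)
      (Nat.mul_le_mul (Nat.pow_le_pow_left h2 _) (Nat.succ_le_of_lt (Finset.prod_pos fun i _ => ?_)))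
    split_ifs
    · exact Nat.succ_pos _
    · exact Nat.sub_pos_of_lt (Nat.one_lt_pow (by omega) h2)

theorem not_sl_le_gu {q : ℕ} (hF : Fintype.card F = q ^ 2) :
    ¬ specialLinear (Fin 5) F ≤ GU 5 F q := fun h => by
  let g : S5 F := ⟨transvection 0 1 1, det_transvection_of_ne _ _ (by decide) _⟩
  have h1 : (transvection 0 1 1 : M5 F)ᵀ * (transvection 0 1 1 : M5 F).map _ = 1 :=
    (Unitary.mem_GU_iff hF _).1 (h (mem_SL.2 g.2 : SpecialLinearGroup.toGL g ∈ _))
  have h2 := congrFun (congrFun h1 0) 1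
  simp [transvection, mul_apply, Fin.sum_univ_five, one_apply, single] at h2

theorem exists_cb_su {q : ℕ} (hF : Fintype.card F = q ^ 2) (h : Abs ρ) (hr : Herm ρ q) :
    ∃ B, ∀ g, cb ρ B g ∈ SU 5 F q := by
  have e : matrixSet (gl ρ).range = Set.range (mt ρ) := by
    ext a
    exact ⟨by rintro ⟨_, ⟨g, rfl⟩, rfl⟩; exact ⟨g, rfl⟩, by rintro ⟨g, rfl⟩; exact ⟨_, ⟨g, rfl⟩, rfl⟩⟩
  obtain ⟨σ, f, hσ, hf, hx⟩ := w1_form (P := (gl ρ).range) (env_eq_top_iff.2 (e ▸ h)) hF (by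
    rintro _ ⟨g, rfl⟩
    rw [← map_inv]
    exact hr g)
  have hs := isSesq_of_unitary hf
  rw [hσ] at hs
  obtain ⟨l, Q, hl, -, hQ⟩ := exists_ortho hF hs
  refine ⟨Q, fun g => (Unitary.mem_SU_iff hF _).2 ?_⟩
  have h1 := hs.sesq0.fixes_iff.1 (hx (mt ρ g) (e ▸ ⟨g, rfl⟩))
  show (mt (cb ρ Q) g)ᵀ * (mt (cb ρ Q) g).map _ = 1
  have h2 : (Q : M5 F) * mt (cb ρ Q) g = mt ρ g * Q := by
    rw [mt_cb, ← Matrix.mul_assoc, ← Matrix.mul_assoc, Units.mul_inv, Matrix.one_mul]
  generalize mt (cb ρ Q) g = y at h2 ⊢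
  have h3 : yᵀ * (l⁻¹ • (1 : M5 F)) * y.map (Unitary.conj hF) = l⁻¹ • 1 := by
    rw [← hQ]
    calc _ = ((Q : M5 F) * y)ᵀ * gramMatrix f * ((Q : M5 F) * y).map (Unitary.conj hF) := by
          rw [transpose_mul, Matrix.map_mul]; simp only [Matrix.mul_assoc]
      _ = (Q : M5 F)ᵀ * ((mt ρ g)ᵀ * gramMatrix f * (mt ρ g).map (Unitary.conj hF)) *
          (Q : M5 F).map (Unitary.conj hF) := by
          rw [h2, transpose_mul, Matrix.map_mul]; simp only [Matrix.mul_assoc]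
      _ = _ := by rw [h1]
  rw [Matrix.mul_smul, Matrix.mul_one, Matrix.smul_mul] at h3
  exact smul_right_injective _ (inv_ne_zero hl) h3

end CfsgLib.D5
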