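import Cfsg.Agent.Lib.D5.W3a

/-!
W3: `L₂(11)` is not maximal in `SL₅(3)`.  See `plans/D5.md`.
-/

set_option autoImplicit false

namespace CfsgLib.D5

open Matrix Cfsg Cfsg.Geo CfsgLib.Asch Subgroup
open scoped MatrixGroups

variable {G F : Type*} [Group G] [Field F] {ρ : G →* S5 F}

namespace W3

/-- the image is not maximal -/
def Ov (ρ : G →* S5 F) : Prop := ∃ M : Subgroup (S5 F), ρ.range < M ∧ M ≠ ⊤

theorem Ov.of_comp {K : Type*} [Field K] {Φ : S5 F →* S5 K} (hΦ : Function.Bijective Φ)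
    (h : Ov (Φ.comp ρ)) : Ov ρ := by
  obtain ⟨M, h1, h2⟩ := h
  refine ⟨M.comap Φ, ?_, fun e => h2 (comap_injective hΦ.2 (e.trans (comap_top Φ).symm))⟩
  rw [← comap_map_eq_self_of_injective hΦ.1 ρ.range, ← MonoidHom.range_comp]
  exact (comap_lt_comap_of_surjective hΦ.2).2 h1

theorem Ov.of_dual [Finite F] (h : Ov (dual ρ)) : Ov ρ :=
  Ov.of_comp (Φ := dual (MonoidHom.id _))
    (Finite.injective_iff_bijective.1 (dual_injective Function.injective_id))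
    (by rwa [show (dual (MonoidHom.id _)).comp ρ = dual ρ from
      MonoidHom.ext fun g => Subtype.ext (congrArg (fun x : S5 F => x.1ᵀ) (map_inv ρ g).symm)])

theorem Ov.of_cb [Finite F] {B : GL (Fin 5) F} (h : Ov (cb ρ B)) : Ov ρ :=
  Ov.of_comp (Φ := cb (MonoidHom.id _) B)
    (Finite.injective_iff_bijective.1 (cb_injective Function.injective_id B)) h

theorem Ov.of_bc {K : Type*} [Field K] {f : F ≃+* K} (h : Ov (bc ρ (f : F →+* K))) : Ov ρ :=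
  Ov.of_comp (Φ := (Classical.slMapEquiv f).toMonoidHom) (Classical.slMapEquiv f).bijective h

/-- the companion matrix -/
def cm (c : V5 F) : M5 F :=
  !![0, 0, 0, 0, c 0; 1, 0, 0, 0, c 1; 0, 1, 0, 0, c 2; 0, 0, 1, 0, c 3; 0, 0, 0, 1, c 4]

/-- the first basis vector -/
def e0 (F : Type*) [Field F] : V5 F := ![1, 0, 0, 0, 0]

theorem exists_basis (h : Abs ρ) {u : G} {v : V5 F} (hv : v ≠ 0)
    (hg : ∀ g, ∃ i : ℕ, mt ρ g *ᵥ v = mt ρ (u ^ i) *ᵥ v) :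
    ∃ (B : GL (Fin 5) F) (c : V5 F), (B : M5 F) *ᵥ e0 F = v ∧ mt (cb ρ B) u = cm c := by
  let B : M5 F := of fun i j => (mt ρ u ^ (j : ℕ) *ᵥ v) i
  have hB : B.det ≠ 0 := fun e => by
    obtain ⟨φ, hφ0, hφ⟩ := exists_vecMul_eq_zero_iff.2 e
    obtain ⟨g, hg'⟩ := h.exists_dot_ne hv hφ0
    obtain ⟨i, hi⟩ := hg g
    refine hg' ?_
    have hd : (Polynomial.X ^ i %ₘ (mt ρ u).charpoly).natDegree < 5 := by
      have := Polynomial.natDegree_modByMonic_lt (Polynomial.X ^ i) (mt ρ u).charpoly_monic fun e => by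
        have := (mt ρ u).charpoly_natDegree_eq_dim
        rw [e] at this
        simp at this
      rwa [charpoly_natDegree_eq_dim, Fintype.card_fin] at this
    rw [hi, mt_pow, pow_eq_aeval_mod_charpoly, Polynomial.aeval_eq_sum_range' hd, sum_mulVec, dotProduct_sum]
    refine Finset.sum_eq_zero fun j hj => ?_
    rw [smul_mulVec, dotProduct_smul, show φ ⬝ᵥ (mt ρ u ^ j *ᵥ v) = 0 from
      congrFun hφ ⟨j, Finset.mem_range.1 hj⟩, smul_zero]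
  let B' := GeneralLinearGroup.mkOfDetNeZero B hB
  obtain ⟨c, hc⟩ : ∃ c, B *ᵥ c = mt ρ u ^ 5 *ᵥ v :=
    ⟨((B'⁻¹ : GL (Fin 5) F) : M5 F) *ᵥ (mt ρ u ^ 5 *ᵥ v), by
      rw [mulVec_mulVec, show B * _ = 1 from B'.mul_inv, one_mulVec]⟩
  refine ⟨B', c, ?_, ?_⟩
  · ext i
    have : (B *ᵥ e0 F) i = B i 0 := by simp [e0, mulVec, dotProduct, Fin.sum_univ_five]
    exact this.trans (congrFun (show mt ρ u ^ 0 *ᵥ v = v by rw [pow_zero, one_mulVec]) i)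
  · have e : mt ρ u * B = B * cm c := by
      ext i j
      have h1 : (mt ρ u * B) i j = (mt ρ u ^ ((j : ℕ) + 1) *ᵥ v) i := by
        rw [pow_succ', ← mulVec_mulVec]; rfl
      have h2 := congrFun hc i
      rw [h1]
      fin_cases j
      exacts [by simp [B, cm, mul_apply, Fin.sum_univ_five], by simp [B, cm, mul_apply, Fin.sum_univ_five],
        by simp [B, cm, mul_apply, Fin.sum_univ_five], by simp [B, cm, mul_apply, Fin.sum_univ_five],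
        h2.symm.trans (by simp [cm, mul_apply, mulVec, dotProduct, Fin.sum_univ_five])]
    rw [mt_cb, Matrix.mul_assoc, show mt ρ u * (B' : M5 F) = B' * cm c from e, ← Matrix.mul_assoc,
      Units.inv_mul, Matrix.one_mul]

abbrev Z := ZMod 3

theorem two_cases : ∀ a b c d e : Z, (fun w => cm ![a, b, c, d, e] *ᵥ w)^[11] (e0 Z) = e0 Z →
    ![a, b, c, d, e] = ![1, 0, 2, 1, 2] ∨ ![a, b, c, d, e] = ![1, 1, 2, 1, 0] := by
  decide +kernel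

/-- the data of the ternary Golay code -/
def Dat (C : M5 Z) (L : List (V5 Z)) (c : S5 Z) : Prop :=
  e0 Z ∈ L ∧ (∀ w ∈ L, C *ᵥ w ∈ L) ∧ (∀ w ∈ L, ∃ i < 11, w = (fun w => C *ᵥ w)^[i] (e0 Z)) ∧
    (∀ w ∈ L, c.1 *ᵥ w ∈ L ∨ -(c.1 *ᵥ w) ∈ L) ∧ c.1 *ᵥ e0 Z ∉ L ∧ ![1, 1, 0, 0, 0] ∉ L ∧
    -![1, 1, 0, 0, 0] ∉ L

def c1 : S5 Z := ⟨!![2, 0, 0, 0, 0; 0, 0, 2, 0, 0; 0, 0, 0, 2, 0; 0, 0, 0, 0, 1; 0, 1, 0, 0, 0], by
  decide +kernel⟩

def c2 : S5 Z := ⟨!![2, 0, 0, 0, 0; 0, 0, 0, 2, 0; 0, 0, 0, 0, 1; 0, 0, 2, 0, 0; 0, 1, 0, 0, 0], by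
  decide +kernel⟩

theorem dat1 : Dat (cm ![1, 0, 2, 1, 2]) [![1, 0, 0, 0, 0], ![0, 1, 0, 0, 0], ![0, 0, 1, 0, 0], ![0, 0, 0, 1, 0],
    ![0, 0, 0, 0, 1], ![1, 0, 2, 1, 2], ![2, 1, 1, 1, 2], ![2, 2, 2, 0, 2], ![2, 2, 0, 1, 1], ![1, 2, 1, 1, 0],
    ![0, 1, 2, 1, 1]] c1 := by
  refine ⟨?_, ?_, ?_, ?_, ?_, ?_, ?_⟩ <;> decide +kernel

theorem dat2 : Dat (cm ![1, 1, 2, 1, 0]) [![1, 0, 0, 0, 0], ![0, 1, 0, 0, 0], ![0, 0, 1, 0, 0], ![0, 0, 0, 1, 0],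
    ![0, 0, 0, 0, 1], ![1, 1, 2, 1, 0], ![0, 1, 1, 2, 1], ![1, 1, 0, 2, 2], ![2, 0, 2, 2, 2], ![2, 1, 1, 1, 2],
    ![2, 1, 2, 0, 1]] c2 := by
  refine ⟨?_, ?_, ?_, ?_, ?_, ?_, ?_⟩ <;> decide +kernel

theorem iter (C : M5 F) (v : V5 F) (i : ℕ) : (fun w => C *ᵥ w)^[i] v = C ^ i *ᵥ v := by
  induction i with
  | zero => simp
  | succ i ih => rw [Function.iterate_succ_apply', ih, mulVec_mulVec, pow_succ']

theorem tv_e0 : (SpecialLinearGroup.transvection (show (1 : Fin 5) ≠ 0 by decide) (1 : Z)).1 *ᵥ e0 Z =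
    ![1, 1, 0, 0, 0] := by
  decide +kernel

open scoped Pointwise in
theorem ov_of_dat {ρ : G →* S5 Z} {u : G} {L : List (V5 Z)} {c : S5 Z} (h : Dat (mt ρ u) L c)
    (hg : ∀ g, ∃ i : ℕ, mt ρ g *ᵥ e0 Z = mt ρ (u ^ i) *ᵥ e0 Z) : Ov ρ := by
  obtain ⟨h0, h1, h2, h3, h4, h5, h6⟩ := h
  have hL : ∀ g, mt ρ g *ᵥ e0 Z ∈ L := fun g => by
    obtain ⟨i, hi⟩ := hg g
    rw [hi, mt_pow]
    clear hi
    induction i with
    | zero => rwa [pow_zero, one_mulVec]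
    | succ i ih => rw [pow_succ', ← mulVec_mulVec]; exact h1 _ ih
  let Ω : Set (V5 Z) := {w | w ∈ L ∨ -w ∈ L}
  have hM : ∀ x : S5 Z, x ∈ MulAction.stabilizer (S5 Z) Ω ↔ ∀ w ∈ Ω, x.1 *ᵥ w ∈ Ω := fun x =>
    MulAction.mem_stabilizer_set' (Set.toFinite Ω)
  have key : ∀ x : S5 Z, (∀ w ∈ L, x.1 *ᵥ w ∈ Ω) → x ∈ MulAction.stabilizer (S5 Z) Ω := fun x hx =>
    (hM x).2 fun w hw => hw.elim (hx w) fun hw => by
      have := hx _ hw
      rw [mulVec_neg] at this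
      exact this.symm.imp (fun h => by rwa [neg_neg] at h) id
  refine ⟨MulAction.stabilizer (S5 Z) Ω, lt_of_le_of_ne ?_ fun e => ?_, fun e => ?_⟩
  · rintro _ ⟨g, rfl⟩
    refine key _ fun w hw => Or.inl ?_
    obtain ⟨i, -, rfl⟩ := h2 w hw
    have := hL (g * u ^ i)
    rwa [mt_mul, mt_pow, ← mulVec_mulVec, ← iter] at this
  · obtain ⟨g, rfl⟩ : c ∈ ρ.range := e ▸ key c h3
    exact h4 (hL g)
  · have := (hM _).1 (e ▸ mem_top (SpecialLinearGroup.transvection (show (1 : Fin 5) ≠ 0 by decide) (1 : Z)))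
      _ (Or.inl h0)
    rw [tv_e0] at this
    exact this.elim h5 h6

theorem ov_zmod {ρ : G →* S5 Z} (h : Abs ρ) {u : G} {v : V5 Z} (hu : u ^ 11 = 1) (hv : v ≠ 0)
    (hg : ∀ g, ∃ i : ℕ, mt ρ g *ᵥ v = mt ρ (u ^ i) *ᵥ v) : Ov ρ := by
  obtain ⟨B, c, rfl, hc⟩ := exists_basis h hv hg
  have hg' : ∀ g, ∃ i : ℕ, mt (cb ρ B) g *ᵥ e0 Z = mt (cb ρ B) (u ^ i) *ᵥ e0 Z := fun g =>
    (hg g).imp fun i hi => by simp only [mt_cb, ← mulVec_mulVec, hi]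
  have ec : c = ![c 0, c 1, c 2, c 3, c 4] := by ext i; fin_cases i <;> rfl
  have h1 := two_cases (c 0) (c 1) (c 2) (c 3) (c 4) (by
    rw [← ec, ← hc, iter, ← mt_pow, hu, mt_one, one_mulVec])
  rw [← ec] at h1
  rcases h1 with rfl | rfl
  · exact (ov_of_dat (hc ▸ dat1) hg').of_cb
  · exact (ov_of_dat (hc ▸ dat2) hg').of_cb

end W3

/-- the stabiliser of the 22 vectors `± u ^ i v` -/
theorem exists_over [Fintype F] (hF : Fintype.card F = 3) (h : Abs ρ) {u : G} {v : V5 F}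
    (hu : orderOf u = 11) (hv : v ≠ 0) (hg : ∀ g, ∃ i : ℕ, mt ρ g *ᵥ v = mt ρ (u ^ i) *ᵥ v) :
    ∃ M : Subgroup (S5 F), ρ.range < M ∧ M ≠ ⊤ := by
  let f : F ≃+* ZMod 3 := FiniteField.ringEquivOfCardEq (hF.trans (ZMod.card 3).symm)
  have e : ∀ g, mt (bc ρ (f : F →+* ZMod 3)) g *ᵥ ((f : F →+* ZMod 3) ∘ v) =
      (f : F →+* ZMod 3) ∘ (mt ρ g *ᵥ v) := fun g => funext fun i => (RingHom.map_mulVec _ _ _ i).symm
  refine W3.Ov.of_bc (f := f) (W3.ov_zmod (h.bc _) (u := u) (v := (f : F →+* ZMod 3) ∘ v)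
    (hu ▸ pow_orderOf_eq_one u) (fun e => hv (funext fun i => ?_)) fun g => (hg g).imp fun i hi => ?_)
  · exact f.injective ((congrFun e i).trans (map_zero f).symm)
  · rw [e, e, hi]

theorem not_max_eleven [Fintype F] (hF : Fintype.card F = 3) {H P : Subgroup (GL (Fin 5) F)}
    (hH : IsMaximalIn (specialLinear (Fin 5) F) H) (hP : IsResidualCore H P)
    (e : P ≃* PSL(2, ZMod 11)) : False := by
  have : CharP F 3 := charP_of_card_eq_prime hF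
  obtain rfl := eq_of_core hF hH.1.le hP e
  have hy := hy_of_core hP hH.1.le
  obtain ⟨u, v, hu, hv, hg⟩ := exists_eleven hy e
  obtain ⟨M, h1, h2⟩ : W3.Ov (ofSub hH.1.le) :=
    hg.elim (exists_over hF hy.abs hu hv) fun hg => W3.Ov.of_dual (exists_over hF hy.abs.dual hu hv hg)
  have hi : Function.Injective (SpecialLinearGroup.toGL : S5 F →* GL (Fin 5) F) :=
    SpecialLinearGroup.toGL_injective
  have e1 : (ofSub hH.1.le).range.map SpecialLinearGroup.toGL = H := by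
    ext x
    constructor
    · rintro ⟨_, ⟨g, rfl⟩, rfl⟩
      rw [show SpecialLinearGroup.toGL (ofSub hH.1.le g) = g.1 from Units.ext rfl]
      exact g.2
    · exact fun hx => ⟨_, ⟨⟨x, hx⟩, rfl⟩, Units.ext rfl⟩
  have e2 : (⊤ : Subgroup (S5 F)).map SpecialLinearGroup.toGL = specialLinear (Fin 5) F := by
    ext x
    constructor
    · rintro ⟨g, -, rfl⟩
      exact mem_SL.2 g.2
    · exact fun hx => ⟨⟨x, mem_SL.1 hx⟩, mem_top _, Units.ext rfl⟩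
  rcases hH.2 (M.map SpecialLinearGroup.toGL) (e1 ▸ map_mono h1.le) (e2 ▸ map_mono le_top) with h | h
  · exact h1.ne' (map_injective hi (h.trans e1.symm))
  · exact h2 (map_injective hi (h.trans e2.symm))

end CfsgLib.D5
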