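import Cfsg.Agent.Lib.D5.Defs

/-!
TVA: the calculus of transvections in characteristic two.  See `plans/D5.md`.
-/

set_option autoImplicit false

namespace CfsgLib.D5

open Matrix Cfsg Cfsg.Geo CfsgLib.Asch Subgroup
open scoped MatrixGroups

variable {G F : Type*} [Group G] [Field F] {ρ : G →* S5 F}

theorem Tv.ax {d : G} {v φ : V5 F} (h : Tv ρ d v φ) : Ax ρ v φ := ⟨h.dot, d, h.eq⟩

theorem Ax.tv {v φ : V5 F} (h : Ax ρ v φ) (hv : v ≠ 0) (hφ : φ ≠ 0) : ∃ d, Tv ρ d v φ :=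
  let ⟨h0, d, hd⟩ := h; ⟨d, ⟨hd, hv, hφ⟩, h0⟩

theorem ax_zero (v : V5 F) : Ax ρ v 0 :=
  ⟨zero_dotProduct _, 1, by rw [mt_one, vecMulVec_zero, add_zero]⟩

theorem tva_mul (v φ w ψ : V5 F) : (1 + vecMulVec v φ) * (1 + vecMulVec w ψ) =
    1 + vecMulVec v φ + vecMulVec w ψ + vecMulVec v ((φ ⬝ᵥ w) • ψ) := by
  rw [mul_add, mul_one, add_mul, one_mul, vecMulVec_mul_vecMulVec, add_assoc (1 + _)]

theorem Ax.add {v φ θ : V5 F} (h : Ax ρ v φ) (h' : Ax ρ v θ) : Ax ρ v (φ + θ) := by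
  obtain ⟨h0, d, hd⟩ := h
  obtain ⟨h1, e, he⟩ := h'
  exact ⟨by rw [add_dotProduct, h0, h1, add_zero], d * e, by
    rw [mt_mul, hd, he, tva_mul, h0, zero_smul, vecMulVec_zero, add_zero, vecMulVec_add,
      add_assoc]⟩

theorem Ax.add_left {v w φ : V5 F} (h : Ax ρ v φ) (h' : Ax ρ w φ) : Ax ρ (v + w) φ := by
  obtain ⟨h0, d, hd⟩ := h
  obtain ⟨h1, e, he⟩ := h'
  exact ⟨by rw [dotProduct_add, h0, h1, add_zero], d * e, by
    rw [mt_mul, hd, he, tva_mul, h1, zero_smul, vecMulVec_zero, add_zero, add_vecMulVec,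
      add_assoc]⟩

theorem ax_smul {v φ : V5 F} (c : F) : Ax ρ (c • v) φ ↔ Ax ρ v (c • φ) := by
  simp only [Ax, dotProduct_smul, smul_dotProduct, smul_vecMulVec, vecMulVec_smul]

theorem Ax.conj {v φ : V5 F} (h : Ax ρ v φ) (g : G) : Ax ρ (mt ρ g *ᵥ v) (φ ᵥ* mt ρ g⁻¹) := by
  obtain ⟨h0, d, hd⟩ := h
  exact ⟨by rw [dot_conj, h0], g * d * g⁻¹, by
    rw [mt_mul, mt_mul, hd, mul_add, add_mul, mul_one, mt_mul_inv, mul_vecMulVec, vecMulVec_mul]⟩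

theorem Tv.smul {d : G} {v φ : V5 F} (h : Tv ρ d v φ) {c : F} (hc : c ≠ 0) :
    Tv ρ d (c • v) (c⁻¹ • φ) :=
  ⟨⟨by rw [h.eq, smul_vecMulVec, vecMulVec_smul, smul_smul, mul_inv_cancel₀ hc, one_smul],
    smul_ne_zero hc h.v_ne, smul_ne_zero (inv_ne_zero hc) h.φ_ne⟩, by
    rw [dotProduct_smul, smul_dotProduct, h.dot, smul_zero, smul_zero]⟩

theorem Tv.uniq {d : G} {v φ w ψ : V5 F} (h : Tv ρ d v φ) (h' : Tv ρ d w ψ) :
    ∃ c : F, c ≠ 0 ∧ w = c • v ∧ ψ = c⁻¹ • φ := by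
  have e : vecMulVec v φ = vecMulVec w ψ := add_left_cancel (h.eq.symm.trans h'.eq)
  have e' : ∀ i j, v i * φ j = w i * ψ j := fun i j => congrFun (congrFun e i) j
  obtain ⟨j, hj⟩ := Function.ne_iff.1 h'.φ_ne
  obtain ⟨i, hi⟩ := Function.ne_iff.1 h.v_ne
  have hj' : ψ j ≠ 0 := hj
  have hi' : v i ≠ 0 := hi
  have hw : w = (φ j / ψ j) • v := funext fun k => by
    rw [Pi.smul_apply, smul_eq_mul, div_mul_eq_mul_div, eq_div_iff hj', ← e', mul_comm]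
  have hc : φ j / ψ j ≠ 0 := fun h0 => h'.v_ne (by rw [hw, h0, zero_smul])
  refine ⟨_, hc, hw, funext fun k => ?_⟩
  have := e' i k
  rw [hw, Pi.smul_apply, smul_eq_mul] at this
  rw [Pi.smul_apply, smul_eq_mul, eq_inv_mul_iff_mul_eq₀ hc]
  exact mul_left_cancel₀ hi' (by rw [this]; ring)

theorem tva_mulVec {d : G} {v φ : V5 F} (h : mt ρ d = 1 + vecMulVec v φ) (x : V5 F) :
    mt ρ d *ᵥ x = x + (φ ⬝ᵥ x) • v := by
  rw [h, add_mulVec, one_mulVec, vecMulVec_mulVec, op_smul_eq_smul]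

theorem tva_vecMul {d : G} {v φ : V5 F} (h : mt ρ d = 1 + vecMulVec v φ) (θ : V5 F) :
    θ ᵥ* mt ρ d = θ + (θ ⬝ᵥ v) • φ := by
  rw [h, vecMul_add, vecMul_one, vecMul_vecMulVec]

theorem Tv.mulVec {d : G} {v φ : V5 F} (h : Tv ρ d v φ) (x : V5 F) :
    mt ρ d *ᵥ x = x + (φ ⬝ᵥ x) • v :=
  tva_mulVec h.eq x

theorem Tv.vecMul {d : G} {v φ : V5 F} (h : Tv ρ d v φ) (θ : V5 F) :
    θ ᵥ* mt ρ d = θ + (θ ⬝ᵥ v) • φ :=
  tva_vecMul h.eq θ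

theorem Tv.cb {d : G} {v φ : V5 F} (h : Tv ρ d v φ) (B : GL (Fin 5) F) :
    Tv (cb ρ B) d (((B⁻¹ : GL (Fin 5) F) : M5 F) *ᵥ v) (φ ᵥ* (B : M5 F)) := by
  refine ⟨⟨?_, fun e => h.v_ne ?_, fun e => h.φ_ne ?_⟩, ?_⟩
  · rw [mt_cb, h.eq, mul_add, add_mul, mul_one, Units.inv_mul, mul_vecMulVec, vecMulVec_mul]
  · rw [← one_mulVec v, ← Units.mul_inv B, ← mulVec_mulVec, e, mulVec_zero]
  · rw [← vecMul_one φ, ← Units.mul_inv B, ← vecMul_vecMul, e, zero_vecMul]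
  · rw [← dotProduct_mulVec, mulVec_mulVec, Units.mul_inv, one_mulVec, h.dot]

theorem isTv_cb (B : GL (Fin 5) F) {d : G} : IsTv (cb ρ B) d ↔ IsTv ρ d :=
  ⟨fun ⟨_, _, h⟩ => by
      have := h.cb B⁻¹; rw [cb_cb, mul_inv_cancel, cb_one] at this; exact ⟨_, _, this⟩,
    fun ⟨_, _, h⟩ => ⟨_, _, h.cb B⟩⟩

theorem isTv_bc {K : Type*} [Field K] (f : F →+* K) {d : G} : IsTv (bc ρ f) d ↔ IsTv ρ d := by
  constructor
  · rintro ⟨v, φ, h⟩
    have e : ∀ i j, f ((mt ρ d - 1) i j) = v i * φ j := fun i j => by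
      have := congrFun (congrFun h.eq i) j
      rw [mt_bc, map_apply, Matrix.add_apply, vecMulVec_apply] at this
      rw [Matrix.sub_apply, map_sub, this, Matrix.one_apply, Matrix.one_apply, apply_ite f,
        map_one, map_zero]
      ring
    obtain ⟨j₀, hj⟩ := Function.ne_iff.1 h.φ_ne
    obtain ⟨i₀, hi⟩ := Function.ne_iff.1 h.v_ne
    have hj' : φ j₀ ≠ 0 := hj
    have hi' : v i₀ ≠ 0 := hi
    set N := mt ρ d - 1 with hN
    have h0 : N i₀ j₀ ≠ 0 := fun h0 => mul_ne_zero hi' hj' (by rw [← e, h0, map_zero])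
    refine ⟨fun i => N i j₀, fun j => N i₀ j / N i₀ j₀, ⟨?_, fun h1 => h0 (congrFun h1 i₀),
      fun h1 => ?_⟩, f.injective ?_⟩
    · rw [← sub_eq_iff_eq_add', ← hN]
      ext i j
      refine f.injective ?_
      rw [vecMulVec_apply, map_mul, map_div₀, e, e, e, e]
      field_simp
    · have := congrFun h1 j₀
      rw [Pi.zero_apply, div_self h0] at this
      exact one_ne_zero this
    · rw [map_zero, ← h.dot, dotProduct, dotProduct, map_sum]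
      refine Finset.sum_congr rfl fun j _ => ?_
      rw [map_mul, map_div₀, e, e, e]
      field_simp
  · rintro ⟨v, φ, h⟩
    refine ⟨f ∘ v, f ∘ φ, ⟨?_, fun e => h.v_ne (funext fun i => f.injective ?_),
      fun e => h.φ_ne (funext fun i => f.injective ?_)⟩, ?_⟩
    · rw [mt_bc, h.eq]
      ext i j
      simp [vecMulVec_apply, one_apply, apply_ite f]
    · simpa using congrFun e i
    · simpa using congrFun e i
    · rw [← f.map_dotProduct, h.dot, map_zero]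

theorem tva_rm_bc {K : Type*} [Field K] (f : F →+* K) (a : G) :
    rm (bc ρ f) 1 a = (rm ρ 1 a).map f := by
  ext i j
  simp [rm, mt_bc, one_apply, apply_ite f]

theorem X2_bc {K : Type*} [Field K] (f : F →+* K) (a b : G) :
    X2 (bc ρ f) 1 a b = f (X2 ρ 1 a b) := by
  rw [X2, X2, tva_rm_bc, tva_rm_bc, ← Matrix.map_mul, AddMonoidHom.map_trace f]

theorem Y3_bc {K : Type*} [Field K] (f : F →+* K) (a b c : G) :
    Y3 (bc ρ f) 1 a b c = f (Y3 ρ 1 a b c) := by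
  rw [Y3, Y3, tva_rm_bc, tva_rm_bc, tva_rm_bc, ← Matrix.map_mul, ← Matrix.map_mul,
    AddMonoidHom.map_trace f]

theorem tva_rm_cb (B : GL (Fin 5) F) (ε : F) (a : G) :
    rm (cb ρ B) ε a = ((B⁻¹ : GL (Fin 5) F) : M5 F) * rm ρ ε a * B := by
  rw [rm, rm, mt_cb, mul_sub, sub_mul, mul_one, Units.inv_mul, mul_smul_comm, smul_mul_assoc]

theorem tva_X2_cb (B : GL (Fin 5) F) (ε : F) (a b : G) : X2 (cb ρ B) ε a b = X2 ρ ε a b := by
  rw [X2, X2, tva_rm_cb, tva_rm_cb, ← Matrix.mul_assoc, trace_mul_comm]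
  simp only [Matrix.mul_assoc, Units.mul_inv_cancel_left]

theorem tva_Y3_cb (B : GL (Fin 5) F) (ε : F) (a b c : G) :
    Y3 (cb ρ B) ε a b c = Y3 ρ ε a b c := by
  rw [Y3, Y3, tva_rm_cb, tva_rm_cb, tva_rm_cb, ← Matrix.mul_assoc, trace_mul_comm]
  simp only [Matrix.mul_assoc, Units.mul_inv_cancel_left]

theorem asym_cb (B : GL (Fin 5) F) : Asym (cb ρ B) ↔ Asym ρ := by
  simp only [Asym, isTv_cb, tva_Y3_cb]

theorem Ax.cb {v φ : V5 F} (h : Ax ρ v φ) (B : GL (Fin 5) F) :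
    Ax (cb ρ B) (((B⁻¹ : GL (Fin 5) F) : M5 F) *ᵥ v) (φ ᵥ* (B : M5 F)) := by
  obtain ⟨h0, d, hd⟩ := h
  refine ⟨?_, d, ?_⟩
  · rw [← dotProduct_mulVec, mulVec_mulVec, Units.mul_inv, one_mulVec, h0]
  · rw [mt_cb, hd, mul_add, add_mul, mul_one, Units.inv_mul, mul_vecMulVec, vecMulVec_mul]

theorem Over.cb {K : Subfield F} (h : Over ρ K) (B : GL (Fin 5) F) : Over (cb ρ B) K := by
  have back : ∀ {d v φ}, Tv (D5.cb ρ B) d v φ →
      Tv ρ d ((B : M5 F) *ᵥ v) (φ ᵥ* ((B⁻¹ : GL (Fin 5) F) : M5 F)) := fun h => by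
    have := h.cb B⁻¹
    rwa [cb_cb, mul_inv_cancel, cb_one, inv_inv] at this
  have dot : ∀ v φ : V5 F,
      (φ ᵥ* ((B⁻¹ : GL (Fin 5) F) : M5 F)) ⬝ᵥ ((B : M5 F) *ᵥ v) = φ ⬝ᵥ v := fun v φ => by
    rw [← dotProduct_mulVec, mulVec_mulVec, Units.inv_mul, one_mulVec]
  refine ⟨fun d v φ c hd => ?_, fun d e v φ w ψ hd he => ?_⟩
  · rw [← h.root _ _ _ c (back hd), ← smul_vecMul]
    constructor
    · intro h1
      have := h1.cb B⁻¹
      rwa [cb_cb, mul_inv_cancel, cb_one, inv_inv] at this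
    · intro h1
      have := h1.cb B
      rwa [mulVec_mulVec, vecMul_vecMul, Units.inv_mul, one_mulVec, vecMul_one] at this
  · have := h.pair _ _ _ _ _ _ (back hd) (back he)
    rwa [dot, dot] at this

variable [CharP F 2]

theorem tva_add_self (v : V5 F) : v + v = 0 :=
  funext fun i => CharTwo.add_self_eq_zero (v i)

theorem tva_add_eq_zero {v w : V5 F} (h : v + w = 0) : w = v := by
  rw [← add_zero w, ← h, add_comm v, ← add_assoc, tva_add_self, zero_add]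

theorem tva_sq {v φ : V5 F} (h0 : φ ⬝ᵥ v = 0) :
    (1 + vecMulVec v φ) * (1 + vecMulVec v φ) = (1 : M5 F) := by
  rw [tva_mul, h0, zero_smul, vecMulVec_zero, add_zero, add_assoc, ← add_vecMulVec, tva_add_self,
    zero_vecMulVec, add_zero]

theorem tva_inv {d : G} {v φ : V5 F} (h : mt ρ d = 1 + vecMulVec v φ) (h0 : φ ⬝ᵥ v = 0) :
    mt ρ d⁻¹ = mt ρ d := by
  rw [← mul_one (mt ρ d⁻¹), ← tva_sq h0, ← h, ← Matrix.mul_assoc, mt_inv_mul, one_mul]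

theorem Tv.mt_inv {d : G} {v φ : V5 F} (h : Tv ρ d v φ) : mt ρ d⁻¹ = mt ρ d :=
  tva_inv h.eq h.dot

theorem Tv.rm {d : G} {v φ : V5 F} (h : Tv ρ d v φ) : rm ρ 1 d = vecMulVec v φ := by
  rw [D5.rm, h.eq, one_smul, sub_add_cancel_left, ← neg_vecMulVec,
    neg_eq_of_add_eq_zero_left (tva_add_self v)]

theorem X2_tv {a b : G} {v φ w ψ : V5 F} (ha : Tv ρ a v φ) (hb : Tv ρ b w ψ) :
    X2 ρ 1 a b = (φ ⬝ᵥ w) * (ψ ⬝ᵥ v) := by
  rw [X2, ha.rm, hb.rm, vecMulVec_mul_vecMulVec, trace_vecMulVec, dotProduct_smul, smul_eq_mul,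
    dotProduct_comm v]

theorem Y3_tv {a b c : G} {v φ w ψ u χ : V5 F} (ha : Tv ρ a v φ) (hb : Tv ρ b w ψ)
    (hc : Tv ρ c u χ) : Y3 ρ 1 a b c = (φ ⬝ᵥ w) * (ψ ⬝ᵥ u) * (χ ⬝ᵥ v) := by
  rw [Y3, ha.rm, hb.rm, hc.rm, vecMulVec_mul_vecMulVec, vecMulVec_mul_vecMulVec, trace_vecMulVec,
    dotProduct_smul, smul_dotProduct, smul_eq_mul, smul_eq_mul, dotProduct_comm v]

theorem Tv.cj {a b : G} {v φ w ψ : V5 F} (ha : Tv ρ a v φ) (hb : Tv ρ b w ψ) :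
    Tv ρ (b * a * b⁻¹) (v + (ψ ⬝ᵥ v) • w) (φ + (φ ⬝ᵥ w) • ψ) := by
  have := ha.conj b
  rwa [hb.mt_inv, hb.mulVec, hb.vecMul] at this

theorem Ax.cj {v φ w ψ : V5 F} (h : Ax ρ v φ) (h' : Ax ρ w ψ) :
    Ax ρ (v + (ψ ⬝ᵥ v) • w) (φ + (φ ⬝ᵥ w) • ψ) := by
  obtain ⟨h0, b, hb⟩ := h'
  have := h.conj b
  rwa [tva_inv hb h0, tva_mulVec hb, tva_vecMul hb] at this

theorem Ax.nil {v φ w ψ : V5 F} (h : Ax ρ v φ) (h' : Ax ρ w ψ) (h0 : φ ⬝ᵥ w = 0) :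
    Ax ρ w ((ψ ⬝ᵥ v) • φ) := by
  have h1 := h.cj h'
  rw [h0, zero_smul, add_zero] at h1
  have h2 := h.add_left h1
  rwa [← add_assoc, tva_add_self, zero_add, ax_smul] at h2

theorem tva_dual {d : G} {v φ : V5 F} (h0 : φ ⬝ᵥ v = 0) :
    mt (dual ρ) d = 1 + vecMulVec φ v ↔ mt ρ d = 1 + vecMulVec v φ := by
  have e : (1 : M5 F) + vecMulVec φ v = (1 + vecMulVec v φ)ᵀ := by
    rw [transpose_add, transpose_one, transpose_vecMulVec]
  rw [mt_dual, e, transpose_inj]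
  exact ⟨fun h => by rw [← h, ← tva_inv h h0, inv_inv], fun h => by rw [tva_inv h h0, h]⟩

theorem tv_dual {d : G} {v φ : V5 F} : Tv (dual ρ) d φ v ↔ Tv ρ d v φ :=
  ⟨fun h => ⟨⟨(tva_dual ((dotProduct_comm _ _).trans h.dot)).1 h.eq, h.φ_ne, h.v_ne⟩,
      (dotProduct_comm _ _).trans h.dot⟩,
    fun h => ⟨⟨(tva_dual h.dot).2 h.eq, h.φ_ne, h.v_ne⟩, (dotProduct_comm _ _).trans h.dot⟩⟩

theorem ax_dual {v φ : V5 F} : Ax (dual ρ) φ v ↔ Ax ρ v φ :=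
  ⟨fun ⟨h0, d, h⟩ => ⟨(dotProduct_comm _ _).trans h0, d,
      (tva_dual ((dotProduct_comm _ _).trans h0)).1 h⟩,
    fun ⟨h0, d, h⟩ => ⟨(dotProduct_comm _ _).trans h0, d, (tva_dual h0).2 h⟩⟩

theorem isTv_dual {d : G} : IsTv (dual ρ) d ↔ IsTv ρ d :=
  ⟨fun ⟨_, _, h⟩ => ⟨_, _, tv_dual.1 h⟩, fun ⟨_, _, h⟩ => ⟨_, _, tv_dual.2 h⟩⟩

theorem Small.dual (h : Small ρ) : Small (dual ρ) := fun d φ v c hd h' =>
  h d v φ c (tv_dual.1 hd) ((ax_smul c).1 (ax_dual.1 h'))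

theorem noNil_dual : NoNil (dual ρ) ↔ NoNil ρ :=
  ⟨fun h d e v φ w ψ hd he h0 => (dotProduct_comm _ _).trans
      (h e d ψ w φ v (tv_dual.2 he) (tv_dual.2 hd) ((dotProduct_comm _ _).trans h0)),
    fun h d e v φ w ψ hd he h0 => (dotProduct_comm _ _).trans
      (h e d ψ w φ v (tv_dual.1 he) (tv_dual.1 hd) ((dotProduct_comm _ _).trans h0))⟩

theorem Over.dual {K : Subfield F} (h : Over ρ K) : Over (dual ρ) K := by
  refine ⟨fun d φ v c hd => ?_, fun d e φ v ψ w hd he => ?_⟩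
  · rw [ax_dual, ax_smul]
    exact h.root d v φ c (tv_dual.1 hd)
  · have := h.pair _ _ _ _ _ _ (tv_dual.1 hd) (tv_dual.1 he)
    rwa [mul_comm, dotProduct_comm ψ, dotProduct_comm φ] at this

theorem wide_of_nil (h : ¬ NoNil ρ) : Wide ρ ∧ Wide (dual ρ) := by
  simp only [NoNil, not_forall] at h
  obtain ⟨d, e, v, φ, w, ψ, hd, he, h0, h1⟩ := h
  have h2 := hd.ax.nil he.ax h0
  refine ⟨⟨e, w, ψ, _, he, h2, fun c hc => ?_⟩, d, φ, v, (ψ ⬝ᵥ v) • w, tv_dual.2 hd,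
    ax_dual.2 ((ax_smul _).2 h2), fun c hc => ?_⟩
  · have h3 := congrArg (· ⬝ᵥ v) hc
    simp only [smul_dotProduct, hd.dot, smul_eq_mul, mul_zero] at h3
    rw [(mul_eq_zero.1 h3.symm).resolve_right h1, zero_smul] at hc
    exact smul_ne_zero h1 hd.φ_ne hc
  · have h3 := congrArg (ψ ⬝ᵥ ·) hc
    simp only [dotProduct_smul, he.dot, smul_eq_mul, mul_zero] at h3
    rw [(mul_eq_zero.1 h3.symm).resolve_right h1, zero_smul] at hc
    exact smul_ne_zero h1 he.v_ne hc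

omit [CharP F 2] in
theorem tva_par {v w : V5 F} (hv : v ≠ 0) (h : ∀ i j, w i * v j = w j * v i) :
    ∃ c : F, w = c • v := by
  obtain ⟨j, hj⟩ := Function.ne_iff.1 hv
  have hj' : v j ≠ 0 := hj
  refine ⟨w j / v j, funext fun i => ?_⟩
  rw [Pi.smul_apply, smul_eq_mul, div_mul_eq_mul_div, eq_div_iff hj', h]

omit [CharP F 2] in
theorem tva_cen (h : Small ρ) (h1 : ¬ Wide ρ) {d : G} {v φ θ : V5 F} (hd : Tv ρ d v φ)
    (h' : Ax ρ v θ) : θ = 0 ∨ θ = φ := by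
  obtain ⟨c, rfl⟩ : ∃ c : F, θ = c • φ := by
    by_contra hn
    exact h1 ⟨d, v, φ, θ, hd, h', fun c hc => hn ⟨c, hc⟩⟩
  rcases h d v φ c hd h' with rfl | rfl
  · exact Or.inl (zero_smul _ _)
  · exact Or.inr (one_smul _ _)

theorem sm_of (h : Small ρ) (h1 : ¬ Wide ρ) (h2 : ¬ Wide (dual ρ)) : Sm ρ := by
  rintro d e ⟨v, φ, hd⟩ ⟨w, ψ, he⟩ ⟨u, χ, hu⟩
  have same : mt ρ e ≠ mt ρ d := fun h0 => by
    have h3 := hu.eq
    rw [mt_mul, h0, hd.eq, tva_sq hd.dot, left_eq_add] at h3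
    exact vecMulVec_ne_zero hu.v_ne hu.φ_ne h3
  have e1 : vecMulVec u χ = vecMulVec v (φ + (φ ⬝ᵥ w) • ψ) + vecMulVec w ψ := by
    have h3 := hu.eq
    rw [mt_mul, hd.eq, he.eq, tva_mul] at h3
    refine add_left_cancel (h3.symm.trans ?_)
    rw [vecMulVec_add]
    abel
  set θ := φ + (φ ⬝ᵥ w) • ψ with hθ
  have e2 : ∀ i k, u i * χ k = v i * θ k + w i * ψ k := fun i k => congrFun (congrFun e1 i) k
  have e3 : ∀ i j k l, (w i * v j - w j * v i) * (θ k * ψ l - θ l * ψ k) = 0 := fun i j k l => by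
    linear_combination (u i * χ k) * e2 j l + (v j * θ l + w j * ψ l) * e2 i k -
      (u i * χ l) * e2 j k - (v j * θ k + w j * ψ k) * e2 i l
  by_cases hp : ∀ i j, w i * v j = w j * v i
  · obtain ⟨c, hc⟩ := tva_par hd.v_ne hp
    have h4 : Ax ρ v (c • ψ) := (ax_smul c).1 (hc ▸ he.ax)
    have hc0 : c ≠ 0 := fun h0 => he.v_ne (by rw [hc, h0, zero_smul])
    rcases tva_cen h h1 hd h4 with h5 | h5
    · exact smul_ne_zero hc0 he.φ_ne h5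
    · exact same (by rw [he.eq, hd.eq, hc, ← h5, smul_vecMulVec, vecMulVec_smul])
  · push Not at hp
    obtain ⟨i, j, hij⟩ := hp
    obtain ⟨c, hc⟩ := tva_par he.φ_ne fun k l =>
      sub_eq_zero.1 ((mul_eq_zero.1 (e3 i j k l)).resolve_left (sub_ne_zero.2 hij))
    have hφ : φ = (c - φ ⬝ᵥ w) • ψ := by rw [sub_smul, ← hc, hθ, add_sub_cancel_right]
    generalize c - φ ⬝ᵥ w = c' at hφ
    have h4 : Ax (dual ρ) ψ (c' • v) := ax_dual.2 ((ax_smul c').2 (hφ ▸ hd.ax))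
    have hc0 : c' ≠ 0 := fun h0 => hd.φ_ne (by rw [hφ, h0, zero_smul])
    rcases tva_cen h.dual h2 (tv_dual.2 he) h4 with h5 | h5
    · exact smul_ne_zero hc0 hd.v_ne h5
    · exact same (by rw [he.eq, hd.eq, hφ, ← h5, smul_vecMulVec, vecMulVec_smul])

theorem Sm.cen (h : Sm ρ) {d : G} {v φ θ : V5 F} (hd : Tv ρ d v φ) (h' : Ax ρ v θ) :
    θ = 0 ∨ θ = φ := by
  by_contra hn
  push Not at hn
  obtain ⟨e, he⟩ := h'.tv hd.v_ne hn.1
  refine h d e ⟨_, _, hd⟩ ⟨_, _, he⟩ ⟨v, φ + θ, ⟨?_, hd.v_ne, fun h0 => hn.2 (tva_add_eq_zero h0)⟩,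
    by rw [add_dotProduct, hd.dot, he.dot, add_zero]⟩
  rw [mt_mul, hd.eq, he.eq, tva_mul, hd.dot, zero_smul, vecMulVec_zero, add_zero, vecMulVec_add,
    add_assoc]

theorem Sm.noNil (h : Sm ρ) : NoNil ρ := fun d e v φ w ψ hd he h0 => by
  by_contra h1
  rcases h.cen he (hd.ax.nil he.ax h0) with h2 | h2
  · exact smul_ne_zero h1 hd.φ_ne h2
  · have h3 := congrArg (· ⬝ᵥ v) h2
    simp only [smul_dotProduct, hd.dot, smul_zero] at h3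
    exact h1 h3.symm

theorem Sm.eq_of_cen (h : Sm ρ) {d : G} {v φ θ : V5 F} (hd : Tv ρ d v φ) (h' : Ax ρ v θ) :
    θ = 0 ∨ θ = φ :=
  h.cen hd h'

theorem Sm.eq_of_ax (h : Sm ρ) {d : G} {v φ w : V5 F} (hd : Tv ρ d v φ) (h' : Ax ρ w φ) :
    w = 0 ∨ w = v := by
  by_contra hn
  push Not at hn
  obtain ⟨e, he⟩ := h'.tv hn.1 hd.φ_ne
  refine h d e ⟨_, _, hd⟩ ⟨_, _, he⟩ ⟨v + w, φ, ⟨?_, fun h0 => hn.2 (tva_add_eq_zero h0), hd.φ_ne⟩,
    by rw [dotProduct_add, hd.dot, he.dot, add_zero]⟩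
  rw [mt_mul, hd.eq, he.eq, tva_mul, he.dot, zero_smul, vecMulVec_zero, add_zero, add_vecMulVec,
    add_assoc]

end CfsgLib.D5
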