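import Cfsg.Agent.Lib.D5.Defs
import Cfsg.Agent.S0215
import Cfsg.Agent.Lib.LS.Weight
import Cfsg.Agent.Lib.FT.OddOrder

/-!
US0: irreducible subgroups of `SL₃` generated by isolated involutions.  See `plans/D5.md`.
-/

set_option autoImplicit false

namespace CfsgLib.D5

open Matrix Cfsg Cfsg.Geo CfsgLib.Asch Subgroup
open scoped MatrixGroups

variable {G F : Type*} [Group G] [Field F] {ρ : G →* S5 F}

theorem us0_coord {ι V : Type*} [AddCommGroup V] [Module F V] (b : Module.Basis ι F V)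
    (T : Module.End F V) (l : ι → F) {j : ι} (h : ∀ i, T (b i) = l i • b i) {x : V} {μ : F}
    (hx : T x = μ • x) : (l j - μ) * b.repr x j = 0 := by
  classical
  have e : b.coord j ∘ₗ T = l j • b.coord j := b.ext fun i => by
    by_cases hi : i = j <;> simp [h, Finsupp.single_apply, hi]
  have := LinearMap.congr_fun e x
  simp only [LinearMap.comp_apply, hx, map_smul, Module.Basis.coord_apply, LinearMap.smul_apply,
    smul_eq_mul] at this
  rw [sub_mul, this, sub_self]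

theorem us0_cube {x y : Matrix (Fin 3) (Fin 3) F} (hx : x.det = 1) (hy : y.det = 1) {c : F}
    (h : x * y = c • (y * x)) : c ^ 3 = 1 := by
  have := congrArg det h
  rw [det_smul, det_mul, det_mul, hx, hy, Fintype.card_fin] at this
  simpa using this.symm

theorem us0_one {d x : Matrix (Fin 3) (Fin 3) F} (hd : d.det = 1) (hx : x.det = 1)
    (h2 : d * d = 1) {c : F} (h : d * x = c • (x * d)) : d * x = x * d := by
  have h3 := us0_cube hd hx h
  have e : (1 : F) • x = (c * c) • x := by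
    calc (1 : F) • x = d * (d * x) := by rw [← mul_assoc, h2, one_mul, one_smul]
      _ = c • (d * x * d) := by rw [mul_assoc, ← Matrix.mul_smul, ← h]
      _ = _ := by rw [h, smul_mul_assoc, smul_smul, mul_assoc, h2, mul_one]
  have h0 : x ≠ 0 := fun e => by simp [e] at hx
  rw [pow_three, ← smul_left_injective F h0 e, mul_one] at h3
  rw [h, h3, one_smul]

theorem us0_pow {g x : Matrix (Fin 3) (Fin 3) F} (hg : g.det = 1) (hx : x.det = 1) {c : F}
    (h : g * x = c • (x * g)) : g ^ 3 * x = x * g ^ 3 := by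
  have : ∀ n : ℕ, g ^ n * x = c ^ n • (x * g ^ n) := fun n => by
    induction n with
    | zero => simp
    | succ n ih =>
      rw [pow_succ', mul_assoc, ih, Matrix.mul_smul, ← mul_assoc, h, smul_mul_assoc, smul_smul,
        mul_assoc, pow_succ c]
  rw [this, us0_cube hg hx h, one_smul]

theorem us0_ext (b : Module.Basis (Fin 3) F (Fin 3 → F)) {x y : Matrix (Fin 3) (Fin 3) F}
    (h : ∀ i, x *ᵥ b i = y *ᵥ b i) : x = y :=
  toLin'.injective (b.ext fun i => by simpa using h i)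

/-- a Heisenberg pair -/
theorem us0_heis [IsAlgClosed F] {u w : Matrix (Fin 3) (Fin 3) F} (hu : u.det = 1)
    (hw : w.det = 1) {ω : F} (h : u * w = ω • (w * u)) (h1 : ω ≠ 1) :
    ∃ b : Module.Basis (Fin 3) F (Fin 3 → F), b 1 = w *ᵥ b 0 ∧ b 2 = w *ᵥ b 1 ∧
      ∀ g, g * u = u * g → ∀ i, ∃ c : F, g *ᵥ b i = c • b i := by
  have h3 := us0_cube hu hw h
  obtain ⟨l, hl⟩ := Module.End.exists_eigenvalue (toLin' u)
  obtain ⟨v, hv⟩ := hl.exists_hasEigenvector
  have inj : ∀ {x : Matrix (Fin 3) (Fin 3) F}, x.det = 1 → ∀ y, x *ᵥ y = 0 → y = 0 :=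
    fun hx y hy => eq_zero_of_mulVec_eq_zero (by rw [hx]; exact one_ne_zero) hy
  have step : ∀ {x m}, Module.End.HasEigenvector (toLin' u) m x →
      Module.End.HasEigenvector (toLin' u) (ω * m) (w *ᵥ x) := fun {x m} hx => by
    refine ⟨Module.End.mem_eigenspace_iff.2 ?_, fun e => hx.2 (inj hw _ e)⟩
    have := hx.apply_eq_smul
    rw [toLin'_apply] at this ⊢
    rw [mulVec_mulVec, h, smul_mulVec, ← mulVec_mulVec, this, mulVec_smul, smul_smul]
  have hl0 : l ≠ 0 := fun e => hv.2 (inj hu _ (by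
    have := hv.apply_eq_smul
    rwa [toLin'_apply, e, zero_smul] at this))
  have h0 : ω ≠ 0 := fun e => by simp [e] at h3
  have h2 : ω * ω ≠ 1 := fun e => h1 (by rw [← h3, pow_three, e, mul_one])
  have hi : Function.Injective ![l, ω * l, ω * (ω * l)] := by
    intro i j e
    fin_cases i <;> fin_cases j <;> simp [h0, hl0, h1, h2, ← mul_assoc] at e ⊢
  have he : ∀ i, Module.End.HasEigenvector (toLin' u) (![l, ω * l, ω * (ω * l)] i)
      (![v, w *ᵥ v, w *ᵥ (w *ᵥ v)] i) := fun i => by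
    fin_cases i
    exacts [hv, step hv, step (step hv)]
  let b := basisOfLinearIndependentOfCardEqFinrank
    (Module.End.eigenvectors_linearIndependent' _ _ hi _ he) (by simp)
  have hb : ∀ i, b i = ![v, w *ᵥ v, w *ᵥ (w *ᵥ v)] i := fun i => by
    simp only [b, coe_basisOfLinearIndependentOfCardEqFinrank]
  have hT : ∀ i, toLin' u (b i) = ![l, ω * l, ω * (ω * l)] i • b i := fun i => by
    rw [hb]; exact (he i).apply_eq_smul
  refine ⟨b, by rw [hb, hb]; rfl, by rw [hb, hb]; rfl, fun g hg i => ⟨b.repr (g *ᵥ b i) i, ?_⟩⟩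
  have hx : toLin' u (g *ᵥ b i) = ![l, ω * l, ω * (ω * l)] i • (g *ᵥ b i) := by
    rw [← mulVec_smul, ← hT, toLin'_apply, toLin'_apply, mulVec_mulVec, mulVec_mulVec, hg]
  refine b.ext_elem fun j => ?_
  rcases eq_or_ne i j with rfl | hij
  · simp
  · have := us0_coord b _ _ (j := j) hT hx
    rw [(mul_eq_zero.1 this).resolve_left (sub_ne_zero.2 fun e => hij (hi e).symm)]
    simp [hij]

theorem us0_invol [IsAlgClosed F] [CharP F 2] {u w g : Matrix (Fin 3) (Fin 3) F} (hu : u.det = 1)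
    (hw : w.det = 1) {ω : F} (h : u * w = ω • (w * u)) (h1 : ω ≠ 1) (hg : g * u = u * g)
    (h2 : g * g = 1) : g = 1 := by
  obtain ⟨b, -, -, hb⟩ := us0_heis hu hw h h1
  refine us0_ext b fun i => ?_
  obtain ⟨c, hc⟩ := hb g hg i
  have : (c * c) • b i = (1 : F) • b i := by
    rw [← smul_smul, ← hc, ← mulVec_smul, ← hc, mulVec_mulVec, h2, one_mulVec, one_smul]
  have e := smul_left_injective F (b.ne_zero i) this
  rw [mul_self_eq_one_iff, CharTwo.neg_eq, or_self] at e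
  rw [hc, e, one_smul, one_mulVec]

theorem us0_scal [IsAlgClosed F] {u w g : Matrix (Fin 3) (Fin 3) F} (hu : u.det = 1)
    (hw : w.det = 1) {ω : F} (h : u * w = ω • (w * u)) (h1 : ω ≠ 1) (hg : g * u = u * g)
    (h2 : g * w = w * g) : ∃ c : F, g = c • 1 := by
  obtain ⟨b, e1, e2, hb⟩ := us0_heis hu hw h h1
  obtain ⟨c, hc⟩ := hb g hg 0
  have st : ∀ x, g *ᵥ x = c • x → g *ᵥ (w *ᵥ x) = c • (w *ᵥ x) := fun x hx => by
    rw [mulVec_mulVec, h2, ← mulVec_mulVec, hx, mulVec_smul]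
  have h1' : g *ᵥ b 1 = c • b 1 := e1 ▸ st _ hc
  refine ⟨c, us0_ext b fun i => ?_⟩
  rw [smul_mulVec, one_mulVec]
  fin_cases i
  exacts [hc, h1', e2 ▸ st _ h1']

theorem us0_abel {H : Type*} [Group H] [IsAlgClosed F] (σ : H →* SL(3, F))
    (hirr : ∀ W : Submodule F (Fin 3 → F), (∀ g, ∀ x ∈ W, (σ g).1 *ᵥ x ∈ W) → W = ⊥ ∨ W = ⊤)
    (M : Subgroup H) [hM : M.Normal] (hc : ∀ x ∈ M, ∀ y ∈ M, x * y = y * x) {N : ℕ}
    (hN : (N : F) ≠ 0) (hp : ∀ x ∈ M, x ^ N = 1) {m : H} (hm : m ∈ M)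
    (hs : ∀ c : F, (σ m).1 ≠ c • 1) :
    ∃ B : GL (Fin 3) F, ∀ g j, ∃ (i : Fin 3) (c : F), (σ g).1 *ᵥ (B.1.col j) = c • B.1.col i := by
  let R : H →* Module.End F (Fin 3 → F) :=
    { toFun g := toLin' (σ g).1
      map_one' := by simp [Module.End.one_eq_id]
      map_mul' x y := by simp [toLin'_mul, Module.End.mul_eq_comp] }
  have hR : ∀ g x, R g x = (σ g).1 *ᵥ x := fun g x => toLin'_apply _ _
  let π : M → Module.End F (Fin 3 → F) := fun a => R a
  let s : H → M → M := fun g a => ⟨g⁻¹ * a * g⁻¹⁻¹, hM.conj_mem _ a.2 _⟩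
  have mv : ∀ g l, ∀ x ∈ LS.wsp π l, R g x ∈ LS.wsp π (l ∘ s g) := fun g l x hx a => by
    have : π a * R g = R g * π (s g a) := by
      simp only [π, s, ← map_mul]; congr 1; group
    rw [← Module.End.mul_apply, this, Module.End.mul_apply, hx, map_smul]; rfl
  have top := LS.iSup_wsp_eq_top π (fun a b => by
    simp only [π, Commute, SemiconjBy, ← map_mul, hc a a.2 b b.2]) hN fun a => by
    simp only [π, ← map_pow, hp a a.2, map_one]
  have one : ∀ l, Module.finrank F (LS.wsp π l) ≤ 1 := fun l => by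
    by_contra hl
    have hl2 : l ∈ LS.wts π 2 := not_le.1 hl
    have inv : ∀ g, l ∘ s g = l := fun g => by
      by_contra hne
      have h2 := LS.mem_wts_conj R (fun a : M => (a : H)) hl2 g⁻¹ (s g) fun a => rfl
      have := LS.card_mul_le π 2 ![l ∘ s g, l] (by
        intro i j e; fin_cases i <;> fin_cases j <;> simp_all [eq_comm])
        (fun i => by fin_cases i; exacts [h2, hl2])
      simp at this
    rcases hirr (LS.wsp π l) (fun g x hx => by
      have := mv g l x hx; rwa [inv, hR] at this) with e | e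
    · rw [e] at hl; simp at hl
    · refine hs (l ⟨m, hm⟩) (toLin'.injective (LinearMap.ext fun x => ?_))
      have hx : x ∈ LS.wsp π l := e ▸ Submodule.mem_top
      simpa [π, hR] using hx ⟨m, hm⟩
  have hsp : Submodule.span F (⋃ l, (LS.wsp π l : Set (Fin 3 → F))) = ⊤ := by
    rw [Submodule.span_iUnion]; simpa using top
  obtain ⟨f, hf, -, hi⟩ := Submodule.exists_fun_fin_finrank_span_eq F
    (⋃ l, (LS.wsp π l : Set (Fin 3 → F)))
  have e3 : 3 = Module.finrank F (Submodule.span F (⋃ l, (LS.wsp π l : Set (Fin 3 → F)))) := by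
    rw [hsp]; simp
  have hi' := hi.comp (Fin.cast e3) (Fin.cast_injective e3)
  let b := basisOfLinearIndependentOfCardEqFinrank hi' (by simp)
  have hb : ∀ i, b i = f (Fin.cast e3 i) := fun i => by
    simp only [b, coe_basisOfLinearIndependentOfCardEqFinrank]; rfl
  choose χ hχ using fun i => Set.mem_iUnion.1 (hf (Fin.cast e3 i))
  simp only [← hb, SetLike.mem_coe] at hχ
  have hU : IsUnit (of b)ᵀ := linearIndependent_cols_iff_isUnit.1 b.linearIndependent
  refine ⟨hU.unit, fun g j => ?_⟩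
  show ∃ (i : Fin 3) (c : F), (σ g).1 *ᵥ b j = c • b i
  rw [← hR]
  rcases eq_or_ne (R g (b j)) 0 with e | e
  · exact ⟨0, 0, by rw [e, zero_smul]⟩
  obtain ⟨i, hi⟩ : ∃ i, b.repr (R g (b j)) i ≠ 0 := by
    by_contra hn
    push Not at hn
    exact e (b.ext_elem fun i => by simp [hn])
  have hx := mv g _ _ (hχ j)
  have : χ j ∘ s g = χ i := funext fun a => (sub_eq_zero.1 ((mul_eq_zero.1
    (us0_coord b (π a) (fun i => χ i a) (j := i) (fun k => hχ k a) (hx a))).resolve_right hi)).symm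
  rw [this] at hx
  obtain ⟨v, hv⟩ := finrank_le_one_iff.1 (one (χ i))
  obtain ⟨c, hc⟩ := hv ⟨_, hx⟩
  obtain ⟨c', hc'⟩ := hv ⟨_, hχ i⟩
  have h1 : c • (v : Fin 3 → F) = R g (b j) := congrArg Subtype.val hc
  have h2 : c' • (v : Fin 3 → F) = b i := congrArg Subtype.val hc'
  have h0 : c' ≠ 0 := fun e => b.ne_zero i (by rw [← h2, e, zero_smul])
  exact ⟨i, c / c', by rw [← h1, ← h2, smul_smul, div_mul_cancel₀ _ h0]⟩

theorem us0_sub {H : Type*} [Group H] (O Z : Subgroup H) [O.Normal] [hO : Group.IsSolvable O]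
    (h : ¬ O ≤ Z) : ∃ M : Subgroup H, M.Normal ∧ M ≤ O ∧ ¬ M ≤ Z ∧ ⁅M, M⁆ ≤ Z := by
  by_contra hn
  push Not at hn
  obtain ⟨n, hn0⟩ := hO.solvable
  have : ∀ n, (derivedSeries O n).map O.subtype ≤ Z → O ≤ Z := fun n => by
    induction n with
    | zero => simp [← MonoidHom.range_eq_map]
    | succ n ih =>
      intro hs
      rw [derivedSeries_succ, map_commutator] at hs
      by_contra hO
      exact hn _ inferInstance (map_subtype_le _) (fun e => hO (ih e)) hs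
  exact h (this n (by simp [hn0]))

/-- `H` is generated by three involutions `a b c` whose conjugates do not commute; then it is
monomial or `a b` has scalar cube -/
theorem mono_three {H : Type*} [Group H] [Finite H] [IsAlgClosed F] [CharP F 2]
    (σ : H →* SL(3, F)) (hσ : Function.Injective σ)
    (hirr : ∀ W : Submodule F (Fin 3 → F), (∀ g, ∀ x ∈ W, (σ g).1 *ᵥ x ∈ W) → W = ⊥ ∨ W = ⊤)
    {D : Set H} (hD : closure D = ⊤) (h2 : ∀ d ∈ D, orderOf d = 2)
    (hc : ∀ d ∈ D, ∀ g, g * d * g⁻¹ ∈ D) (hn : ∀ d ∈ D, ∀ e ∈ D, d * e = e * d → d = e) :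
    (∃ B : GL (Fin 3) F, ∀ g j, ∃ (i : Fin 3) (c : F),
      (σ g).1 *ᵥ (B.1.col j) = c • B.1.col i) ∨
    ∀ a ∈ D, ∀ b ∈ D, ∃ c : F, (σ ((a * b) ^ 3)).1 = c • 1 := by
  have _ := hD
  let Z : Subgroup H := (center SL(3, F)).comap σ
  have hZ : ∀ g, g ∈ Z ↔ ∃ c : F, (σ g).1 = c • 1 := fun g => by
    refine ⟨fun h => ?_, fun ⟨c, h⟩ => Subgroup.mem_center_iff.2 fun x => Subtype.ext ?_⟩
    · obtain ⟨r, -, hr⟩ := Matrix.SpecialLinearGroup.mem_center_iff.1 h
      exact ⟨r, by rw [← hr, scalar_apply, smul_one_eq_diagonal]⟩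
    · simp [h]
  have mul : ∀ x y, (σ (x * y)).1 = (σ x).1 * (σ y).1 := fun x y => by rw [map_mul]; rfl
  have cm : ∀ x y, x * y * x⁻¹ * y⁻¹ ∈ Z → ∃ c : F, (σ x).1 * (σ y).1 = c • ((σ y).1 * (σ x).1) :=
    fun x y h => by
      obtain ⟨c, h⟩ := (hZ _).1 h
      exact ⟨c, by rw [← mul, ← mul, show x * y = x * y * x⁻¹ * y⁻¹ * (y * x) by group, mul, h,
        smul_mul_assoc, one_mul]⟩
  have dd : ∀ d ∈ D, d * d = 1 := fun d hd => by rw [← pow_two, ← h2 d hd, pow_orderOf_eq_one]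
  have dm : ∀ d ∈ D, (σ d).1 * (σ d).1 = 1 := fun d hd => by rw [← mul, dd d hd, map_one]; rfl
  have c1 : ∀ d ∈ D, ∀ x (c : F), (σ d).1 * (σ x).1 = c • ((σ x).1 * (σ d).1) →
      (σ d).1 * (σ x).1 = (σ x).1 * (σ d).1 := fun d hd x c h =>
    us0_one (σ d).2 (σ x).2 (dm d hd) h
  by_cases hO : pPrimeCore 2 H ≤ Z
  · refine Or.inr fun a ha b hb => ⟨1, ?_⟩
    obtain ⟨c, h⟩ := cm a b (hO (ZStar.zstar ⟨h2 a ha, fun g hg =>
      (hn a ha _ (hc a ha g) hg).symm⟩ b))
    have := c1 a ha b c h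
    rw [← mul, ← mul] at this
    rw [← hn a ha b hb (hσ (Subtype.ext this)), dd a ha, one_pow, map_one, one_smul]; rfl
  have := FT.odd_subgroup_solvable (Core.odd_card_oddCore H)
  obtain ⟨M, hM, hMO, hMZ, hMM⟩ := us0_sub _ Z hO
  have hcm : ∀ x ∈ M, ∀ y ∈ M, ∃ c : F, (σ x).1 * (σ y).1 = c • ((σ y).1 * (σ x).1) :=
    fun x hx y hy => cm x y (hMM (commutator_mem_commutator hx hy))
  by_cases hab : ∀ x ∈ M, ∀ y ∈ M, x * y = y * x
  · obtain ⟨m, hm, hs⟩ := SetLike.not_le_iff_exists.1 hMZ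
    refine Or.inl (us0_abel σ hirr M hab (N := Nat.card (pPrimeCore 2 H)) ?_
      (fun x hx => ?_) hm fun c e => hs ((hZ m).2 ⟨c, e⟩))
    · rw [Ne, CharP.cast_eq_zero_iff F 2, ← even_iff_two_dvd, Nat.not_even_iff_odd]
      exact Core.odd_card_oddCore H
    · exact congrArg Subtype.val (pow_card_eq_one' (x := (⟨x, hMO hx⟩ : pPrimeCore 2 H)))
  push Not at hab
  obtain ⟨x, hx, y, hy, hxy⟩ := hab
  obtain ⟨ω, hω⟩ := hcm x hx y hy
  have h1 : ω ≠ 1 := fun e => hxy (hσ (Subtype.ext (by rw [mul, mul, hω, e, one_smul])))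
  have key : ∀ a ∈ D, ∀ m ∈ M, m * (a * m * a⁻¹) ∈ Z := fun a ha m hm => by
    have hu : m * (a * m * a⁻¹) ∈ M := mul_mem hm (hM.conj_mem m hm a)
    have ai : a⁻¹ = a := inv_eq_of_mul_eq_one_right (dd a ha)
    obtain ⟨c, h⟩ := hcm _ (hM.conj_mem m hm a) m hm
    have h' := c1 a ha (m * (a * m * a⁻¹)) c (by
      have e1 : a * (m * (a * m * a⁻¹)) = a * m * a⁻¹ * m * a := by rw [ai]; group
      rw [← mul, e1, mul, mul _ m, h, smul_mul_assoc, ← mul])
    have ne : ∀ w ∈ M, (σ (m * (a * m * a⁻¹))).1 * (σ w).1 =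
        (σ w).1 * (σ (m * (a * m * a⁻¹))).1 := fun w hw => by
      obtain ⟨r, hr⟩ := hcm _ hu w hw
      by_cases h1 : r = 1
      · rw [hr, h1, one_smul]
      have := us0_invol (σ _).2 (σ w).2 hr h1 h' (dm a ha)
      have e : a = 1 := hσ (Subtype.ext (by rw [this, map_one]; rfl))
      simpa [e] using h2 a ha
    exact (hZ _).2 (us0_scal (σ x).2 (σ y).2 hω h1 (ne x hx) (ne y hy))
  have fin : ∀ a ∈ D, ∀ b ∈ D, ∀ m ∈ M,
      (σ ((a * b) ^ 3)).1 * (σ m).1 = (σ m).1 * (σ ((a * b) ^ 3)).1 := fun a ha b hb m hm => by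
    obtain ⟨c, h⟩ := cm (a * b) m (by
      have := mul_mem ((inferInstance : Z.Normal).conj_mem _ (key b hb m hm) (a * m⁻¹))
        (inv_mem (key a ha m hm))
      convert this using 1
      group)
    rw [map_pow]
    exact us0_pow (σ _).2 (σ m).2 h
  exact Or.inr fun a ha b hb => us0_scal (σ x).2 (σ y).2 hω h1 (fin a ha b hb x hx)
    (fin a ha b hb y hy)

end CfsgLib.D5
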