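import Cfsg.Agent.Lib.D5.Eig
import Cfsg.Agent.Lib.Mit.TrPSL

/-!
W3A: `L₂(11)` permutes eleven vectors of `F₃⁵` (or of the dual).  See `plans/D5.md`.
-/

set_option autoImplicit false

namespace CfsgLib.D5

open Matrix Cfsg Cfsg.Geo CfsgLib.Asch Subgroup
open scoped MatrixGroups

variable {G F : Type*} [Group G] [Field F] {ρ : G →* S5 F}

namespace W3a

open Mit.Tr (U pm)

theorem isConj_of {g x y : G} (h : g * x = y * g) : IsConj x y :=
  isConj_iff.2 ⟨g, by rw [h, mul_inv_cancel_right]⟩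

theorem ker_rk (g : G) : Module.finrank F (LinearMap.ker (toLin' (mt ρ g) - 1)) + rk ρ g = 5 := by
  have e : toLin' (mt ρ g) - 1 = mulVecLin (mt ρ g - 1) := by
    rw [← toLin'_apply', map_sub, toLin'_one]; rfl
  have := (mulVecLin (mt ρ g - 1)).finrank_range_add_finrank_ker
  rw [Module.finrank_fin_fun] at this
  rw [e, add_comm]
  exact this

/-- Scott's inequality: a common fixed vector or a common fixed functional -/
theorem fix_or {a b : G} (h : rk ρ a + rk ρ b + rk ρ (a * b) < 10) : ∃ v : V5 F, v ≠ 0 ∧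
    (mt ρ a *ᵥ v = v ∧ mt ρ b *ᵥ v = v ∨ mt (dual ρ) a *ᵥ v = v ∧ mt (dual ρ) b *ᵥ v = v) := by
  have h1 := TriGen.scott (toLin' (mt ρ a)) (toLin' (mt ρ b))
  have e : toLin' (mt ρ a) * toLin' (mt ρ b) = toLin' (mt ρ (a * b)) := by
    rw [mt_mul, toLin'_mul]; rfl
  have h2 := ker_rk (ρ := ρ) a
  have h3 := ker_rk (ρ := ρ) b
  have h4 := ker_rk (ρ := ρ) (a * b)
  rw [e, Module.finrank_fin_fun] at h1
  by_cases hk : (LinearMap.ker (toLin' (mt ρ a) - 1) ⊓ LinearMap.ker (toLin' (mt ρ b) - 1)) = ⊥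
  · rw [hk, finrank_bot] at h1
    obtain ⟨f, hf0, hf⟩ := Submodule.exists_le_ker_of_lt_top
      (LinearMap.range (toLin' (mt ρ a) - 1) ⊔ LinearMap.range (toLin' (mt ρ b) - 1))
      (lt_top_iff_ne_top.2 fun e => by rw [e, finrank_top, Module.finrank_fin_fun] at h1; omega)
    obtain ⟨v, rfl⟩ := (dotProductEquiv F (Fin 5)).surjective f
    have key : ∀ g, LinearMap.range (toLin' (mt ρ g) - 1) ≤ LinearMap.ker (dotProductEquiv F (Fin 5) v) →
        mt (dual ρ) g *ᵥ v = v := fun g hg => by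
      have h5 : v ᵥ* mt ρ g = v := funext fun i => by
        have : v ⬝ᵥ (mt ρ g *ᵥ Pi.single i 1 - Pi.single i 1) = 0 := hg ⟨Pi.single i 1, rfl⟩
        rw [dotProduct_sub, dotProduct_mulVec, dotProduct_single_one, dotProduct_single_one] at this
        exact sub_eq_zero.1 this
      rw [mt_dual, mulVec_transpose]
      conv_lhs => rw [← h5, vecMul_vecMul, mt_mul_inv, vecMul_one]
    exact ⟨v, fun e => hf0 (by rw [e, map_zero]),
      Or.inr ⟨key a (le_sup_left.trans hf), key b (le_sup_right.trans hf)⟩⟩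
  · obtain ⟨v, hv, hv0⟩ := Submodule.exists_mem_ne_zero_of_ne_bot hk
    exact ⟨v, hv0, Or.inl ⟨sub_eq_zero.1 hv.1, sub_eq_zero.1 hv.2⟩⟩

/-- a real element fixes a vector -/
theorem rk_real (h2 : (2 : F) ≠ 0) {g : G} (h : IsConj g g⁻¹) : rk ρ g ≤ 4 := by
  obtain ⟨k, hk⟩ := isConj_iff.1 h
  have e1 : mt ρ g⁻¹ - 1 = mt ρ k * (mt ρ g - 1) * mt ρ k⁻¹ := by
    rw [mul_sub, sub_mul, mul_one, mt_mul_inv, ← mt_mul, ← mt_mul, hk]
  have e2 : mt ρ g⁻¹ - 1 = mt ρ g⁻¹ * -(mt ρ g - 1) := by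
    rw [neg_sub, mul_sub, mul_one, mt_inv_mul]
  have e3 := congrArg det (e1.symm.trans e2)
  rw [det_mul, det_mul, det_mul, det_mt, det_mt, det_mt, det_neg, Fintype.card_fin] at e3
  have e4 : (mt ρ g - 1).det = 0 := (mul_eq_zero.1 (by linear_combination e3)).resolve_left h2
  obtain ⟨v, hv0, hv⟩ := exists_mulVec_eq_zero_iff.2 e4
  have h5 := ker_rk (ρ := ρ) g
  have : Module.finrank F (LinearMap.ker (toLin' (mt ρ g) - 1)) ≠ 0 := fun e => hv0 (by
    have hm : v ∈ LinearMap.ker (toLin' (mt ρ g) - 1) := by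
      rw [sub_mulVec, one_mulVec] at hv
      exact hv
    rwa [Submodule.finrank_eq_zero.1 e] at hm)
  omega

instance fact11 : Fact (Nat.Prime 11) := ⟨by norm_num⟩

abbrev L := SL(2, ZMod 11)

def n : L := ⟨!![10, 0; 0, 10], by decide +kernel⟩
def u : L := ⟨!![1, 1; 0, 1], by decide +kernel⟩
def l : L := ⟨!![1, 0; 1, 1], by decide +kernel⟩
def a : L := ⟨!![0, 10; 1, 0], by decide +kernel⟩
def a' : L := ⟨!![7, 7; 7, 4], by decide +kernel⟩
def b : L := ⟨!![3, 1; 9, 7], by decide +kernel⟩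
def r : L := ⟨!![0, 4; 8, 0], by decide +kernel⟩
def t : L := ⟨!![1, 5; 6, 9], by decide +kernel⟩

theorem facts : a * a = n ∧ a' * a' = n ∧ a * a' = a' * a * n ∧ t * a = a' * t ∧
    t * t * a = a * a' * (t * t) * n ∧ b ^ 3 = 1 ∧ a * b * r * (a * b) = r ∧ n.1 = scalar (Fin 2) 10 ∧
    u ^ 11 = 1 ∧ u * l ≠ l * u := by
  decide +kernel

def wd (w : List ℕ) : L := (w.map fun k => a * b ^ k).prod

theorem words : ∀ i < 11, ∃ j < 11, ∃ w ∈ [[1, 2], [2, 2], [1, 2, 1, 2, 1], [0, 2, 1, 2, 2], [2, 2, 1, 1],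
    [2, 2, 2], [0, 0, 2, 0], [1, 0], [0, 1, 2, 0], [1, 2, 0], [0]], l * u ^ i = u ^ j * wd w := by
  decide +kernel

theorem tv : ∀ (i j : Fin 2) (h : i ≠ j), SpecialLinearGroup.transvection h (1 : ZMod 11) = u ∨
    SpecialLinearGroup.transvection h (1 : ZMod 11) = l := by
  decide +kernel

theorem orbit (τ : L →* S5 F) {v : V5 F} (ha : mt τ a *ᵥ v = v) (hb : mt τ b *ᵥ v = v) (g : L) :
    ∃ i : ℕ, mt τ g *ᵥ v = mt τ (u ^ i) *ᵥ v := by
  let K : Submonoid L := ⟨⟨{k | mt τ k *ᵥ v = v}, fun {x y} hx hy => by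
    change mt τ (x * y) *ᵥ v = v
    rw [mt_mul, ← mulVec_mulVec, hy, hx]⟩, by change mt τ 1 *ᵥ v = v; rw [mt_one, one_mulVec]⟩
  have hw : ∀ w, wd w ∈ K := fun w => list_prod_mem fun x hx => by
    obtain ⟨k, -, rfl⟩ := List.mem_map.1 hx
    exact mul_mem ha (pow_mem (S := K) hb k)
  have key : ∀ i : ℕ, ∃ j : ℕ, mt τ (g * u ^ i) *ᵥ v = mt τ (u ^ j) *ᵥ v := by
    have hg : g ∈ (Subgroup.closure _).toSubmonoid :=
      Classical.sl_closure_transvection_of_addClosure (ι := Fin 2) ({1} : Set (ZMod 11))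
        (Classical.zmod_addClosure_one 11) ▸ mem_top g
    rw [closure_toSubmonoid_of_finite] at hg
    induction hg using Submonoid.closure_induction with
    | mem x hx =>
      obtain ⟨i, j, hij, c, rfl, rfl⟩ := hx
      intro k
      rcases tv i j hij with e | e <;> rw [e]
      · exact ⟨k + 1, by rw [pow_succ']⟩
      · obtain ⟨j, -, w, -, hj⟩ := words (k % 11) (Nat.mod_lt _ (by norm_num))
        refine ⟨j, ?_⟩
        rw [pow_eq_pow_mod k facts.2.2.2.2.2.2.2.2.1, hj, mt_mul, ← mulVec_mulVec, hw w]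
    | one => exact fun k => ⟨k, by rw [one_mul]⟩
    | mul x y _ _ hx hy =>
      intro k
      obtain ⟨j, hj⟩ := hy k
      obtain ⟨m, hm⟩ := hx j
      exact ⟨m, by rw [mul_assoc, mt_mul, ← mulVec_mulVec, hj, mulVec_mulVec, ← mt_mul, hm]⟩
  simpa using key 0

theorem aut11 (α : MulAut PSL(2, ZMod 11)) :
    ∃ y, (∀ s, α s = y * s * y⁻¹) ∨ α (U 1) = y * (U 1)⁻¹ * y⁻¹ := by
  obtain ⟨y, d, σ, rfl | rfl, -, h⟩ := Mit.Tr.aut_tw (ν := -1) (by decide) α
  · obtain rfl : σ = 1 := Subsingleton.elim _ _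
    exact ⟨y, Or.inl fun s => by rw [h, Mit.Tr.tw_one]⟩
  · exact ⟨y, Or.inr (by rw [h, Mit.Tr.tw_U, ← Mit.Tr.U_neg]; simp)⟩

theorem U_pow : U (1 : ZMod 11) ^ 11 = 1 := by rw [Mit.Tr.U_pow, Mit.Tr.U_eq_one_iff]; decide

theorem U_ne : U (1 : ZMod 11) ≠ 1 := by rw [Ne, Mit.Tr.U_eq_one_iff]; decide

theorem U_conj : ∃ y : PSL(2, ZMod 11), y * U 1 * y⁻¹ = U 1 ^ 4 := by
  obtain ⟨y, hy⟩ := Mit.Tr.exists_conj_sq (e := (2 : ZMod 11)) (by decide)
  exact ⟨y, by rw [hy, Mit.Tr.U_pow]; rfl⟩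

theorem ord4 : orderOf ((4 : ℕ) : ZMod 11) = 5 :=
  haveI : Fact (Nat.Prime 5) := ⟨by norm_num⟩
  orderOf_eq_prime (by decide) (by decide)

theorem tr_ne (h11 : (11 : F) ≠ 0) (hi : Function.Injective ρ) (e : G ≃* PSL(2, ZMod 11)) :
    tr ρ (e.symm (U 1))⁻¹ ≠ tr ρ (e.symm (U 1)) := fun h => by
  let f := algebraMap F (AlgebraicClosure F)
  obtain ⟨y, hy⟩ := U_conj
  have h11' : (11 : AlgebraicClosure F) ≠ 0 := fun e => h11 (f.injective (by
    rw [map_ofNat, e, map_zero]))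
  obtain ⟨-, h1, h2⟩ := tr_eleven (ρ := bc ρ f) h11' (u := e.symm (U 1)) (x := e.symm y) (k := 4)
    (by rw [← map_pow, U_pow, map_one])
    (fun h => U_ne ((MulEquiv.map_eq_one_iff _).1 (mt_inj (bc_injective hi f) (h.trans mt_one.symm))))
    (by rw [← map_inv, ← map_mul, ← map_mul, hy, map_pow]) ord4
  rw [tr_bc, h, ← tr_bc] at h2
  exact h11' (by linear_combination 4 * h1 - (2 * tr (bc ρ f) (e.symm (U 1)) + 1) * h2)

end W3a

open W3a

theorem exists_eleven [Finite G] [CharP F 3] (h : Hy ρ) (e : G ≃* PSL(2, ZMod 11)) :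
    ∃ (u : G) (v : V5 F), orderOf u = 11 ∧ v ≠ 0 ∧
      ((∀ g, ∃ i : ℕ, mt ρ g *ᵥ v = mt ρ (u ^ i) *ᵥ v) ∨
        ∀ g, ∃ i : ℕ, mt (dual ρ) g *ᵥ v = mt (dual ρ) (u ^ i) *ᵥ v) := by
  let η : L →* G := e.symm.toMonoidHom.comp (QuotientGroup.mk' _)
  have hs : Function.Surjective η := e.symm.surjective.comp (QuotientGroup.mk'_surjective _)
  have hη : ∀ g, η g = 1 ↔ g ∈ center L := fun g =>
    (MulEquiv.map_eq_one_iff e.symm).trans (QuotientGroup.eq_one_iff g)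
  obtain ⟨f1, f2, f3, f4, f5, f6, f7, f8, f9, f10⟩ := facts
  have hn : η n = 1 := (hη n).2 (Matrix.SpecialLinearGroup.mem_center_iff.2 ⟨10, by decide, f8.symm⟩)
  have h2 := rk_two (ρ := ρ) (a := η a) (b := η a') (by rw [← map_mul, f1, hn]) (by rw [← map_mul, f2, hn])
    (by simpa [hn] using congrArg η f3) (isConj_of (g := η t) (by simpa using congrArg η f4))
    (isConj_of (g := η t * η t) (by simpa [hn] using congrArg η f5))
  have h3 := rk_three (ρ := ρ) (g := η b) (by rw [← map_pow, f6, map_one])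
  have h4 := rk_real (ρ := ρ) (by
      rw [Ne, show (2 : F) = ((2 : ℕ) : F) by simp, CharP.cast_eq_zero_iff F 3]; norm_num)
    (g := η a * η b) (isConj_of (g := η r) (by
      rw [eq_inv_mul_iff_mul_eq, ← mul_assoc]; simpa using congrArg η f7))
  obtain ⟨v, hv, h5⟩ := fix_or (ρ := ρ) (a := η a) (b := η b) (by omega)
  refine ⟨η u, v, orderOf_eq_prime (by rw [← map_pow, f9, map_one])
    fun e => f10 (mem_center_iff.1 ((hη u).1 e) l).symm, hv, h5.imp (fun h5 g => ?_) fun h5 g => ?_⟩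
  · obtain ⟨g, rfl⟩ := hs g
    simpa only [mt_comp, map_pow] using orbit (ρ.comp η) h5.1 h5.2 g
  · obtain ⟨g, rfl⟩ := hs g
    simpa only [mt_comp, map_pow] using orbit ((dual ρ).comp η) h5.1 h5.2 g

/-- `L₂(11)` is self-normalising in `SL₅(3)` -/
theorem eq_of_core [Fintype F] (hF : Fintype.card F = 3) {H P : Subgroup (GL (Fin 5) F)}
    (hH : H ≤ specialLinear (Fin 5) F) (hP : IsResidualCore H P) (e : P ≃* PSL(2, ZMod 11)) :
    H = P := by
  have h3 : (3 : F) = 0 := by simpa [hF] using FiniteField.cast_card_eq_zero F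
  have h11 : (11 : F) ≠ 0 := fun h => one_ne_zero (α := F) (by linear_combination 4 * h3 - h)
  have hPS := hP.le.trans hH
  have hy := hy_of_core hP hPS
  refine le_antisymm (fun h hh => ?_) hP.le
  have hN : h ∈ normalizer (P : Set (GL (Fin 5) F)) := mem_normalizer_iff.2 fun x =>
    ⟨hP.normal h hh x, fun hx => by simpa [mul_assoc] using hP.normal h⁻¹ (inv_mem hh) _ hx⟩
  let β : MulAut P := P.normalizerMonoidHom ⟨h, hN⟩
  have hβ : ∀ x : P, (β x : GL (Fin 5) F) = h * x * h⁻¹ := fun x => rfl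
  obtain ⟨y, hα | hα⟩ := aut11 (e.symm.trans (β.trans e))
  · have h1 : ∀ x : P, h * x * h⁻¹ = e.symm y * x * (e.symm y : GL (Fin 5) F)⁻¹ := fun x => by
      have := congrArg (fun s => (e.symm s : GL (Fin 5) F)) (hα (e x))
      simpa [hβ] using this
    obtain ⟨c, hc⟩ := hy.abs.comm (x := (((e.symm y : GL (Fin 5) F)⁻¹ * h : GL (Fin 5) F) : M5 F)) fun x => by
      rw [mt_ofSub, ← Units.val_mul, ← Units.val_mul]
      congr 1
      calc _ = (e.symm y : GL (Fin 5) F)⁻¹ * (h * x * h⁻¹) * h := by group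
        _ = _ := by rw [h1]; group
    have h2 := mem_SL.1 (mul_mem (inv_mem (hPS (e.symm y).2)) (hH hh))
    rw [hc, det_smul, det_one, mul_one, Fintype.card_fin] at h2
    have h4 := FiniteField.pow_card c
    rw [hF] at h4
    obtain rfl : c = 1 := by linear_combination h2 - (c ^ 2 + 1) * h4
    have h5 : (e.symm y : GL (Fin 5) F)⁻¹ * h = 1 := Units.ext (by rw [hc, one_smul, Units.val_one])
    rw [← inv_mul_eq_one.1 h5]
    exact (e.symm y).2
  · refine absurd ?_ (tr_ne h11 hy.inj e)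
    have h1 : β (e.symm (Mit.Tr.U 1)) = e.symm y * (e.symm (Mit.Tr.U 1))⁻¹ * (e.symm y)⁻¹ := by
      simpa using congrArg e.symm hα
    rw [← tr_conj (e.symm y), ← h1, tr, tr, mt_ofSub, mt_ofSub, hβ, Units.val_mul, Units.val_mul,
      trace_mul_comm, ← Matrix.mul_assoc, Units.inv_mul, Matrix.one_mul]

end CfsgLib.D5
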